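import Mathlib

/-! Breadth-first certificate for the transitivity of M24 on dodecads. -/

namespace Cfsg.Lib.Golay

def dodLayer0 : List (ℕ × ℕ) := [
  (0, 0), (1, 0)]

def dodLayer1 : List (ℕ × ℕ) := [
  (0, 0), (1, 0), (2, 0), (0, 1)]

def dodLayer2 : List (ℕ × ℕ) := [
  (0, 0), (1, 0), (2, 0), (0, 1), (2, 1), (0, 2), (2, 2), (0, 3), (1, 3), (2, 3)]

def dodLayer3 : List (ℕ × ℕ) := [
  (0, 0), (1, 0), (2, 0), (0, 1), (2, 1), (0, 2), (2, 2), (0, 3), (1, 3), (2, 3),
  (0, 4), (2, 4), (0, 5), (1, 5), (2, 5), (0, 6), (2, 6), (0, 7), (1, 7), (2, 7),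
  (0, 8), (2, 8), (0, 9), (2, 9)]

def dodLayer4 : List (ℕ × ℕ) := [
  (0, 0), (1, 0), (2, 0), (0, 1), (2, 1), (0, 2), (2, 2), (0, 3), (1, 3), (2, 3),
  (0, 4), (2, 4), (0, 5), (1, 5), (2, 5), (0, 6), (2, 6), (0, 7), (1, 7), (2, 7),
  (2, 8), (0, 9), (2, 9), (0, 10), (1, 10), (2, 10), (0, 11), (2, 11), (0, 12), (1, 12),
  (2, 12), (0, 13), (2, 13), (0, 14), (2, 14), (0, 15), (1, 15), (0, 16), (0, 17), (1, 17),
  (2, 17), (0, 18), (2, 18), (0, 19), (2, 19), (0, 20), (1, 20), (2, 20), (0, 21), (2, 21),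
  (0, 22), (1, 22), (2, 22), (0, 23), (2, 23)]

def dodLayer5 : List (ℕ × ℕ) := [
  (0, 0), (1, 0), (2, 0), (0, 1), (2, 1), (0, 2), (2, 2), (0, 3), (1, 3), (0, 4),
  (2, 4), (0, 5), (1, 5), (2, 5), (0, 6), (2, 6), (0, 7), (1, 7), (2, 7), (2, 8),
  (0, 9), (2, 9), (0, 10), (1, 10), (2, 10), (0, 11), (2, 11), (0, 12), (1, 12), (2, 12),
  (0, 13), (2, 13), (0, 14), (2, 14), (0, 15), (2, 15), (0, 16), (2, 16), (0, 17), (1, 17),
  (0, 18), (2, 18), (0, 19), (2, 19), (0, 20), (2, 20), (0, 21), (1, 21), (2, 21), (0, 22),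
  (2, 22), (0, 23), (1, 23), (2, 23), (0, 24), (2, 24), (0, 25), (2, 25), (0, 26), (1, 26),
  (2, 26), (0, 27), (0, 28), (1, 28), (2, 28), (0, 29), (2, 29), (0, 30), (2, 30), (0, 31),
  (1, 31), (2, 31), (0, 32), (2, 32), (0, 33), (1, 33), (2, 33), (0, 34), (2, 34), (0, 35),
  (1, 35), (2, 35), (0, 36), (0, 37), (1, 37), (2, 37), (0, 38), (1, 38), (2, 38), (0, 39),
  (2, 39), (2, 40), (0, 41), (1, 41), (2, 41), (0, 42), (2, 42), (0, 43), (1, 43), (2, 43),
  (2, 44), (0, 45), (1, 45), (2, 45), (2, 46), (0, 47), (2, 47), (0, 48), (1, 48), (2, 48),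
  (2, 49), (0, 50), (1, 50), (2, 50), (0, 51), (0, 52), (2, 52), (0, 53), (1, 53)]

def dodLayer6 : List (ℕ × ℕ) := [
  (0, 0), (1, 0), (0, 1), (2, 1), (0, 2), (2, 2), (0, 3), (1, 3), (2, 3), (0, 4),
  (2, 4), (0, 5), (1, 5), (2, 5), (0, 6), (2, 6), (0, 7), (1, 7), (2, 7), (0, 9),
  (1, 9), (2, 9), (0, 10), (2, 10), (0, 11), (1, 11), (2, 11), (0, 12), (2, 12), (0, 13),
  (2, 13), (0, 14), (1, 14), (2, 14), (0, 15), (2, 15), (0, 16), (1, 16), (2, 17), (0, 18),
  (2, 18), (0, 19), (2, 19), (0, 20), (1, 20), (2, 20), (0, 21), (2, 21), (0, 22), (1, 22),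
  (2, 22), (0, 23), (2, 23), (0, 24), (2, 24), (0, 25), (1, 25), (2, 25), (0, 26), (2, 26),
  (0, 27), (1, 27), (2, 27), (0, 28), (2, 28), (0, 29), (2, 29), (2, 30), (0, 31), (2, 31),
  (0, 32), (1, 32), (2, 32), (0, 33), (0, 34), (0, 35), (2, 35), (0, 36), (1, 36), (2, 36),
  (0, 37), (0, 38), (1, 38), (2, 38), (0, 39), (0, 40), (1, 40), (2, 40), (0, 41), (2, 41),
  (1, 42), (2, 42), (0, 43), (2, 43), (0, 44), (1, 44), (2, 44), (0, 45), (2, 45), (0, 46),
  (1, 46), (2, 46), (0, 47), (2, 47), (0, 48), (2, 48), (0, 49), (1, 49), (2, 49), (0, 50),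
  (2, 50), (0, 51), (1, 51), (0, 52), (2, 52), (0, 53), (0, 54), (1, 54), (2, 54), (0, 55),
  (2, 55), (0, 56), (1, 56), (2, 56), (0, 57), (2, 57), (0, 58), (1, 58), (2, 58), (0, 59),
  (2, 59), (0, 60), (2, 60), (0, 61), (1, 61), (2, 61), (0, 62), (1, 62), (2, 62), (2, 63),
  (0, 64), (2, 64), (1, 65), (2, 65), (0, 66), (2, 66), (0, 67), (1, 67), (2, 67), (0, 68),
  (2, 68), (0, 69), (1, 69), (2, 69), (2, 70), (0, 71), (2, 71), (0, 72), (2, 72), (0, 73),
  (2, 73), (0, 74), (1, 74), (2, 74), (2, 75), (0, 76), (2, 76), (0, 77), (2, 77), (2, 78),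
  (0, 79), (1, 79), (2, 79), (0, 80), (2, 80), (0, 81), (0, 82), (1, 82), (0, 83), (1, 83),
  (0, 84), (2, 84), (0, 85), (2, 85), (0, 86), (1, 86), (2, 86), (0, 87), (2, 87), (0, 88),
  (2, 88), (0, 89), (1, 89), (0, 90), (2, 90), (0, 91), (2, 91), (0, 92), (1, 92), (2, 92),
  (2, 93), (0, 94), (2, 94), (0, 95), (1, 95), (2, 95), (0, 96), (2, 96), (0, 97), (1, 97),
  (2, 97), (2, 98), (0, 99), (2, 99), (0, 100), (2, 100), (0, 101), (1, 101), (0, 102), (2, 102),
  (0, 103), (2, 103), (0, 104), (2, 104), (0, 105), (2, 105), (0, 106), (2, 106), (0, 107), (1, 107),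
  (2, 107), (0, 108), (2, 108), (0, 109), (2, 109), (0, 110), (0, 111), (1, 111), (2, 111), (0, 112),
  (2, 112), (0, 113), (2, 113), (0, 114), (1, 114), (2, 114), (0, 115), (1, 115), (2, 115), (0, 116),
  (2, 116), (0, 117), (1, 117), (2, 117), (0, 118)]

def dodLayer7 : List (ℕ × ℕ) := [
  (0, 0), (1, 0), (2, 0), (0, 1), (0, 2), (1, 2), (2, 2), (0, 3), (2, 3), (0, 4),
  (1, 4), (2, 4), (0, 5), (2, 5), (0, 6), (1, 6), (2, 6), (0, 8), (2, 8), (0, 9),
  (1, 9), (2, 9), (0, 10), (2, 10), (0, 11), (1, 11), (2, 11), (0, 12), (2, 12), (0, 13),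
  (2, 13), (0, 14), (1, 14), (2, 14), (0, 15), (0, 16), (1, 16), (2, 16), (0, 17), (2, 17),
  (0, 18), (2, 18), (0, 19), (1, 19), (2, 19), (0, 20), (2, 20), (2, 21), (0, 22), (2, 22),
  (0, 23), (2, 23), (0, 24), (1, 24), (2, 24), (2, 25), (2, 26), (0, 27), (2, 27), (0, 28),
  (2, 28), (0, 29), (1, 29), (2, 29), (0, 30), (2, 30), (0, 31), (1, 31), (2, 31), (0, 32),
  (2, 32), (0, 33), (2, 33), (1, 34), (0, 35), (0, 36), (1, 36), (2, 36), (0, 38), (2, 38),
  (0, 39), (1, 39), (2, 39), (0, 40), (2, 40), (0, 41), (1, 41), (2, 41), (2, 42), (0, 43),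
  (1, 43), (2, 43), (0, 44), (2, 44), (2, 45), (0, 46), (1, 46), (0, 47), (2, 47), (1, 48),
  (0, 49), (2, 49), (2, 50), (0, 51), (1, 51), (2, 51), (0, 52), (2, 52), (0, 53), (1, 53),
  (2, 53), (0, 54), (2, 54), (0, 55), (1, 55), (2, 55), (0, 56), (0, 57), (2, 57), (1, 58),
  (2, 58), (0, 59), (2, 60), (0, 61), (2, 61), (0, 62), (2, 62), (0, 63), (1, 63), (2, 63),
  (0, 64), (2, 64), (0, 65), (1, 65), (2, 65), (0, 66), (2, 66), (0, 67), (2, 67), (0, 68),
  (1, 68), (2, 68), (2, 70), (0, 71), (2, 71), (2, 72), (0, 73), (1, 73), (2, 73), (0, 74),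
  (1, 74), (2, 74), (0, 75), (1, 75), (2, 75), (0, 76), (2, 76), (0, 77), (1, 77), (2, 77),
  (2, 78), (0, 79), (2, 79), (0, 80), (1, 80), (0, 81), (1, 81), (2, 81), (0, 82), (2, 82),
  (0, 83), (2, 83), (0, 84), (2, 84), (0, 85), (1, 85), (2, 85), (2, 86), (0, 87), (1, 88),
  (2, 88), (2, 89), (0, 90), (2, 90), (2, 91), (0, 92), (1, 92), (2, 92), (0, 93), (2, 93),
  (0, 94), (1, 94), (2, 94), (0, 95), (2, 95), (0, 96), (2, 96), (0, 97), (1, 97), (2, 97),
  (2, 98), (0, 99), (1, 99), (2, 99), (0, 100), (2, 100), (0, 101), (2, 101), (0, 102), (1, 102),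
  (2, 102), (2, 103), (1, 104), (2, 104), (0, 105), (2, 105), (0, 106), (1, 106), (2, 106), (0, 107),
  (2, 107), (0, 108), (2, 108), (0, 109), (1, 109), (2, 109), (0, 110), (0, 111), (1, 111), (0, 112),
  (2, 113), (0, 114), (0, 115), (1, 115), (2, 115), (0, 116), (2, 116), (2, 117), (0, 118), (1, 119),
  (2, 119), (0, 120), (2, 120), (0, 121), (1, 121), (2, 121), (0, 122), (2, 122), (0, 123), (2, 123),
  (0, 124), (2, 124), (0, 125), (2, 125), (0, 126), (1, 126), (2, 126), (2, 127), (0, 128), (2, 128),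
  (0, 129), (1, 129), (2, 129), (0, 130), (2, 130), (0, 131), (1, 131), (2, 131), (0, 132), (0, 133),
  (1, 133), (0, 134), (2, 134), (0, 135), (2, 135), (0, 136), (1, 136), (2, 136), (2, 137), (2, 138),
  (0, 139), (2, 139), (0, 140), (0, 141), (2, 141), (2, 142), (0, 143), (0, 144), (1, 144), (2, 144),
  (0, 145), (2, 145), (2, 146), (0, 147), (2, 147), (0, 148), (2, 148), (0, 149), (1, 149), (2, 149),
  (0, 150), (2, 150), (0, 151), (1, 151), (2, 151), (0, 152), (2, 152), (0, 153), (2, 153), (2, 154),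
  (0, 155), (1, 155), (2, 155), (0, 156), (2, 156), (0, 157), (1, 157), (2, 158), (0, 159), (1, 159),
  (2, 159), (0, 160), (2, 160), (0, 161), (2, 161), (0, 162), (2, 163), (2, 164), (0, 165), (1, 165),
  (2, 165), (0, 166), (2, 166), (0, 167), (1, 167), (2, 167), (0, 168), (0, 169), (1, 170), (0, 171),
  (2, 171), (0, 172), (2, 172), (0, 173), (1, 173), (2, 173), (0, 175), (1, 175), (2, 175), (2, 176),
  (0, 178), (1, 178), (2, 178), (2, 180), (2, 181), (0, 182), (1, 182), (2, 182), (0, 183), (2, 183),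
  (0, 184), (1, 184), (0, 185), (2, 185), (0, 186), (2, 186), (0, 187), (1, 187), (2, 187), (2, 188),
  (0, 189), (1, 189), (2, 189), (0, 190), (2, 190), (0, 191), (1, 191), (2, 191), (1, 193), (2, 193),
  (0, 194), (2, 194), (0, 195), (2, 195), (0, 196), (2, 196), (0, 197), (1, 197), (2, 198), (0, 199),
  (2, 199), (0, 200), (2, 200), (0, 201), (1, 201), (2, 201), (0, 202), (2, 202), (0, 203), (1, 203),
  (2, 203), (2, 204), (0, 205), (2, 205), (0, 206), (1, 206), (2, 207), (1, 208), (2, 208), (0, 209),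
  (2, 209), (0, 211), (2, 211), (1, 212), (2, 212), (0, 214), (1, 214), (2, 214), (0, 216), (1, 216),
  (0, 217), (0, 218), (1, 218), (2, 218), (0, 219), (2, 219), (1, 220), (2, 220), (0, 221), (2, 221),
  (0, 222), (1, 222), (2, 222), (0, 223), (2, 223), (0, 224), (1, 224), (0, 225), (2, 225), (0, 226),
  (1, 226), (2, 226), (0, 227), (2, 227), (0, 228), (1, 228), (0, 229), (2, 229), (0, 230), (1, 231),
  (2, 231), (0, 232), (2, 232), (0, 233), (1, 233), (2, 233), (0, 234), (2, 234), (0, 235), (1, 235),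
  (2, 235), (0, 236), (1, 236), (2, 236), (2, 237), (2, 238), (1, 239), (2, 239), (0, 240), (0, 241),
  (2, 241), (0, 242), (2, 242), (0, 243), (2, 243), (2, 244), (0, 245), (2, 245), (0, 246), (1, 246),
  (2, 246), (2, 247), (0, 248), (2, 248), (0, 249), (2, 249), (2, 250), (0, 251), (1, 251), (2, 251),
  (2, 252), (0, 253), (1, 254)]

def dodLayer8 : List (ℕ × ℕ) := [
  (0, 0), (1, 0), (0, 1), (2, 1), (0, 2), (0, 3), (1, 3), (2, 3), (0, 4), (1, 4),
  (2, 4), (2, 5), (2, 6), (0, 7), (1, 7), (2, 7), (2, 8), (1, 9), (0, 10), (2, 10),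
  (0, 11), (2, 11), (0, 12), (1, 12), (0, 13), (2, 13), (0, 14), (1, 14), (2, 14), (0, 15),
  (2, 15), (2, 16), (0, 17), (1, 17), (2, 17), (2, 18), (0, 19), (1, 19), (2, 19), (0, 20),
  (2, 20), (2, 21), (1, 22), (2, 22), (0, 23), (0, 24), (1, 24), (0, 25), (2, 25), (0, 26),
  (2, 26), (0, 27), (1, 27), (2, 27), (0, 28), (2, 28), (0, 29), (1, 29), (2, 29), (0, 30),
  (2, 30), (2, 31), (0, 32), (2, 32), (0, 33), (2, 33), (0, 34), (1, 34), (2, 34), (1, 35),
  (2, 35), (0, 36), (0, 38), (1, 38), (2, 38), (2, 39), (0, 40), (1, 40), (0, 41), (2, 41),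
  (1, 42), (2, 42), (0, 43), (2, 43), (0, 44), (2, 44), (2, 45), (0, 46), (2, 46), (0, 47),
  (2, 47), (0, 49), (0, 50), (1, 50), (2, 50), (1, 52), (2, 52), (2, 53), (0, 54), (2, 54),
  (0, 55), (0, 56), (2, 56), (0, 57), (0, 59), (1, 59), (2, 59), (0, 60), (2, 60), (0, 61),
  (2, 61), (0, 62), (2, 62), (0, 63), (2, 63), (0, 64), (1, 64), (2, 64), (0, 65), (0, 66),
  (1, 66), (2, 66), (0, 67), (2, 67), (0, 69), (2, 69), (0, 70), (2, 70), (0, 71), (1, 71),
  (2, 71), (0, 72), (0, 74), (1, 74), (0, 75), (1, 75), (2, 75), (0, 76), (2, 76), (0, 77),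
  (2, 77), (0, 78), (1, 78), (2, 78), (2, 79), (1, 80), (2, 80), (2, 81), (1, 83), (2, 83),
  (0, 84), (0, 85), (2, 85), (0, 86), (2, 86), (0, 87), (0, 88), (2, 88), (1, 89), (2, 89),
  (2, 90), (0, 91), (2, 91), (0, 92), (1, 92), (2, 92), (0, 93), (2, 93), (0, 94), (0, 95),
  (1, 95), (2, 95), (0, 96), (0, 97), (1, 97), (2, 97), (0, 98), (0, 99), (1, 100), (2, 100),
  (0, 101), (2, 101), (0, 102), (2, 102), (2, 103), (2, 104), (0, 105), (2, 105), (1, 106), (2, 106),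
  (0, 107), (2, 107), (0, 108), (1, 108), (2, 108), (0, 109), (2, 109), (0, 110), (0, 111), (1, 111),
  (2, 111), (0, 112), (2, 112), (0, 113), (1, 113), (2, 113), (0, 114), (2, 115), (0, 116), (1, 116),
  (2, 116), (1, 117), (2, 117), (2, 118), (0, 119), (2, 119), (0, 120), (2, 120), (0, 121), (1, 121),
  (2, 121), (0, 122), (2, 123), (0, 124), (0, 125), (1, 125), (2, 125), (1, 127), (2, 127), (2, 128),
  (0, 130), (1, 130), (2, 130), (0, 131), (2, 131), (1, 132), (0, 133), (2, 133), (2, 134), (1, 135),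
  (2, 135), (0, 136), (2, 136), (1, 137), (0, 138), (2, 138), (0, 139), (0, 140), (2, 140), (0, 141),
  (2, 141), (2, 142), (1, 143), (2, 143), (0, 144), (2, 144), (0, 145), (2, 145), (0, 146), (1, 146),
  (2, 146), (0, 147), (2, 147), (0, 148), (2, 148), (1, 149), (2, 149), (2, 150), (2, 151), (0, 152),
  (1, 152), (2, 152), (2, 153), (2, 154), (0, 155), (2, 155), (0, 156), (1, 157), (2, 158), (0, 159),
  (2, 160), (0, 161), (1, 161), (0, 162), (0, 163), (1, 163), (2, 163), (0, 164), (0, 165), (1, 165),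
  (0, 166), (2, 166), (0, 168), (2, 168), (0, 169), (2, 169), (1, 170), (0, 171), (0, 172), (1, 172),
  (2, 172), (1, 174), (2, 174), (0, 175), (2, 175), (2, 176), (0, 177), (2, 178), (0, 181), (2, 181),
  (0, 182), (2, 182), (2, 183), (0, 184), (2, 184), (0, 185), (1, 185), (2, 185), (2, 186), (0, 187),
  (0, 188), (0, 190), (1, 190), (2, 190), (0, 191), (2, 191), (0, 192), (0, 193), (1, 193), (2, 193),
  (0, 194), (2, 194), (1, 195), (2, 195), (0, 196), (0, 197), (2, 197), (0, 198), (2, 198), (0, 199),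
  (2, 199), (0, 201), (2, 201), (2, 202), (0, 203), (1, 204), (0, 206), (2, 206), (2, 207), (2, 208),
  (2, 209), (2, 210), (0, 211), (2, 211), (0, 212), (2, 213), (2, 214), (0, 215), (1, 216), (2, 216),
  (2, 217), (0, 218), (0, 219), (1, 219), (0, 220), (2, 220), (1, 221), (2, 221), (0, 223), (1, 223),
  (2, 224), (0, 225), (2, 225), (0, 226), (1, 226), (1, 227), (2, 227), (1, 229), (0, 230), (1, 231),
  (2, 231), (1, 232), (2, 232), (0, 233), (2, 233), (0, 234), (1, 235), (2, 235), (2, 236), (0, 237),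
  (1, 238), (2, 239), (2, 240), (2, 241), (2, 242), (1, 243), (0, 244), (2, 244), (2, 246), (0, 247),
  (2, 247), (0, 248), (0, 249), (2, 249), (1, 250), (2, 250), (2, 251), (0, 252), (2, 252), (0, 253),
  (0, 254), (1, 254), (2, 254), (2, 255), (0, 256), (2, 256), (0, 257), (1, 258), (2, 258), (0, 259),
  (2, 259), (1, 260), (2, 260), (2, 261), (2, 262), (0, 263), (2, 263), (0, 264), (1, 265), (2, 267),
  (0, 268), (2, 268), (2, 269), (2, 271), (2, 272), (0, 273), (1, 273), (2, 276), (0, 277), (2, 277),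
  (2, 278), (2, 279), (0, 280), (1, 280), (2, 280), (0, 281), (2, 281), (0, 282), (1, 282), (0, 283),
  (2, 283), (0, 284), (0, 286), (2, 286), (0, 287), (1, 287), (2, 287), (2, 288), (2, 289), (2, 290),
  (0, 291), (2, 291), (0, 292), (1, 293), (2, 293), (2, 294), (1, 295), (0, 297), (1, 297), (2, 298),
  (0, 299), (2, 300), (0, 301), (1, 302), (2, 302), (2, 303), (0, 304), (2, 304), (0, 305), (1, 305),
  (0, 306), (2, 306), (1, 307), (2, 307), (0, 308), (2, 308), (0, 309), (2, 309), (0, 310), (1, 310),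
  (2, 310), (2, 311), (0, 312), (2, 312), (0, 313), (1, 313), (1, 315), (0, 317), (2, 317), (0, 318),
  (1, 318), (2, 318), (2, 319), (2, 320), (0, 321), (1, 321), (2, 321), (2, 323), (0, 325), (1, 325),
  (2, 325), (0, 327), (2, 327), (0, 329), (2, 329), (0, 330), (2, 330), (0, 331), (0, 332), (2, 332),
  (2, 333), (2, 334), (0, 336), (1, 336), (1, 337), (2, 337), (0, 338), (0, 339), (1, 339), (2, 339),
  (0, 340), (2, 340), (0, 341), (1, 341), (2, 342), (0, 343), (2, 343), (2, 345), (1, 346), (2, 346),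
  (0, 347), (2, 347), (0, 348), (2, 348), (0, 349), (0, 351), (2, 351), (2, 352), (0, 353), (0, 354),
  (0, 355), (1, 355), (2, 355), (0, 356), (2, 356), (0, 357), (2, 359), (0, 360), (1, 360), (2, 360),
  (0, 361), (1, 362), (2, 362), (0, 364), (1, 364), (2, 364), (0, 365), (2, 365), (0, 366), (1, 366),
  (2, 366), (0, 368), (2, 368), (0, 369), (2, 369), (0, 370), (2, 370), (0, 371), (2, 371), (0, 372),
  (2, 372), (2, 373), (0, 374), (0, 375), (1, 375), (2, 375), (0, 376), (2, 376), (0, 377), (2, 378),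
  (2, 379), (0, 380), (2, 380), (2, 381), (0, 382), (0, 383), (2, 383), (1, 384), (0, 385), (0, 386),
  (1, 386), (0, 388), (2, 388), (0, 389), (2, 389), (0, 390), (1, 391), (2, 391), (2, 392), (0, 393),
  (1, 393), (2, 393), (0, 394), (2, 394), (2, 395), (0, 396), (1, 396), (0, 397), (2, 397), (1, 398),
  (2, 399), (2, 400), (2, 401), (1, 402), (2, 402), (0, 403), (2, 403), (0, 404), (1, 404), (0, 405),
  (0, 406), (0, 407), (2, 407), (0, 408), (2, 408), (0, 409), (1, 409), (2, 409), (0, 410), (0, 411),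
  (1, 411), (2, 411), (0, 413), (2, 413), (2, 414), (0, 415), (2, 415), (2, 416), (0, 417), (2, 417),
  (0, 418), (1, 418), (2, 418), (0, 419), (2, 420), (0, 421), (1, 421), (2, 421), (2, 422), (1, 424),
  (2, 424), (2, 425), (2, 427), (0, 428), (2, 428), (2, 429), (0, 430), (2, 430), (0, 431), (2, 431),
  (0, 432), (1, 433), (0, 435), (2, 435), (1, 437), (2, 437), (0, 438), (2, 438), (1, 439), (2, 439),
  (0, 440), (0, 441), (2, 441), (0, 442), (2, 442), (0, 443), (0, 444), (1, 444), (0, 447), (0, 448),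
  (1, 448), (2, 448), (2, 449), (0, 450), (1, 451), (2, 452), (0, 453), (0, 454), (2, 454), (0, 455),
  (2, 455), (0, 456), (2, 456), (2, 457), (1, 458), (0, 460), (0, 461), (1, 461), (2, 462), (2, 463),
  (2, 464), (0, 465), (2, 465), (2, 466), (0, 468), (1, 468), (2, 468), (2, 469), (0, 470), (2, 470),
  (0, 471), (1, 471), (2, 471), (0, 472), (2, 472), (0, 473), (2, 475), (0, 476), (1, 476), (2, 477),
  (0, 478), (2, 478), (0, 479), (2, 480), (2, 481), (1, 482), (2, 482), (0, 483), (2, 483), (1, 484),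
  (2, 484), (0, 485), (0, 486), (0, 488), (2, 488), (0, 489), (2, 489), (0, 491), (2, 491)]

def dodLayer9 : List (ℕ × ℕ) := [
  (1, 0), (2, 2), (1, 4), (2, 4), (0, 5), (1, 5), (2, 7), (0, 8), (2, 8), (2, 9),
  (0, 10), (2, 10), (2, 11), (0, 12), (2, 12), (0, 13), (1, 13), (2, 13), (0, 14), (2, 15),
  (0, 16), (2, 16), (0, 19), (2, 19), (2, 20), (0, 21), (2, 21), (0, 24), (1, 24), (2, 24),
  (0, 25), (0, 26), (1, 26), (2, 26), (0, 27), (0, 28), (2, 28), (0, 30), (0, 31), (1, 32),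
  (2, 33), (0, 34), (2, 34), (0, 35), (1, 36), (2, 36), (1, 39), (0, 40), (2, 40), (0, 41),
  (2, 41), (0, 42), (1, 44), (0, 46), (0, 47), (1, 47), (0, 49), (1, 49), (2, 49), (0, 51),
  (2, 52), (0, 54), (1, 54), (2, 54), (0, 55), (2, 55), (0, 56), (1, 56), (2, 56), (2, 57),
  (2, 58), (0, 59), (1, 59), (2, 59), (2, 60), (0, 61), (0, 63), (2, 63), (1, 64), (2, 64),
  (0, 65), (2, 65), (0, 66), (1, 66), (0, 67), (2, 67), (0, 68), (2, 70), (0, 71), (0, 72),
  (1, 72), (0, 74), (0, 75), (2, 75), (0, 76), (1, 78), (2, 78), (2, 79), (0, 82), (2, 83),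
  (0, 85), (2, 85), (0, 87), (1, 87), (2, 87), (0, 88), (2, 88), (0, 89), (1, 89), (2, 89),
  (2, 90), (2, 91), (1, 92), (2, 92), (0, 93), (2, 94), (2, 95), (2, 97), (2, 98), (0, 99),
  (0, 101), (2, 102), (1, 103), (2, 103), (0, 104), (2, 104), (0, 105), (2, 105), (0, 106), (0, 107),
  (1, 107), (2, 107), (0, 108), (0, 109), (0, 111), (1, 111), (2, 111), (2, 112), (1, 113), (2, 113),
  (2, 114), (0, 115), (1, 115), (2, 115), (0, 116), (2, 116), (0, 118), (0, 119), (1, 119), (0, 120),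
  (0, 121), (2, 121), (0, 122), (2, 122), (0, 123), (0, 124), (2, 124), (0, 125), (0, 127), (0, 129),
  (0, 131), (1, 131), (2, 131), (0, 135), (2, 135), (0, 137), (1, 137), (2, 137), (0, 138), (2, 138),
  (0, 139), (1, 139), (2, 140), (0, 143), (2, 143), (0, 145), (2, 145), (0, 146), (2, 146), (0, 147),
  (0, 148), (2, 149), (1, 150), (2, 150), (0, 151), (2, 152), (0, 153), (1, 153), (2, 153), (0, 156),
  (1, 156), (0, 157), (2, 158), (0, 159), (0, 161), (2, 162), (0, 163), (2, 163), (2, 164), (2, 165),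
  (1, 168), (2, 168), (2, 170), (0, 171), (2, 171), (0, 172), (0, 173), (1, 173), (2, 173), (1, 176),
  (2, 176), (0, 177), (2, 177), (0, 180), (2, 180), (0, 181), (1, 182), (0, 184), (1, 186), (2, 186),
  (0, 188), (0, 190), (1, 190), (0, 191), (2, 191), (0, 193), (2, 193), (0, 195), (1, 195), (0, 197),
  (0, 198), (1, 198), (0, 199), (2, 199), (0, 201), (0, 202), (2, 204), (2, 205), (1, 208), (0, 210),
  (0, 212), (2, 212), (0, 213), (2, 213), (0, 214), (2, 214), (0, 215), (2, 215), (2, 216), (0, 217),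
  (1, 218), (2, 218), (0, 220), (1, 223), (0, 224), (1, 224), (2, 225), (2, 227), (0, 229), (0, 230),
  (2, 231), (2, 232), (1, 233), (2, 234), (0, 236), (1, 236), (0, 237), (2, 237), (0, 238), (2, 239),
  (0, 240), (0, 241), (2, 241), (2, 244), (1, 246), (2, 246), (2, 248), (1, 249), (0, 250), (0, 251),
  (0, 253), (0, 254), (1, 254), (2, 254), (2, 255), (0, 256), (0, 257), (2, 257), (1, 258), (0, 261),
  (1, 261), (2, 261), (2, 262), (0, 264), (2, 266), (2, 267), (2, 268), (0, 269), (1, 269), (2, 270),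
  (0, 271), (2, 271), (0, 272), (2, 272), (1, 274), (2, 275), (1, 276), (0, 277), (1, 279), (2, 279),
  (1, 281), (1, 283), (2, 283), (1, 284), (2, 285), (0, 286), (0, 289), (0, 291), (0, 292), (2, 293),
  (0, 294), (2, 294), (0, 296), (2, 297), (0, 298), (2, 301), (1, 303), (2, 303), (0, 304), (2, 304),
  (2, 305), (1, 306), (0, 307), (2, 307), (0, 308), (2, 308), (2, 310), (0, 312), (1, 313), (0, 314),
  (2, 314), (0, 316), (2, 316), (0, 318), (1, 321), (2, 321), (0, 323), (0, 324), (1, 324), (0, 326),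
  (1, 326), (2, 327), (0, 330), (0, 332), (2, 332), (0, 333), (0, 334), (1, 334), (0, 335), (1, 335),
  (0, 337), (2, 338), (1, 339), (2, 339), (0, 340), (0, 343), (0, 344), (1, 344), (2, 348), (0, 349),
  (0, 350), (2, 351), (2, 352), (0, 353), (2, 354), (0, 355), (0, 356), (0, 357), (1, 357), (0, 358),
  (2, 358), (0, 362), (1, 362), (0, 364), (2, 364), (1, 368), (2, 368), (0, 369), (2, 370), (1, 371),
  (0, 373), (0, 374), (0, 375), (1, 378), (0, 380), (0, 381), (1, 383), (2, 391), (0, 392), (2, 392),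
  (2, 393), (0, 396), (2, 398), (2, 400), (1, 402), (2, 404), (0, 406), (1, 407), (0, 409), (1, 410),
  (2, 411), (0, 412), (2, 412), (0, 413), (2, 413), (0, 414), (1, 414), (0, 415), (0, 417), (2, 418),
  (2, 419), (0, 420), (2, 421), (2, 422), (0, 423), (0, 424), (0, 425), (1, 425), (0, 426), (2, 426),
  (0, 427), (0, 433), (2, 433), (0, 435), (2, 437), (2, 438), (2, 440), (0, 441), (0, 442), (1, 442),
  (2, 442), (0, 443), (2, 443), (2, 445), (0, 446), (0, 447), (1, 449), (2, 449), (0, 450), (2, 450),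
  (0, 451), (2, 454), (0, 455), (2, 455), (2, 457), (2, 460), (1, 462), (2, 463), (1, 467), (0, 468),
  (0, 473), (2, 473), (2, 474), (0, 476), (2, 477), (0, 478), (0, 480), (2, 480), (2, 481), (2, 482),
  (0, 485), (1, 488), (0, 489), (2, 489), (0, 491), (0, 493), (2, 493), (1, 494), (2, 494), (1, 497),
  (2, 497), (2, 498), (0, 499), (1, 499), (2, 500), (0, 501), (2, 501), (0, 503), (0, 504), (1, 504),
  (0, 507), (2, 507), (1, 511), (0, 513), (2, 516), (1, 517), (1, 518), (0, 521), (0, 523), (2, 524),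
  (0, 526), (2, 526), (2, 527), (2, 528), (0, 529), (2, 529), (0, 530), (1, 530), (2, 531), (0, 533),
  (1, 535), (2, 536), (0, 538), (2, 538), (0, 541), (0, 542), (2, 542), (2, 544), (0, 545), (0, 546),
  (2, 546), (2, 548), (0, 550), (1, 550), (0, 553), (2, 553), (0, 556), (0, 557), (0, 558), (2, 558),
  (0, 559), (2, 564), (0, 565), (2, 565), (2, 567), (2, 568), (2, 570), (0, 571), (1, 571), (2, 571),
  (2, 572), (0, 575), (0, 577), (1, 577), (2, 578), (0, 579), (1, 579), (2, 579), (2, 580), (2, 581),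
  (0, 584), (1, 586), (2, 586), (1, 588), (0, 589), (2, 590), (0, 594), (0, 595), (0, 596), (0, 598),
  (1, 598), (2, 599), (2, 606), (0, 607), (2, 608), (2, 610), (0, 611), (2, 611), (2, 613), (0, 614),
  (0, 615), (2, 615), (0, 617), (0, 619), (2, 620), (2, 621), (0, 623), (2, 623), (0, 625), (2, 625),
  (2, 626), (0, 639), (2, 640), (2, 641), (2, 642), (0, 643), (2, 643), (2, 644), (1, 645), (0, 646),
  (2, 647), (0, 648), (0, 649), (0, 651), (0, 653), (2, 653), (2, 656), (2, 657), (0, 661), (2, 661),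
  (0, 662), (0, 668), (0, 669), (0, 671), (2, 672), (0, 673), (0, 679), (1, 681), (2, 684), (1, 686),
  (2, 686), (1, 689), (2, 690), (0, 691), (0, 692), (1, 693), (1, 696), (2, 697), (2, 701), (2, 702),
  (1, 705), (2, 708), (2, 709), (2, 710), (0, 711), (2, 711), (0, 712), (0, 714), (2, 714), (2, 715),
  (2, 716), (0, 717), (2, 725), (2, 727), (0, 732), (2, 734), (0, 735), (0, 737), (0, 738), (0, 741),
  (1, 741), (2, 743), (2, 744), (0, 745), (1, 745), (0, 748), (2, 748)]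

def dodLayer10 : List (ℕ × ℕ) := [
  (0, 2), (1, 4), (2, 6), (0, 7), (2, 9), (0, 12), (2, 13), (0, 15), (2, 17), (2, 18),
  (0, 19), (2, 22), (2, 23), (0, 28), (2, 32), (2, 34), (2, 35), (0, 37), (0, 39), (2, 40),
  (1, 43), (2, 44), (2, 45), (2, 48), (1, 49), (2, 50), (0, 51), (0, 56), (2, 57), (1, 59),
  (2, 62), (2, 63), (1, 64), (0, 65), (1, 66), (0, 67), (0, 71), (2, 72), (2, 73), (2, 76),
  (1, 82), (0, 83), (0, 84), (0, 85), (2, 88), (0, 90), (0, 91), (1, 91), (2, 93), (2, 94),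
  (1, 98), (2, 98), (0, 99), (2, 99), (2, 104), (2, 106), (2, 108), (0, 109), (2, 112), (0, 113),
  (0, 116), (0, 117), (0, 118), (0, 126), (0, 127), (0, 128), (2, 130), (2, 132), (1, 133), (0, 138),
  (2, 141), (2, 142), (2, 144), (0, 148), (2, 152), (0, 156), (0, 157), (1, 158), (0, 159), (2, 160),
  (1, 163), (2, 165), (2, 166), (0, 170), (2, 173), (0, 177), (2, 179), (0, 180), (2, 182), (1, 186),
  (2, 187), (0, 189), (0, 190), (0, 193), (0, 196), (2, 198), (0, 200), (2, 200), (2, 201), (2, 202),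
  (0, 203), (0, 207), (2, 207), (2, 209), (2, 217), (0, 218), (2, 218), (0, 220), (1, 220), (0, 224),
  (0, 225), (1, 235), (2, 236), (0, 238), (0, 239), (2, 239), (0, 243), (1, 246), (2, 248), (0, 255),
  (0, 261), (0, 263), (0, 266), (1, 268), (0, 271), (2, 273), (2, 274), (1, 280), (2, 284), (1, 285),
  (0, 288), (2, 289), (2, 297), (0, 305), (0, 306), (0, 311), (2, 311), (1, 315), (0, 316), (1, 316),
  (0, 317), (1, 318), (0, 324), (1, 324), (0, 325), (2, 327), (1, 328), (2, 329), (1, 332), (0, 336),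
  (0, 337), (1, 337), (2, 337), (0, 338), (0, 343), (2, 345), (0, 362), (2, 363), (1, 364), (1, 365),
  (0, 367), (0, 372), (2, 376), (0, 378), (0, 398), (2, 413), (0, 414), (2, 422), (1, 425), (0, 430),
  (0, 439), (2, 444), (0, 456), (0, 462), (2, 462), (0, 466), (2, 480), (2, 484), (0, 504), (0, 508),
  (0, 520), (2, 531), (0, 533), (2, 538), (2, 545), (2, 546), (0, 556), (0, 571), (2, 571), (0, 572),
  (2, 572), (0, 573), (0, 580), (0, 584), (2, 585), (2, 586), (2, 595), (2, 596), (2, 598), (0, 605),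
  (0, 611), (0, 619), (0, 623), (2, 629), (0, 644)]

def dodLayer11 : List (ℕ × ℕ) := [
  (2, 10), (2, 18), (0, 28), (2, 30), (0, 57), (0, 58), (0, 60), (0, 86), (0, 96), (1, 121),
  (0, 122)]

def dodLayer12 : List (ℕ × ℕ) := [
  (0, 6)]

def dodCert : List (List (ℕ × ℕ)) := [dodLayer0, dodLayer1, dodLayer2, dodLayer3, dodLayer4, dodLayer5, dodLayer6, dodLayer7, dodLayer8, dodLayer9, dodLayer10, dodLayer11, dodLayer12]

end Cfsg.Lib.Golay
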