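import Mathlib
import Cfsg.Prelude.Def_Sporadic_a
import Cfsg.Agent.Lib.Golay.M24

/-!
Pointwise stabilisers of small point sets in `M24`, their orders, and fixed point bounds.
-/

set_option autoImplicit false

namespace Cfsg.Lib.Golay

open Cfsg
open scoped Pointwise

/-- The elements of `M24` fixing every point of `A`. -/
def fixer (A : Finset GolayPt) : Subgroup (Equiv.Perm GolayPt) where
  carrier := {g | g ∈ M24 ∧ ∀ a ∈ A, g a = a}
  one_mem' := ⟨Subgroup.one_mem _, fun a _ => rfl⟩
  mul_mem' := fun {g h} hg hh => ⟨Subgroup.mul_mem _ hg.1 hh.1, fun a ha => by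
    rw [Equiv.Perm.mul_apply, hh.2 a ha, hg.2 a ha]⟩
  inv_mem' := fun {g} hg => ⟨Subgroup.inv_mem _ hg.1, fun a ha => by
    rw [Equiv.Perm.inv_eq_iff_eq]; exact (hg.2 a ha).symm⟩

theorem mem_fixer {A : Finset GolayPt} {g : Equiv.Perm GolayPt} :
    g ∈ fixer A ↔ g ∈ M24 ∧ ∀ a ∈ A, g a = a := Iff.rfl

theorem fixer_le_M24 (A : Finset GolayPt) : fixer A ≤ M24 := fun _ h => h.1

theorem exists_set_to_base {A : Finset GolayPt} (hA : A.card ≤ 5) :
    ∃ τ ∈ M24, A.image τ = (Finset.range A.card).image baseP := by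
  obtain ⟨τ, hτ, hs⟩ := exists_tuple_to_base hA
    ⟨fun i => ((A.equivFin.symm i : A) : GolayPt), fun a b h => A.equivFin.symm.injective (Subtype.ext h)⟩
  refine ⟨τ, hτ, ?_⟩
  ext q
  simp only [Finset.mem_image, Finset.mem_range]
  constructor
  · rintro ⟨a, ha, rfl⟩
    refine ⟨(A.equivFin ⟨a, ha⟩ : ℕ), Fin.is_lt _, ?_⟩
    have := hs (A.equivFin ⟨a, ha⟩)
    change τ ((A.equivFin.symm (A.equivFin ⟨a, ha⟩) : A) : GolayPt) = _ at this
    rw [Equiv.symm_apply_apply] at this
    exact this.symm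
  · rintro ⟨j, hj, rfl⟩
    exact ⟨_, (A.equivFin.symm ⟨j, hj⟩ : A).2, hs ⟨j, hj⟩⟩

theorem conj_mem_fixer {A B : Finset GolayPt} {τ g : Equiv.Perm GolayPt} (hτ : τ ∈ M24)
    (hAB : A.image τ = B) (hg : g ∈ fixer A) : τ * g * τ⁻¹ ∈ fixer B := by
  refine ⟨Subgroup.mul_mem _ (Subgroup.mul_mem _ hτ hg.1) (Subgroup.inv_mem _ hτ), fun b hb => ?_⟩
  rw [← hAB, Finset.mem_image] at hb
  obtain ⟨a, ha, rfl⟩ := hb
  simp only [Equiv.Perm.mul_apply, Equiv.Perm.coe_inv, Equiv.symm_apply_apply, hg.2 a ha]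

theorem fixer_base (n : ℕ) : fixer ((Finset.range n).image baseP) = lev n := by
  ext g
  rw [mem_fixer, mem_lev_iff, ← M24_eq_setSystemAut]
  simp only [Finset.mem_image, Finset.mem_range, forall_exists_index, and_imp]
  exact ⟨fun h => ⟨h.1, fun j hj => h.2 _ j hj rfl⟩, fun h => ⟨h.1, fun a j hj e => e ▸ h.2 j hj⟩⟩

theorem card_fixer {A : Finset GolayPt} (hA : A.card ≤ 5) :
    Nat.card (fixer A) = Nat.card (lev A.card) := by
  obtain ⟨τ, hτ, him⟩ := exists_set_to_base hA
  rw [← fixer_base]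
  have hinv : ((Finset.range A.card).image baseP).image (⇑τ⁻¹) = A := by
    rw [← him, Finset.image_image]
    have : (⇑τ⁻¹ ∘ ⇑τ) = id := by funext y; exact τ.symm_apply_apply y
    rw [this, Finset.image_id]
  refine Nat.card_congr
    { toFun := fun g => ⟨τ * g * τ⁻¹, conj_mem_fixer hτ him g.2⟩
      invFun := fun g => ⟨τ⁻¹ * g * τ⁻¹⁻¹, conj_mem_fixer (Subgroup.inv_mem _ hτ) hinv g.2⟩
      left_inv := fun g => Subtype.ext (by group)
      right_inv := fun g => Subtype.ext (by group) }

theorem card_fixer_five {A : Finset GolayPt} (hA : A.card = 5) : Nat.card (fixer A) = 48 := by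
  rw [card_fixer hA.le, hA]; exact card_lev.2.2.1

/-- The fixed points of a permutation. -/
def fixPts (g : Equiv.Perm GolayPt) : Finset GolayPt := Finset.univ.filter fun p => g p = p

theorem mem_fixPts {g : Equiv.Perm GolayPt} {p : GolayPt} : p ∈ fixPts g ↔ g p = p := by
  simp [fixPts]

/-- The indices fixed by an image list. -/
def fixIdx (l : List ℕ) : List ℕ := (List.range 24).filter fun i => l.getD i 0 == i

theorem levSix_check :
    (transv 6).all (fun t => decide (slp t = List.range 24) || decide ((fixIdx (slp t)).length ≤ 6)) = true := by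
  decide +kernel

theorem levSix_fix {g : Equiv.Perm GolayPt} (hg : g ∈ lev 6) : g = 1 ∨ (fixPts g).card ≤ 6 := by
  have hc := List.all_eq_true.1 levs_check 6 (List.mem_range.2 (by norm_num))
  simp only [levOK, Bool.and_eq_true, List.all_eq_true, decide_eq_true_eq, Bool.or_eq_true,
    Bool.not_eq_true'] at hc
  obtain ⟨⟨h1, _⟩, h3⟩ := hc
  have h3' := h3 (idx (g (baseP 6))) (List.mem_range.2 (idx_lt _))
  rw [allowed_of_admissible (by norm_num) (admissible_apply (by norm_num) hg)] at h3'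
  simp only [Bool.true_eq_false, false_or, List.mem_map] at h3'
  obtain ⟨t, ht, hte⟩ := h3'
  obtain ⟨⟨hlt, hfix⟩, _⟩ := h1 t ht
  obtain ⟨hv, hmem⟩ := slp_mem hlt
  have hu : permOf (slp t) ∈ lev 6 := (mem_lev_iff _ 6).2
    ⟨M24_le_setSystemAut (stdGroup_le_M24 hmem), fun j hj => by
      rw [baseP, permOf_pt hv (baseIdx_lt j (by omega)), hfix j hj]⟩
  have h7 : (permOf (slp t))⁻¹ * g ∈ lev 7 := by
    rw [lev, Subgroup.mem_inf]
    refine ⟨Subgroup.mul_mem _ (Subgroup.inv_mem _ hu) hg, ?_⟩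
    rw [MulAction.mem_stabilizer_iff, Equiv.Perm.smul_def, Equiv.Perm.mul_apply, Equiv.Perm.inv_eq_iff_eq]
    rw [baseP, permOf_pt hv (baseIdx_lt 6 (by norm_num)), hte, pt_idx]
    rfl
  rw [lev_seven, Subgroup.mem_bot, inv_mul_eq_one] at h7
  subst h7
  have hck := List.all_eq_true.1 levSix_check t ht
  simp only [Bool.or_eq_true, decide_eq_true_eq] at hck
  rcases hck with hck | hck
  · left; rw [hck, permOf_range]
  · right
    refine le_trans ?_ (le_trans (List.toFinset_card_le _) hck)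
    refine le_trans (Finset.card_le_card (t := (fixIdx (slp t)).toFinset.image pt) ?_) Finset.card_image_le
    intro p hp
    rw [mem_fixPts] at hp
    rw [Finset.mem_image]
    refine ⟨idx p, List.mem_toFinset.2 ?_, pt_idx p⟩
    rw [fixIdx, List.mem_filter, List.mem_range, beq_iff_eq]
    refine ⟨idx_lt p, ?_⟩
    have := idx_permOf hv p
    rw [hp] at this
    exact this.symm

/-- An element of `M24` fixing nine points is trivial. -/
theorem eq_one_of_fix {g : Equiv.Perm GolayPt} (hg : g ∈ M24) (h9 : 9 ≤ (fixPts g).card) : g = 1 := by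
  obtain ⟨T, hT, hTc⟩ := Finset.exists_subset_card_eq (show 5 ≤ (fixPts g).card by omega)
  obtain ⟨o, ho, hTo⟩ := exists_octad hTc
  have hne : (fixPts g \ o).Nonempty := by
    rw [← Finset.card_pos]
    have := Finset.le_card_sdiff o (fixPts g)
    rw [card_octad ho] at this
    omega
  obtain ⟨q, hq⟩ := hne
  rw [Finset.mem_sdiff] at hq
  have e := T.equivFinOfCardEq hTc
  set x : ℕ → GolayPt := fun i => if h : i < 5 then ((e.symm ⟨i, h⟩ : T) : GolayPt) else q with hx
  have hxT : ∀ i < 5, x i ∈ T := fun i hi => by simp only [hx, dif_pos hi]; exact (e.symm ⟨i, hi⟩).2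
  have hx5 : x 5 = q := by simp [hx]
  have hxfix : ∀ i < 6, g (x i) = x i := fun i hi => by
    by_cases h : i < 5
    · exact mem_fixPts.1 (hT (hxT i h))
    · obtain rfl : i = 5 := by omega
      rw [hx5]; exact mem_fixPts.1 hq.1
  have hinj : ∀ i < 6, ∀ j < 6, x i = x j → i = j := by
    intro i hi j hj he
    by_cases h1 : i < 5
    · by_cases h2 : j < 5
      · simp only [hx, dif_pos h1, dif_pos h2] at he
        simpa using congrArg Fin.val (e.symm.injective (Subtype.ext he))
      · obtain rfl : j = 5 := by omega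
        rw [hx5] at he
        exact absurd (hTo (he ▸ hxT i h1)) hq.2
    · obtain rfl : i = 5 := by omega
      by_cases h2 : j < 5
      · rw [hx5] at he
        exact absurd (hTo (he.symm ▸ hxT j h2)) hq.2
      · omega
  have himg : ∀ σ : Equiv.Perm GolayPt, σ ∈ M24 → (∀ j < 5, σ (x j) = baseP j) → σ • o = baseO := by
    intro σ hσ hs
    refine octad_eq_of_five (smul_mem_words hσ ho) baseO_mem ?_
    calc 5 = (σ • T).card := by rw [Finset.card_smul_finset, hTc]
      _ ≤ _ := Finset.card_le_card fun y hy => by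
        rw [Finset.mem_smul_finset] at hy
        obtain ⟨p, hp, rfl⟩ := hy
        refine Finset.mem_inter.2 ⟨Finset.smul_mem_smul_finset (hTo hp), ?_⟩
        have h := hs (e ⟨p, hp⟩) (Fin.is_lt _)
        simp only [hx, Fin.is_lt, dif_pos, Fin.eta, Equiv.symm_apply_apply] at h
        rw [Equiv.Perm.smul_def, h]
        exact baseP_mem_baseO (Fin.is_lt _)
  obtain ⟨σ, hσ, hs⟩ := exists_to_base (n := 6) (by norm_num) x hinj (fun σ hσ hs => ⟨fun _ hm => by
    rw [hx5, ← himg σ hσ hs, ← Equiv.Perm.smul_def, Finset.smul_mem_smul_finset_iff] at hm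
    exact hq.2 hm, fun h => absurd h (by omega)⟩)
  have h6 : σ * g * σ⁻¹ ∈ lev 6 := (mem_lev_iff _ 6).2
    ⟨M24_le_setSystemAut (Subgroup.mul_mem _ (Subgroup.mul_mem _ hσ hg) (Subgroup.inv_mem _ hσ)),
      fun j hj => by
        rw [← hs j hj]
        simp only [Equiv.Perm.mul_apply, Equiv.Perm.coe_inv, Equiv.symm_apply_apply, hxfix j hj]⟩
  rcases levSix_fix h6 with h | h
  · simpa using h
  · exfalso
    have hsub : (fixPts g).image σ ⊆ fixPts (σ * g * σ⁻¹) := by
      intro y hy
      rw [Finset.mem_image] at hy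
      obtain ⟨p, hp, rfl⟩ := hy
      rw [mem_fixPts] at hp ⊢
      simp only [Equiv.Perm.mul_apply, Equiv.Perm.coe_inv, Equiv.symm_apply_apply, hp]
    have := Finset.card_le_card hsub
    rw [Finset.card_image_of_injective _ σ.injective] at this
    omega

/-- A permutation of prime order not dividing 48 in `M24` fixes at most four points. -/
theorem fix_le_four {g : Equiv.Perm GolayPt} (hg : g ∈ M24) (hr : ¬ orderOf g ∣ 48) :
    (fixPts g).card ≤ 4 := by
  by_contra hc
  obtain ⟨T, hT, hTc⟩ := Finset.exists_subset_card_eq (show 5 ≤ (fixPts g).card by omega)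
  refine hr ?_
  rw [← card_fixer_five hTc]
  have hm : g ∈ fixer T := ⟨hg, fun a ha => mem_fixPts.1 (hT ha)⟩
  have := orderOf_dvd_natCard (⟨g, hm⟩ : fixer T)
  rwa [Subgroup.orderOf_mk] at this

/-- Fixed points in an invariant set are congruent to its size. -/
theorem modEq_fixed {g : Equiv.Perm GolayPt} {r : ℕ} [Fact r.Prime] (hg : g ^ r = 1)
    (s : Finset GolayPt) (hs : ∀ p ∈ s, g p ∈ s) :
    (s.filter fun p => g p = p).card ≡ s.card [MOD r] := by
  have hiff : ∀ p, p ∈ s ↔ g p ∈ s := by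
    have : s.image g = s := Finset.eq_of_subset_of_card_le (fun y hy => by
      rw [Finset.mem_image] at hy; obtain ⟨p, hp, rfl⟩ := hy; exact hs p hp)
      (by rw [Finset.card_image_of_injective _ g.injective])
    intro p
    refine ⟨hs p, fun h => ?_⟩
    rw [← this, Finset.mem_image] at h
    obtain ⟨q, hq, he⟩ := h
    rwa [← g.injective he]
  set f : Equiv.Perm {p // p ∈ s} := g.subtypePerm (p := fun p => p ∈ s) (fun p => (hiff p).symm) with hf
  have hfr : f ^ r = 1 := by
    rw [hf, Equiv.Perm.subtypePerm_pow]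
    ext p
    simp [hg]
  have h := Equiv.Perm.card_fixedPoints_modEq (p := r) (n := 1) (f := (⇑f : Function.End {p // p ∈ s}))
    (by rw [pow_one]
        let F : Equiv.Perm {p // p ∈ s} →* Function.End {p // p ∈ s} :=
          { toFun := fun u => ⇑u, map_one' := rfl, map_mul' := fun _ _ => rfl }
        calc F f ^ r = F (f ^ r) := (map_pow F f r).symm
          _ = 1 := by rw [hfr, map_one])
  rw [Fintype.card_coe] at h
  refine (Nat.ModEq.trans ?_ h.symm)
  show _ % r = _ % r
  congr 1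
  rw [← Fintype.card_coe]
  refine Fintype.card_congr
    { toFun := fun q => ⟨⟨q, (Finset.mem_filter.1 q.2).1⟩, Subtype.ext (Finset.mem_filter.1 q.2).2⟩
      invFun := fun q => ⟨q.1.1, Finset.mem_filter.2 ⟨q.1.2, congrArg Subtype.val q.2⟩⟩
      left_inv := fun q => rfl
      right_inv := fun q => rfl }

theorem modEq_fixPts {g : Equiv.Perm GolayPt} {r : ℕ} [Fact r.Prime] (hg : g ^ r = 1) :
    (fixPts g).card ≡ 24 [MOD r] := by
  simpa [fixPts, Fintype.card_option, ZMod.card] using
    modEq_fixed hg Finset.univ (fun p _ => Finset.mem_univ _)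

end Cfsg.Lib.Golay
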