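import Mathlib
import Cfsg.Agent.Lib.Golay.M24
import Cfsg.Agent.Lib.Golay.Dodecads

/-!
The code modulo the all-ones word is an irreducible module for `M24`.
-/

set_option autoImplicit false

namespace Cfsg.Lib.Golay

open Cfsg
open scoped Pointwise

theorem oct_combs_spec : octCombs.map (combine octBasis) = codeGens := by decide +kernel

theorem oct_pair_check : inCode 28637 = true ∧ pop 28637 = 12 ∧ inCode 57274 = true ∧ pop 57274 = 12 ∧
    (28637 ^^^ 57274 : ℕ) = 45159 ∧ inCode 45159 = true ∧ pop 45159 = 8 := by decide +kernel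

theorem oct_basis_check : ∀ n ∈ octBasis, inCode n = true ∧ pop n = 8 ∧ n < 2 ^ 24 := by decide +kernel

theorem support_comp (σ : Equiv.Perm GolayPt) (w : GolayPt → ZMod 2) :
    support₂ (fun p => w (σ.symm p)) = σ • support₂ w := by
  ext p
  rw [Finset.mem_smul_finset]
  simp only [support₂, Finset.mem_filter, Finset.mem_univ, true_and, Equiv.Perm.smul_def]
  exact ⟨fun h => ⟨σ.symm p, h, Equiv.apply_symm_apply _ _⟩, fun ⟨q, hq, e⟩ => by rwa [← e, Equiv.symm_apply_apply]⟩

theorem word_of_support {w : GolayPt → ZMod 2} {n : ℕ} (h : support₂ w = toSet n) : w = toWord n := by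
  funext p
  have hp : p ∈ support₂ w ↔ p ∈ toSet n := by rw [h]
  simp only [support₂, Finset.mem_filter, Finset.mem_univ, true_and, mem_toSet] at hp
  have : ∀ a : ZMod 2, a = 0 ∨ a = 1 := by decide
  rcases this (w p) with e | e <;> simp [toWord, e] at hp ⊢ <;> simp [hp]

/-- An invariant space of code words through the all-ones word is its span or the whole code. -/
theorem code_irreducible (W : Submodule (ZMod 2) (GolayPt → ZMod 2))
    (h1 : (fun _ => (1 : ZMod 2)) ∈ W) (hle : W ≤ golayCode)
    (hinv : ∀ σ ∈ M24, ∀ w ∈ W, (fun p => w (σ.symm p)) ∈ W) :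
    W = Submodule.span (ZMod 2) {fun _ => (1 : ZMod 2)} ∨ W = golayCode := by
  classical
  by_cases hsmall : ∀ w ∈ W, w = 0 ∨ w = fun _ => 1
  · left
    refine le_antisymm (fun w hw => ?_) (Submodule.span_le.2 (by simpa using h1))
    rcases hsmall w hw with rfl | rfl
    · exact Submodule.zero_mem _
    · exact Submodule.subset_span rfl
  right
  push Not at hsmall
  obtain ⟨w, hw, hw0, hw1⟩ := hsmall
  have hsupp : ∀ v ∈ W, support₂ v ∈ supports (golayCode : Set (GolayPt → ZMod 2)) := fun v hv => ⟨v, hle hv, rfl⟩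
  -- it contains the word of an octad
  have hoct : ∃ v ∈ W, (support₂ v).card = 8 := by
    have hne : ∀ a : ZMod 2, a ≠ 0 → a = 1 := by decide
    rcases weight_cases (hsupp w hw) with h | h | h | h | h
    · exact absurd (funext fun p => by
        rw [Finset.card_eq_zero] at h
        by_contra hp
        exact Finset.notMem_empty p (h ▸ Finset.mem_filter.2 ⟨Finset.mem_univ _, hp⟩)) hw0
    · exact ⟨w, hw, h⟩
    · -- a dodecad: two of them differ by an octad
      obtain ⟨a1, a2, a3, a4, a5, a6, a7⟩ := oct_pair_check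
      have hdod : ∀ n, inCode n = true → pop n = 12 → toWord n ∈ W := by
        intro n hn hp
        obtain ⟨σ, hσ, e⟩ := dodecad_transitive (d := support₂ w) ⟨hsupp w hw, h⟩ (d' := toSet n)
          ⟨⟨toWord n, toWord_mem_golayCode hn, support_toWord n⟩, by rw [card_toSet, hp]⟩
        rw [← word_of_support (w := fun p => w (σ.symm p)) (by rw [support_comp, e])]
        exact hinv σ hσ w hw
      refine ⟨_, add_mem (hdod _ a1 a2) (hdod _ a3 a4), ?_⟩
      rw [← toWord_xor, a5, support_toWord, card_toSet, a7]
    · refine ⟨_, add_mem hw h1, ?_⟩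
      have e : support₂ (w + fun _ => 1) = (support₂ w)ᶜ := by
        ext p
        have : ∀ a : ZMod 2, a + 1 ≠ 0 ↔ a = 0 := by decide
        simp [support₂, this]
      rw [e, Finset.card_compl, h]
      decide
    · exact absurd (funext fun p => hne _ (by
        have hu : support₂ w = Finset.univ :=
          Finset.eq_univ_of_card _ (by rw [h]; decide)
        have := hu ▸ Finset.mem_univ p
        simpa [support₂] using this)) hw1
  obtain ⟨v, hv, hv8⟩ := hoct
  have hbasis : ∀ n ∈ octBasis, toWord n ∈ W := by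
    intro n hn
    obtain ⟨hc, hp, -⟩ := oct_basis_check n hn
    obtain ⟨σ, hσ, e⟩ := octad_transitive (o := support₂ v) ⟨hsupp v hv, hv8⟩ (o' := toSet n)
      ⟨⟨toWord n, toWord_mem_golayCode hc, support_toWord n⟩, by rw [card_toSet, hp]⟩
    rw [← word_of_support (w := fun p => v (σ.symm p)) (by rw [support_comp, e])]
    exact hinv σ hσ v hv
  refine le_antisymm hle fun x hx => ?_
  obtain ⟨n, hn, rfl⟩ := exists_mask hx
  refine spanL_induction (P := fun n => toWord n ∈ W) codeGens (by simp [toWord_zero]) ?_ n ((inCode_iff n).1 hn)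
  intro g hg a ha
  rw [toWord_xor]
  refine add_mem ha ?_
  rw [← oct_combs_spec, List.mem_map] at hg
  obtain ⟨c, -, rfl⟩ := hg
  exact combine_induction (P := fun n => toWord n ∈ W) (by simp [toWord_zero])
    (fun a b ha hb => by rw [toWord_xor]; exact add_mem ha hb) _ hbasis c

end Cfsg.Lib.Golay
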