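import Mathlib
import Cfsg.Prelude.Def_Sporadic_a
import Cfsg.Agent.Lib.Golay.Fixer
import Cfsg.Agent.Lib.Golay.Count
import Cfsg.Agent.Lib.Golay.Module

/-!
Permutations normalising a point fixer of `M24`: the octads through the fixed points are respected,
and for at most two fixed points this determines the permutation up to the swap of the two.
-/

set_option autoImplicit false

namespace Cfsg.Lib.Golay

open Cfsg
open scoped Pointwise

/-- The orbit of `q` under the fixer of `T`. -/
def orb (T : Finset GolayPt) (q : GolayPt) : Set GolayPt := MulAction.orbit (fixer T) q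

theorem mem_orb {T : Finset GolayPt} {q p : GolayPt} : p ∈ orb T q ↔ ∃ g ∈ fixer T, g q = p :=
  ⟨fun ⟨u, hu⟩ => ⟨u, u.2, hu⟩, fun ⟨g, hg, he⟩ => ⟨⟨g, hg⟩, he⟩⟩

theorem image_orb_subset {T T' : Finset GolayPt} {σ : Equiv.Perm GolayPt}
    (hconj : ∀ g ∈ fixer T, σ * g * σ⁻¹ ∈ fixer T') (q : GolayPt) :
    σ '' orb T q ⊆ orb T' (σ q) := by
  rintro y ⟨p, hp, rfl⟩
  obtain ⟨g, hg, rfl⟩ := mem_orb.1 hp
  exact mem_orb.2 ⟨_, hconj g hg, by simp⟩

theorem image_orb {T : Finset GolayPt} {σ : Equiv.Perm GolayPt}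
    (h1 : ∀ g ∈ fixer T, σ * g * σ⁻¹ ∈ fixer (T.image σ))
    (h2 : ∀ g ∈ fixer (T.image σ), σ⁻¹ * g * σ ∈ fixer T) (q : GolayPt) :
    σ '' orb T q = orb (T.image σ) (σ q) := by
  refine Set.Subset.antisymm (image_orb_subset h1 q) ?_
  intro y hy
  obtain ⟨g, hg, rfl⟩ := mem_orb.1 hy
  exact ⟨(σ⁻¹ * g * σ) q, mem_orb.2 ⟨_, h2 g hg, rfl⟩, by simp⟩

theorem orb_base_small {q : GolayPt} :
    (orb ((Finset.range 5).image baseP) q).ncard ≤ 8 ↔ q ∈ baseO := by
  rw [orb, fixer_base]
  constructor
  · intro h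
    by_contra hq
    have hadm : q ∈ MulAction.orbit (lev 5) (baseP 5) := by
      rw [orbit_lev (by norm_num)]
      exact ⟨fun j hj he => hq (he ▸ baseP_mem_baseO hj), fun _ => hq, fun h6 => absurd h6 (by norm_num)⟩
    rw [MulAction.orbit_eq_iff.2 hadm, orbit_lev (by norm_num), ncard_admissible (by norm_num)] at h
    norm_num at h
  · intro hq
    have hsub : MulAction.orbit (lev 5) q ⊆ (baseO : Set GolayPt) := by
      rintro y ⟨⟨u, hu⟩, rfl⟩
      rw [Finset.mem_coe, ← smul_baseO le_rfl hu]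
      exact Finset.smul_mem_smul_finset hq
    refine le_trans (Set.ncard_le_ncard hsub) ?_
    rw [Set.ncard_coe_finset, card_octad baseO_mem]

theorem orb_small {T o : Finset GolayPt} (hT : T.card = 5) (ho : o ∈ octads) (hTo : T ⊆ o)
    (q : GolayPt) : (orb T q).ncard ≤ 8 ↔ q ∈ o := by
  obtain ⟨τ, hτ, him⟩ := exists_set_to_base hT.le
  rw [hT] at him
  have hoct : τ • o = baseO := by
    refine octad_eq_of_five (smul_mem_words hτ ho) baseO_mem ?_
    calc 5 = (T.image τ).card := by rw [Finset.card_image_of_injective _ τ.injective, hT]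
      _ ≤ _ := Finset.card_le_card fun y hy => by
        refine Finset.mem_inter.2 ⟨?_, ?_⟩
        · rw [Finset.mem_image] at hy
          obtain ⟨a, ha, rfl⟩ := hy
          exact Finset.smul_mem_smul_finset (a := τ) (hTo ha)
        · rw [him, Finset.mem_image] at hy
          obtain ⟨j, hj, rfl⟩ := hy
          exact baseP_mem_baseO (Finset.mem_range.1 hj)
  have hback : (T.image τ).image (⇑τ⁻¹) = T := by
    have : (⇑τ⁻¹ ∘ ⇑τ) = id := by funext y; exact τ.symm_apply_apply y
    rw [Finset.image_image, this, Finset.image_id]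
  have h := image_orb (σ := τ) (fun g hg => conj_mem_fixer hτ rfl hg) (fun g hg => by
    simpa using conj_mem_fixer (Subgroup.inv_mem _ hτ) hback hg) q
  rw [← Set.ncard_image_of_injective (orb T q) τ.injective, h, him, orb_base_small, ← hoct,
    ← Equiv.Perm.smul_def, Finset.smul_mem_smul_finset_iff]

/-- A permutation fixing `A` and normalising its fixer maps octads through `A` to octads. -/
theorem smul_octad_of_normalizes {A o : Finset GolayPt} {σ : Equiv.Perm GolayPt} (hA : A.card ≤ 5)
    (hfix : ∀ a ∈ A, σ a = a) (h1 : ∀ g ∈ fixer A, σ * g * σ⁻¹ ∈ fixer A)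
    (h2 : ∀ g ∈ fixer A, σ⁻¹ * g * σ ∈ fixer A) (ho : o ∈ octads) (hAo : A ⊆ o) :
    σ • o ∈ octads := by
  obtain ⟨T, hAT, hTo, hTc⟩ := Finset.exists_subsuperset_card_eq hAo hA
    (show 5 ≤ o.card by rw [card_octad ho]; norm_num)
  have hAT' : A ⊆ T.image σ := fun a ha => Finset.mem_image.2 ⟨a, hAT ha, hfix a ha⟩
  have hle : ∀ {B : Finset GolayPt}, A ⊆ B → ∀ g ∈ fixer B, g ∈ fixer A :=
    fun hB g hg => ⟨hg.1, fun a ha => hg.2 a (hB ha)⟩
  have hc1 : ∀ g ∈ fixer T, σ * g * σ⁻¹ ∈ fixer (T.image σ) := fun g hg =>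
    ⟨(h1 g (hle hAT g hg)).1, fun b hb => by
      rw [Finset.mem_image] at hb
      obtain ⟨a, ha, rfl⟩ := hb
      simp [hg.2 a ha]⟩
  have hc2 : ∀ g ∈ fixer (T.image σ), σ⁻¹ * g * σ ∈ fixer T := fun g hg =>
    ⟨(h2 g (hle hAT' g hg)).1, fun a ha => by
      simp [hg.2 (σ a) (Finset.mem_image_of_mem _ ha)]⟩
  obtain ⟨o', ho', hTo'⟩ := exists_octad (s := T.image σ)
    (by rw [Finset.card_image_of_injective _ σ.injective, hTc])
  suffices σ • o = o' by rw [this]; exact ho'
  refine Finset.eq_of_subset_of_card_le ?_ (by rw [Finset.card_smul_finset, card_octad ho, card_octad ho'])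
  intro y hy
  rw [Finset.mem_smul_finset] at hy
  obtain ⟨q, hq, rfl⟩ := hy
  rw [Equiv.Perm.smul_def, ← orb_small (by rw [Finset.card_image_of_injective _ σ.injective, hTc]) ho' hTo',
    ← image_orb hc1 hc2, Set.ncard_image_of_injective _ σ.injective]
  exact (orb_small hTc ho hTo q).2 hq

theorem octad_mem_supports {o : Finset GolayPt} (ho : o ∈ octads) :
    o ∈ supports (golayCode : Set (GolayPt → ZMod 2)) := ho.1

theorem mem_M24_of_supports {σ : Equiv.Perm GolayPt}
    (h : ∀ s ∈ supports (golayCode : Set (GolayPt → ZMod 2)), σ • s ∈ supports (golayCode : Set (GolayPt → ZMod 2))) :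
    σ ∈ M24 := by
  rw [MulAction.mem_stabilizer_iff]
  set S := supports (golayCode : Set (GolayPt → ZMod 2)) with hS
  refine Set.eq_of_subset_of_ncard_le (s := σ • S) (t := S) ?_ ?_ (Set.toFinite _)
  · rintro y hy
    obtain ⟨s, hs, rfl⟩ := Set.mem_smul_set.1 hy
    exact h s hs
  · rw [Set.ncard_smul_set]

theorem mem_M24_of_octads {σ : Equiv.Perm GolayPt} (h : ∀ o ∈ octads, σ • o ∈ octads) : σ ∈ M24 := by
  rw [M24_eq_setSystemAut, MulAction.mem_stabilizer_iff]
  refine Set.eq_of_subset_of_ncard_le (s := σ • octads) (t := octads) ?_ ?_ (Set.toFinite _)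
  · rintro y hy
    obtain ⟨s, hs, rfl⟩ := Set.mem_smul_set.1 hy
    exact h s hs
  · rw [Set.ncard_smul_set]

theorem normalizer_fixer_empty {σ : Equiv.Perm GolayPt}
    (h1 : ∀ g ∈ fixer ∅, σ * g * σ⁻¹ ∈ fixer ∅) (h2 : ∀ g ∈ fixer ∅, σ⁻¹ * g * σ ∈ fixer ∅) :
    σ ∈ M24 :=
  mem_M24_of_octads fun _ ho =>
    smul_octad_of_normalizes (by simp) (by simp) h1 h2 ho (Finset.empty_subset _)

theorem normalizer_fixer_one {a : GolayPt} {σ : Equiv.Perm GolayPt} (hfix : σ a = a)
    (h1 : ∀ g ∈ fixer {a}, σ * g * σ⁻¹ ∈ fixer {a}) (h2 : ∀ g ∈ fixer {a}, σ⁻¹ * g * σ ∈ fixer {a}) :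
    σ ∈ M24 := by
  have key : ∀ o ∈ octads, a ∈ o → σ • o ∈ octads := fun o ho ha =>
    smul_octad_of_normalizes (A := {a}) (by simp) (by simpa using hfix) h1 h2 ho (by simpa using ha)
  refine mem_M24_of_octads fun o ho => ?_
  by_cases ha : a ∈ o
  · exact key o ho ha
  obtain ⟨T, hT, hTc⟩ := Finset.exists_subset_card_eq (show 4 ≤ o.card by rw [card_octad ho]; norm_num)
  have hins : (insert a T).card = 5 := by rw [Finset.card_insert_of_notMem (fun h => ha (hT h)), hTc]
  obtain ⟨o₁, ho₁, hTo₁⟩ := exists_octad hins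
  have ha₁ : a ∈ o₁ := hTo₁ (Finset.mem_insert_self _ _)
  have hne : o₁ ≠ o := fun e => ha (e ▸ ha₁)
  have hge : 4 ≤ (o₁ ∩ o).card := hTc ▸ Finset.card_le_card
    (fun y hy => Finset.mem_inter.2 ⟨hTo₁ (Finset.mem_insert_of_mem hy), hT hy⟩)
  have hint := octad_inter ho₁ ho hne
  have hsd := card_symmDiff_add o₁ o
  have h8 : (symmDiff o₁ o).card = 8 := by rw [card_octad ho₁, card_octad ho] at hsd; omega
  have ho₂ : symmDiff o₁ o ∈ octads :=
    ⟨symmDiff_mem_supports ho₁.1 ho.1, h8⟩
  have ha₂ : a ∈ symmDiff o₁ o := Finset.mem_symmDiff.2 (Or.inl ⟨ha₁, ha⟩)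
  have heq : o = symmDiff o₁ (symmDiff o₁ o) := (symmDiff_symmDiff_cancel_left _ _).symm
  refine ⟨?_, (Finset.card_smul_finset _ _).trans (card_octad ho)⟩
  rw [heq, smul_symmDiff]
  exact symmDiff_mem_supports (key _ ho₁ ha₁).1 (key _ ho₂ ha₂).1

/-- Octads through `none` and `some 0` spanning the words with equal values there. -/
def pairBasis : List ℕ :=
  [8391797, 8398155, 8412681, 8421811, 8471941, 8524371, 8657159, 8922769, 9440193, 10486557, 12587685]

theorem pairBasis_check : ∀ n ∈ pairBasis, inCode n = true ∧ pop n = 8 ∧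
    n.testBit 23 = true ∧ n.testBit 0 = true := by decide +kernel

set_option maxRecDepth 100000 in
theorem pairSpan_check :
    (spanL codeGens).all (fun n => (n.testBit 23 != n.testBit 0) ||
      (keySet ((spanL pairBasis).map codeKey)).testBit (codeKey n)) = true := by
  decide +kernel

theorem pairSpan_inCode : ∀ n ∈ spanL pairBasis, inCode n = true := by
  intro n hn
  refine spanL_induction (P := fun n => inCode n = true) pairBasis inCode_zero ?_ n hn
  intro g hg a ha
  exact inCode_xor ha (pairBasis_check g hg).1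

theorem mem_pairSpan {n : ℕ} (hn : inCode n = true) (hb : n.testBit 23 = n.testBit 0) :
    n ∈ spanL pairBasis := by
  have h := List.all_eq_true.1 pairSpan_check n ((inCode_iff n).1 hn)
  simp only [hb, bne_self_eq_false, Bool.false_or] at h
  obtain ⟨m, hm, he⟩ := List.mem_map.1 (mem_of_testBit_keySet _ _ h)
  rwa [← codeKey_inj (pairSpan_inCode m hm) hn he]

set_option maxRecDepth 100000 in
theorem low_all : (List.range 4096).all (fun c => combine codeGens c % 4096 == c) = true := by
  decide +kernel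

theorem low_check (c : ℕ) (hc : c < 4096) : combine codeGens c % 4096 = c :=
  eq_of_beq (List.all_eq_true.1 low_all c (List.mem_range.2 hc))

set_option maxRecDepth 100000 in
theorem high_all : (List.range 4096).all (fun h => h == 0 ||
    codeGens.any (fun g => pop ((h * 4096) &&& g) % 2 == 1)) = true := by
  decide +kernel

theorem high_check (h : ℕ) (hh : h < 4096)
    (hg : ∀ g ∈ codeGens, pop ((h * 4096) &&& g) % 2 = 0) : h = 0 := by
  have := List.all_eq_true.1 high_all h (List.mem_range.2 hh)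
  simp only [Bool.or_eq_true, beq_iff_eq, List.any_eq_true] at this
  rcases this with e | ⟨g, hgm, e⟩
  · exact e
  · rw [hg g hgm] at e; exact absurd e (by norm_num)

theorem combine_inCode (c : ℕ) : inCode (combine codeGens c) = true := by
  refine combine_induction (P := fun n => inCode n = true) inCode_zero (fun a b => inCode_xor) _ ?_ c
  intro w hw
  exact (inCode_iff w).2 (mem_spanL_of_mem w hw)

theorem even_inter_supports {s t : Finset GolayPt}
    (hs : s ∈ supports (golayCode : Set (GolayPt → ZMod 2)))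
    (ht : t ∈ supports (golayCode : Set (GolayPt → ZMod 2))) : Even (s ∩ t).card := by
  have h := card_symmDiff_add s t
  have h1 := weight_cases hs
  have h2 := weight_cases ht
  have h3 := weight_cases (symmDiff_mem_supports hs ht)
  rw [Nat.even_iff]
  omega

theorem inter_symmDiff_card {α : Type*} [DecidableEq α] (s w t : Finset α) :
    ((symmDiff s w) ∩ t).card + 2 * ((s ∩ w) ∩ t).card = (s ∩ t).card + (w ∩ t).card := by
  have h := card_symmDiff_add (s ∩ t) (w ∩ t)
  have e1 : symmDiff (s ∩ t) (w ∩ t) = symmDiff s w ∩ t := by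
    ext x; simp only [Finset.mem_symmDiff, Finset.mem_inter]; tauto
  have e2 : (s ∩ t) ∩ (w ∩ t) = (s ∩ w) ∩ t := by
    ext x; simp only [Finset.mem_inter]; tauto
  rwa [e1, e2] at h

/-- The code is its own orthogonal complement, in terms of supports. -/
theorem mem_supports_of_orth (s : Finset GolayPt)
    (h : ∀ t ∈ supports (golayCode : Set (GolayPt → ZMod 2)), Even (s ∩ t).card) :
    s ∈ supports (golayCode : Set (GolayPt → ZMod 2)) := by
  set c := setNat s % 4096 with hc
  set w := combine codeGens c with hw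
  have hwc : inCode w = true := combine_inCode c
  set r := setNat s ^^^ w with hr
  have hrlt : r < 2 ^ 24 := Nat.xor_lt_two_pow (setNat_lt s) (lt_of_inCode hwc)
  have hrlow : r % 4096 = 0 := by
    have := Nat.xor_mod_two_pow (a := setNat s) (b := w) (n := 12)
    norm_num at this
    rw [hr, this, hw, low_check c (Nat.mod_lt _ (by norm_num)), Nat.xor_self]
  have hws : toSet w ∈ supports (golayCode : Set (GolayPt → ZMod 2)) := by
    rw [mem_supports_iff, setNat_toSet (lt_of_inCode hwc)]; exact hwc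
  have hrset : toSet r = symmDiff s (toSet w) := by rw [hr, toSet_xor, toSet_setNat]
  have hr0 : r = 0 := by
    obtain ⟨q, hq⟩ : 4096 ∣ r := Nat.dvd_of_mod_eq_zero hrlow
    have hqlt : q < 4096 := by norm_num at hrlt; omega
    have := high_check q hqlt (fun g hg => by
      have hgc : inCode g = true := (inCode_iff g).2 (mem_spanL_of_mem g hg)
      have hgs : toSet g ∈ supports (golayCode : Set (GolayPt → ZMod 2)) := by
        rw [mem_supports_iff, setNat_toSet (lt_of_inCode hgc)]; exact hgc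
      rw [mul_comm, ← hq, ← card_inter_toSet, hrset, ← Nat.even_iff]
      have h1 := inter_symmDiff_card s (toSet w) (toSet g)
      have h2 := h _ hgs
      have h3 := even_inter_supports hws hgs
      rw [Nat.even_iff] at h2 h3 ⊢
      omega)
    omega
  have hs : setNat s = w := by
    have : setNat s ^^^ w = 0 := hr0
    calc setNat s = (setNat s ^^^ w) ^^^ w := by rw [Nat.xor_assoc, Nat.xor_self, Nat.xor_zero]
      _ = w := by rw [this, Nat.zero_xor]
  rw [mem_supports_iff, hs]
  exact hwc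

theorem smul_pairSupports {σ : Equiv.Perm GolayPt}
    (hfix : ∀ a ∈ ({none, some 0} : Finset GolayPt), σ a = a)
    (h1 : ∀ g ∈ fixer {none, some 0}, σ * g * σ⁻¹ ∈ fixer {none, some 0})
    (h2 : ∀ g ∈ fixer {none, some 0}, σ⁻¹ * g * σ ∈ fixer {none, some 0})
    {s : Finset GolayPt} (hs : s ∈ supports (golayCode : Set (GolayPt → ZMod 2)))
    (hb : (none : GolayPt) ∈ s ↔ (some 0 : GolayPt) ∈ s) :
    σ • s ∈ supports (golayCode : Set (GolayPt → ZMod 2)) := by
  have hn := (mem_supports_iff s).1 hs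
  have hbit : (setNat s).testBit 23 = (setNat s).testBit 0 := by
    rw [testBit_setNat s (by norm_num), testBit_setNat s (by norm_num)]
    exact decide_eq_decide.2 hb
  have hmem := mem_pairSpan hn hbit
  rw [← toSet_setNat s]
  generalize setNat s = n at hmem
  refine (spanL_induction (P := fun n => inCode n = true ∧
    σ • toSet n ∈ supports (golayCode : Set (GolayPt → ZMod 2))) pairBasis ?_ ?_ n hmem).2
  · refine ⟨inCode_zero, ?_⟩
    have : toSet 0 = (∅ : Finset GolayPt) := by ext p; simp [mem_toSet]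
    rw [this, Finset.smul_finset_empty, ← this, mem_supports_iff, setNat_toSet (by norm_num)]
    exact inCode_zero
  · intro g hg a ha
    obtain ⟨hgc, hg8, hg23, hg0⟩ := pairBasis_check g hg
    refine ⟨inCode_xor ha.1 hgc, ?_⟩
    rw [toSet_xor, smul_symmDiff]
    refine symmDiff_mem_supports ha.2 (octad_mem_supports ?_)
    refine smul_octad_of_normalizes (A := {none, some 0}) (by decide) hfix h1 h2 ?_ ?_
    · refine ⟨?_, (card_toSet g).trans hg8⟩
      rw [mem_supports_iff, setNat_toSet (lt_of_inCode hgc)]; exact hgc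
    · intro p hp
      simp only [Finset.mem_insert, Finset.mem_singleton] at hp
      rcases hp with rfl | rfl
      · rw [mem_toSet]; exact hg23
      · rw [mem_toSet]; exact hg0

theorem oddOctad_check : inCode 8394986 = true ∧ pop 8394986 = 8 ∧
    (8394986 : ℕ).testBit 23 = true ∧ (8394986 : ℕ).testBit 0 = false := by decide +kernel

theorem normalizer_fixer_two {σ : Equiv.Perm GolayPt}
    (hfix : ∀ a ∈ ({none, some 0} : Finset GolayPt), σ a = a)
    (h1 : ∀ g ∈ fixer {none, some 0}, σ * g * σ⁻¹ ∈ fixer {none, some 0})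
    (h2 : ∀ g ∈ fixer {none, some 0}, σ⁻¹ * g * σ ∈ fixer {none, some 0}) :
    σ ∈ M24 ∨ Equiv.swap none (some 0) * σ ∈ M24 := by
  set τ : Equiv.Perm GolayPt := Equiv.swap none (some 0) with hτ
  set S := supports (golayCode : Set (GolayPt → ZMod 2)) with hS
  obtain ⟨hc, hc8, hc23, hc0⟩ := oddOctad_check
  set c₁ := toSet 8394986 with hc₁
  have hc₁s : c₁ ∈ S := by
    rw [hS, mem_supports_iff, setNat_toSet (lt_of_inCode hc)]; exact hc
  have hcn : (none : GolayPt) ∈ c₁ := by rw [hc₁, mem_toSet]; exact hc23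
  have hc0' : (some 0 : GolayPt) ∉ c₁ := by
    rw [hc₁, mem_toSet]; exact fun h => Bool.false_ne_true (hc0.symm.trans h)
  have hn : σ none = none := hfix none (by simp)
  have h0 : σ (some 0) = some 0 := hfix (some 0) (by simp)
  have hinv : ∀ a ∈ ({none, some 0} : Finset GolayPt), σ⁻¹ a = a := fun a ha => by
    rw [Equiv.Perm.inv_eq_iff_eq]; exact (hfix a ha).symm
  set d := σ • c₁ with hd
  have hmemd : ∀ a, σ a = a → (a ∈ d ↔ a ∈ c₁) := fun a ha => by
    conv_lhs => rw [← ha, hd, ← Equiv.Perm.smul_def, Finset.smul_mem_smul_finset_iff]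
  -- words with equal entries
  have hev : ∀ t ∈ S, ((none : GolayPt) ∈ t ↔ (some 0 : GolayPt) ∈ t) → Even (d ∩ t).card := by
    intro t ht hb
    have h' : σ⁻¹ • t ∈ S := smul_pairSupports hinv (fun g hg => by simpa using h2 g hg)
      (fun g hg => by simpa using h1 g hg) ht hb
    have : d ∩ t = σ • (c₁ ∩ σ⁻¹ • t) := by rw [Finset.smul_finset_inter, smul_inv_smul]
    rw [this, Finset.card_smul_finset]
    exact even_inter_supports hc₁s h'
  have hswap : ∀ t : Finset GolayPt, ((none : GolayPt) ∈ t ↔ (some 0 : GolayPt) ∈ t) → τ • t = t := by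
    intro t hb
    ext p
    rw [Finset.mem_smul_finset]
    constructor
    · rintro ⟨q, hq, rfl⟩
      rw [Equiv.Perm.smul_def, hτ]
      rcases eq_or_ne q none with rfl | e1
      · rw [Equiv.swap_apply_left]; exact hb.1 hq
      rcases eq_or_ne q (some 0) with rfl | e2
      · rw [Equiv.swap_apply_right]; exact hb.2 hq
      rwa [Equiv.swap_apply_of_ne_of_ne e1 e2]
    · intro hp
      rcases eq_or_ne p none with rfl | e1
      · exact ⟨some 0, hb.1 hp, Equiv.swap_apply_right _ _⟩
      rcases eq_or_ne p (some 0) with rfl | e2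
      · exact ⟨none, hb.2 hp, Equiv.swap_apply_left _ _⟩
      exact ⟨p, hp, Equiv.swap_apply_of_ne_of_ne e1 e2⟩
  -- the image of the odd octad, possibly after the swap
  obtain ⟨ρ, hρ, hρs⟩ : ∃ ρ : Equiv.Perm GolayPt, (ρ = σ ∨ ρ = τ * σ) ∧ ρ • c₁ ∈ S := by
    have hgen : ∀ d' : Finset GolayPt, (∀ t ∈ S, ((none : GolayPt) ∈ t ↔ (some 0 : GolayPt) ∈ t) →
        Even (d' ∩ t).card) → Even (d' ∩ c₁).card → d' ∈ S := by
      intro d' hall hodd
      refine mem_supports_of_orth d' fun t ht => ?_
      by_cases hb : ((none : GolayPt) ∈ t ↔ (some 0 : GolayPt) ∈ t)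
      · exact hall t ht hb
      · have hb' : ((none : GolayPt) ∈ symmDiff t c₁ ↔ (some 0 : GolayPt) ∈ symmDiff t c₁) := by
          simp only [Finset.mem_symmDiff, hcn, hc0']
          tauto
        have h1' := hall _ (symmDiff_mem_supports ht hc₁s) hb'
        have h2' := inter_symmDiff_card t c₁ d'
        rw [Finset.inter_comm d'] at h1' hodd ⊢
        rw [Nat.even_iff] at h1' hodd ⊢
        omega
    by_cases heven : Even (d ∩ c₁).card
    · exact ⟨σ, Or.inl rfl, hgen d hev heven⟩
    · refine ⟨τ * σ, Or.inr rfl, ?_⟩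
      rw [mul_smul, ← hd]
      refine hgen _ (fun t ht hb => ?_) ?_
      · have : τ • d ∩ t = τ • (d ∩ t) := by rw [Finset.smul_finset_inter, hswap t hb]
        rw [this, Finset.card_smul_finset]
        exact hev t ht hb
      · have hnd : (none : GolayPt) ∈ d := (hmemd _ hn).2 hcn
        have h0d : (some 0 : GolayPt) ∉ d := fun h => hc0' ((hmemd _ h0).1 h)
        have : τ • d ∩ c₁ = (d ∩ c₁).erase none := by
          ext p
          rw [Finset.mem_erase, Finset.mem_inter, Finset.mem_inter, Finset.mem_smul_finset]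
          constructor
          · rintro ⟨⟨q, hq, rfl⟩, hp⟩
            rw [Equiv.Perm.smul_def, hτ] at hp ⊢
            rcases eq_or_ne q none with rfl | e1
            · rw [Equiv.swap_apply_left] at hp; exact absurd hp hc0'
            rcases eq_or_ne q (some 0) with rfl | e2
            · exact absurd hq h0d
            rw [Equiv.swap_apply_of_ne_of_ne e1 e2] at hp ⊢
            exact ⟨e1, hq, hp⟩
          · rintro ⟨hp, hpd, hpc⟩
            exact ⟨⟨p, hpd, Equiv.swap_apply_of_ne_of_ne hp (fun e => hc0' (e ▸ hpc))⟩, hpc⟩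
        rw [this, Finset.card_erase_of_mem (Finset.mem_inter.2 ⟨hnd, hcn⟩)]
        rw [Nat.not_even_iff] at heven
        rw [Nat.even_iff]
        omega
  have hρeq : ∀ s ∈ S, ((none : GolayPt) ∈ s ↔ (some 0 : GolayPt) ∈ s) → ρ • s ∈ S := by
    intro s hs hb
    have hσs : σ • s ∈ S := smul_pairSupports hfix h1 h2 hs hb
    rcases hρ with rfl | rfl
    · exact hσs
    · rw [mul_smul, hswap _ ?_]
      · exact hσs
      · conv_lhs => rw [← hn, ← Equiv.Perm.smul_def, Finset.smul_mem_smul_finset_iff]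
        conv_rhs => rw [← h0, ← Equiv.Perm.smul_def, Finset.smul_mem_smul_finset_iff]
        exact hb
  have hmem : ρ ∈ M24 := by
    refine mem_M24_of_supports fun s hs => ?_
    by_cases hb : ((none : GolayPt) ∈ s ↔ (some 0 : GolayPt) ∈ s)
    · exact hρeq s hs hb
    · have hb' : ((none : GolayPt) ∈ symmDiff s c₁ ↔ (some 0 : GolayPt) ∈ symmDiff s c₁) := by
        simp only [Finset.mem_symmDiff, hcn, hc0']
        tauto
      rw [← symmDiff_symmDiff_cancel_right c₁ s, smul_symmDiff]
      exact symmDiff_mem_supports (hρeq _ (symmDiff_mem_supports hs hc₁s) hb') hρs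
  rcases hρ with rfl | rfl
  · exact Or.inl hmem
  · exact Or.inr hmem

end Cfsg.Lib.Golay
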