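import Mathlib
import Cfsg.Prelude.Def_Sporadic_a
import Cfsg.Agent.Lib.Golay.Fixer

/-!
Subgroups of the index of a point stabiliser in the fixer of at most two points fix a further point.
-/

set_option autoImplicit false

namespace Cfsg.Lib.Golay

open Cfsg
open scoped Pointwise Classical

theorem card_orbit_mul (H : Subgroup (Equiv.Perm GolayPt)) (p : GolayPt) :
    Nat.card H = (MulAction.orbit H p).toFinset.card *
      Nat.card ↥(H ⊓ MulAction.stabilizer (Equiv.Perm GolayPt) p) := by
  rw [card_eq_mul_card_inf_stabilizer H p, Set.ncard_eq_toFinset_card']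

theorem orbit_closed {H : Subgroup (Equiv.Perm GolayPt)} {h : Equiv.Perm GolayPt} (hh : h ∈ H)
    (p : GolayPt) : ∀ q ∈ (MulAction.orbit H p).toFinset, h q ∈ (MulAction.orbit H p).toFinset := by
  intro q hq
  rw [Set.mem_toFinset] at hq ⊢
  obtain ⟨u, rfl⟩ := hq
  exact ⟨⟨h, hh⟩ * u, rfl⟩

theorem exists_order {H : Subgroup (Equiv.Perm GolayPt)} {r : ℕ} [Fact r.Prime] (hd : r ∣ Nat.card H) :
    ∃ h ∈ H, orderOf h = r := by
  obtain ⟨⟨h, hh⟩, hord⟩ := exists_prime_orderOf_dvd_card' r hd
  exact ⟨h, hh, by rwa [Subgroup.orderOf_mk] at hord⟩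

/-- A permutation of order eleven in `M24` has exactly two fixed points. -/
theorem fix_eleven {h : Equiv.Perm GolayPt} (hh : h ∈ M24) (ho : orderOf h = 11) : (fixPts h).card = 2 := by
  haveI : Fact (Nat.Prime 11) := ⟨by norm_num⟩
  have h1 := fix_le_four hh (by rw [ho]; norm_num)
  have h2 := modEq_fixPts (r := 11) (ho ▸ pow_orderOf_eq_one h)
  unfold Nat.ModEq at h2
  omega

/-- No group of order 18480 sits inside a two point fixer. -/
theorem no_card_18480 {L : Subgroup (Equiv.Perm GolayPt)} (hL : L ≤ M24) {p q : GolayPt} (hpq : p ≠ q)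
    (hp : ∀ g ∈ L, g p = p) (hq : ∀ g ∈ L, g q = q) : Nat.card L ≠ 18480 := by
  intro hc
  haveI : Fact (Nat.Prime 11) := ⟨by norm_num⟩
  obtain ⟨P⟩ : Nonempty (Sylow 11 L) := inferInstance
  have hP : Nat.card (P : Subgroup L) = 11 := by
    rw [P.card_eq_multiplicity, hc]
    have e : (18480 : ℕ).factorization 11 = 1 := by
      rw [show (18480 : ℕ) = 11 * 1680 from rfl, Nat.factorization_mul (by norm_num) (by norm_num),
        Finsupp.add_apply, Nat.Prime.factorization_self (by norm_num),
        Nat.factorization_eq_zero_of_not_dvd (by norm_num)]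
    rw [e, pow_one]
  obtain ⟨x, hx⟩ := exists_prime_orderOf_dvd_card' (G := (P : Subgroup L)) 11 (by rw [hP])
  set h : Equiv.Perm GolayPt := ((x : L) : Equiv.Perm GolayPt) with hh
  have hord : orderOf h = 11 := by rw [hh, Subgroup.orderOf_coe, Subgroup.orderOf_coe, hx]
  have hmem : h ∈ M24 := hL (x : L).2
  have hfix : fixPts h = {p, q} := by
    refine (Finset.eq_of_subset_of_card_le ?_ ?_).symm
    · intro y hy
      simp only [Finset.mem_insert, Finset.mem_singleton] at hy
      rcases hy with rfl | rfl
      · exact mem_fixPts.2 (hp _ (x : L).2)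
      · exact mem_fixPts.2 (hq _ (x : L).2)
    · rw [fix_eleven hmem hord, Finset.card_pair hpq]
  set C : Subgroup L := Subgroup.centralizer ((P : Subgroup L) : Set L) with hC
  set N : Subgroup L := Subgroup.normalizer ((P : Subgroup L) : Set L) with hN
  -- the centraliser is semiregular off the two fixed points
  obtain ⟨a, ha⟩ : ∃ a, a ∉ fixPts h := by
    by_contra hne
    push Not at hne
    have h24 : (fixPts h).card = 24 := by
      rw [Finset.eq_univ_iff_forall.2 hne, Finset.card_univ, Fintype.card_option, ZMod.card]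
    rw [fix_eleven hmem hord] at h24
    omega
  have hcomm : ∀ c ∈ C, (c : Equiv.Perm GolayPt) * h = h * c := fun c hc => by
    have := Subgroup.mem_centralizer_iff.1 hc (x : L) x.2
    exact (congrArg Subtype.val this).symm
  have hsemi : ∀ c ∈ C, (c : Equiv.Perm GolayPt) a = a → c = 1 := by
    intro c hc hca
    have hpow : ∀ k : ℕ, (c : Equiv.Perm GolayPt) ((h ^ k) a) = (h ^ k) a := by
      intro k
      have hk : Commute (c : Equiv.Perm GolayPt) (h ^ k) := Commute.pow_right (hcomm c hc) k
      calc (c : Equiv.Perm GolayPt) ((h ^ k) a) = ((c : Equiv.Perm GolayPt) * h ^ k) a := rfl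
        _ = (h ^ k * c) a := by rw [hk.eq]
        _ = (h ^ k) a := by rw [Equiv.Perm.mul_apply, hca]
    refine Subtype.ext (eq_one_of_fix (hL c.2) ?_)
    have aux : ∀ i j, i < j → j < 11 → (h ^ i) a ≠ (h ^ j) a := by
      intro i j hlt hj he
      have hd : (h ^ (j - i)) a = a := by
        apply (h ^ i).injective
        rw [← Equiv.Perm.mul_apply, ← pow_add, show i + (j - i) = j by omega, ← he]
      have hcop : Nat.Coprime (j - i) 11 := by
        rw [Nat.coprime_comm, (by norm_num : Nat.Prime 11).coprime_iff_not_dvd]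
        intro hdvd
        have := Nat.le_of_dvd (by omega) hdvd
        omega
      obtain ⟨m, -, hm⟩ := Nat.exists_mul_mod_eq_one_of_coprime hcop (by norm_num)
      refine ha (mem_fixPts.2 ?_)
      have h1 : h = (h ^ (j - i)) ^ m := by
        rw [← pow_mul, ← pow_mod_orderOf, hord, hm, pow_one]
      rw [h1]
      exact Function.IsFixedPt.perm_pow (e := h ^ (j - i)) hd m
    have hinj : Set.InjOn (fun k : ℕ => (h ^ k) a) (Finset.range 11 : Set ℕ) := by
      intro i hi j hj he
      simp only [Finset.coe_range, Set.mem_Iio] at hi hj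
      rcases lt_trichotomy i j with hlt | rfl | hlt
      · exact absurd he (aux i j hlt hj)
      · rfl
      · exact absurd he.symm (aux j i hlt hi)
    refine le_trans ?_ (Finset.card_le_card (s := (Finset.range 11).image fun k => (h ^ k) a) ?_)
    · rw [Finset.card_image_of_injOn hinj, Finset.card_range]; norm_num
    · intro y hy
      rw [Finset.mem_image] at hy
      obtain ⟨k, _, rfl⟩ := hy
      exact mem_fixPts.2 (hpow k)
  have hC22 : Nat.card C ≤ 22 := by
    have hmaps : ∀ c : C, ((c : L) : Equiv.Perm GolayPt) a ∈ ({p, q} : Finset GolayPt)ᶜ := fun c => by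
      rw [Finset.mem_compl, ← hfix, mem_fixPts]
      intro e
      apply ha
      rw [mem_fixPts]
      apply ((c : L) : Equiv.Perm GolayPt).injective
      calc ((c : L) : Equiv.Perm GolayPt) (h a) = (((c : L) : Equiv.Perm GolayPt) * h) a := rfl
        _ = (h * ((c : L) : Equiv.Perm GolayPt)) a := by rw [hcomm _ c.2]
        _ = ((c : L) : Equiv.Perm GolayPt) a := e
    have hinj : Function.Injective
        (fun c : C => (⟨((c : L) : Equiv.Perm GolayPt) a, hmaps c⟩ : ↥(({p, q} : Finset GolayPt)ᶜ))) := by
      intro c d he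
      simp only [Subtype.mk.injEq] at he
      have hm : (d : L)⁻¹ * c ∈ C := C.mul_mem (C.inv_mem d.2) c.2
      have := hsemi _ hm (by
        change ((d : L) : Equiv.Perm GolayPt)⁻¹ (((c : L) : Equiv.Perm GolayPt) a) = a
        rw [he]; exact Equiv.symm_apply_apply _ _)
      exact Subtype.ext (inv_mul_eq_one.1 this).symm
    refine le_trans (Nat.card_le_card_of_injective _ hinj) ?_
    rw [Nat.card_eq_fintype_card, Fintype.card_coe, Finset.card_compl, Fintype.card_option, ZMod.card,
      Finset.card_pair hpq]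
  have hPC : (P : Subgroup L) ≤ C := by
    haveI : IsCyclic (P : Subgroup L) := isCyclic_of_prime_card hP
    letI := IsCyclic.commGroup (α := (P : Subgroup L))
    exact Subgroup.le_centralizer (P : Subgroup L)
  have hC11 : 11 ∣ Nat.card C := hP ▸ Subgroup.card_dvd_of_le hPC
  have hquot : C.relIndex N ∣ 10 := by
    haveI : IsCyclic (P : Subgroup L) := isCyclic_of_prime_card hP
    set f := Subgroup.normalizerMonoidHom (P : Subgroup L) with hf
    have hker : C.relIndex N = f.ker.index := by
      rw [hf, Subgroup.normalizerMonoidHom_ker]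
      rfl
    rw [hker, Subgroup.index_ker]
    refine dvd_trans (Subgroup.card_subgroup_dvd_card _) ?_
    rw [Nat.card_congr (IsCyclic.mulAutMulEquiv (P : Subgroup L)).toEquiv, hP,
      Nat.card_eq_fintype_card, ZMod.card_units_eq_totient, Nat.totient_prime (by norm_num)]
  have hCN : C ≤ N := by
    intro c hc
    rw [hN, Subgroup.mem_normalizer_iff]
    intro n
    have key : ∀ y ∈ (P : Subgroup L), c * y * c⁻¹ = y := fun y hy => by
      rw [← Subgroup.mem_centralizer_iff.1 hc y hy]; group
    constructor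
    · intro hn; rw [key n hn]; exact hn
    · intro hn
      have := Subgroup.mem_centralizer_iff.1 hc _ hn
      have e : n = c * n * c⁻¹ := by
        calc n = c⁻¹ * (c * n * c⁻¹ * c) := by group
          _ = c⁻¹ * (c * (c * n * c⁻¹)) := by rw [this]
          _ = c * n * c⁻¹ := by group
      rwa [e]
  have hNcard : Nat.card N = C.relIndex N * Nat.card C := by
    have := Subgroup.relIndex_mul_index (bot_le : (⊥ : Subgroup L) ≤ C)
    rw [← Subgroup.relIndex_bot_left, ← Subgroup.relIndex_bot_left, mul_comm]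
    exact (Subgroup.relIndex_mul_relIndex _ _ _ bot_le hCN).symm
  have hidx : N.index * Nat.card N = 18480 := by rw [mul_comm, Subgroup.card_mul_index, hc]
  have hmod : N.index % 11 = 1 := by
    rw [hN]
    rw [show (Subgroup.normalizer ((P : Subgroup L) : Set L)).index = Nat.card (Sylow 11 L) from P.card_eq_index_normalizer.symm]
    exact (card_sylow_modEq_one 11 L : _)
  have hd : C.relIndex N ≤ 10 := Nat.le_of_dvd (by norm_num) hquot
  generalize N.index = n at hidx hmod
  generalize C.relIndex N = d at hquot hd hNcard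
  generalize Nat.card N = m at hidx hNcard
  generalize Nat.card C = c at hC22 hC11 hNcard
  subst hNcard
  obtain ⟨k, rfl⟩ := hC11
  have hk : k ≤ 2 := by omega
  interval_cases k <;> interval_cases d <;> omega

/-- A subgroup of index 24 in `M24` fixes a point. -/
theorem fixes_point_zero {H : Subgroup (Equiv.Perm GolayPt)} (hH : H ≤ M24)
    (hc : Nat.card H = 10200960) : ∃ y, ∀ g ∈ H, g y = y := by
  haveI : Fact (Nat.Prime 23) := ⟨by norm_num⟩
  obtain ⟨h, hh, ho⟩ := exists_order (H := H) (r := 23) (by rw [hc]; norm_num)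
  have hp : h ^ 23 = 1 := ho ▸ pow_orderOf_eq_one h
  have hf4 := fix_le_four (hH hh) (by rw [ho]; norm_num)
  have hfm := modEq_fixPts (r := 23) hp
  unfold Nat.ModEq at hfm
  obtain ⟨y, hy⟩ := Finset.card_eq_one.1 (show (fixPts h).card = 1 by omega)
  set O := (MulAction.orbit H y).toFinset with hO
  have hyO : y ∈ O := Set.mem_toFinset.2 (MulAction.mem_orbit_self y)
  have hOf : (O.filter fun p => h p = p) = {y} := by
    ext p
    rw [Finset.mem_filter, Finset.mem_singleton]
    constructor
    · rintro ⟨-, hp'⟩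
      rw [← mem_fixPts, hy, Finset.mem_singleton] at hp'
      exact hp'
    · rintro rfl
      exact ⟨hyO, mem_fixPts.1 (by rw [hy]; exact Finset.mem_singleton_self _)⟩
  have hOm := modEq_fixed (r := 23) hp O (orbit_closed hh y)
  rw [hOf, Finset.card_singleton] at hOm
  unfold Nat.ModEq at hOm
  have hO24 : O.card ≤ 24 := by
    refine le_trans (Finset.card_le_univ _) ?_
    rw [Fintype.card_option, ZMod.card]
  have hOpos : 0 < O.card := Finset.card_pos.2 ⟨y, hyO⟩
  rcases (show O.card = 1 ∨ O.card = 24 by omega) with h1 | h24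
  · refine ⟨y, fun g hg => ?_⟩
    obtain ⟨z, hz⟩ := Finset.card_eq_one.1 h1
    have h2 : g y ∈ O := orbit_closed hg y y hyO
    rw [hz, Finset.mem_singleton] at h2 hyO
    rw [h2, hyO]
  · exfalso
    set K := H ⊓ MulAction.stabilizer (Equiv.Perm GolayPt) y with hK
    have hKc : Nat.card K = 425040 := by
      have := card_orbit_mul H y
      rw [← hO, h24, hc, ← hK] at this
      omega
    have hKy : ∀ g ∈ K, g y = y := fun g hg => hg.2
    have hhK : h ∈ K := ⟨hh, mem_fixPts.1 (by rw [hy]; exact Finset.mem_singleton_self _)⟩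
    obtain ⟨q, hq⟩ : ∃ q, q ≠ y := exists_ne y
    set O' := (MulAction.orbit K q).toFinset with hO'
    have hqO : q ∈ O' := Set.mem_toFinset.2 (MulAction.mem_orbit_self q)
    have hyO' : y ∉ O' := by
      intro hy'
      obtain ⟨⟨g, hg⟩, hg'⟩ := Set.mem_toFinset.1 hy'
      exact hq (g.injective (hg'.trans (hKy g hg).symm))
    have hfe : (O'.filter fun p => h p = p) = ∅ := by
      ext p
      simp only [Finset.mem_filter, Finset.notMem_empty, iff_false, not_and]
      intro hp' e
      rw [← mem_fixPts, hy, Finset.mem_singleton] at e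
      exact hyO' (e ▸ hp')
    have hm' := modEq_fixed (r := 23) hp O' (orbit_closed hhK q)
    rw [hfe, Finset.card_empty] at hm'
    unfold Nat.ModEq at hm'
    have h23 : O'.card < 24 := by
      refine lt_of_lt_of_le (Finset.card_lt_card (s := O') (t := Finset.univ) ?_) ?_
      · rw [Finset.ssubset_univ_iff]; intro e; exact hyO' (e ▸ Finset.mem_univ _)
      · rw [Finset.card_univ, Fintype.card_option, ZMod.card]
    have hpos : 0 < O'.card := Finset.card_pos.2 ⟨q, hqO⟩
    have hO'c : O'.card = 23 := by omega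
    refine no_card_18480 (L := K ⊓ MulAction.stabilizer (Equiv.Perm GolayPt) q)
      (inf_le_left.trans (inf_le_left.trans hH)) (Ne.symm hq)
      (fun g hg => hKy g hg.1) (fun g hg => hg.2) ?_
    have := card_orbit_mul K q
    rw [← hO', hO'c, hKc] at this
    omega

/-- A subgroup of index 23 in a point fixer fixes a second point. -/
theorem fixes_point_one {H : Subgroup (Equiv.Perm GolayPt)} {a : GolayPt} (hH : H ≤ fixer {a})
    (hc : Nat.card H = 443520) : ∃ y, y ≠ a ∧ ∀ g ∈ H, g y = y := by
  haveI : Fact (Nat.Prime 11) := ⟨by norm_num⟩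
  haveI : Fact (Nat.Prime 7) := ⟨by norm_num⟩
  have hH24 : H ≤ M24 := fun g hg => (hH hg).1
  have ha : ∀ g ∈ H, g a = a := fun g hg => (hH hg).2 a (Finset.mem_singleton_self _)
  obtain ⟨h, hh, ho⟩ := exists_order (H := H) (r := 11) (by rw [hc]; norm_num)
  have hp : h ^ 11 = 1 := ho ▸ pow_orderOf_eq_one h
  have hf := fix_eleven (hH24 hh) ho
  obtain ⟨y, hy, hya⟩ := Finset.exists_mem_ne (s := fixPts h) (by omega) a
  refine ⟨y, hya, ?_⟩
  have hfix : fixPts h = {a, y} := by
    refine (Finset.eq_of_subset_of_card_le ?_ (by rw [hf, Finset.card_pair (Ne.symm hya)])).symm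
    intro p hp'
    simp only [Finset.mem_insert, Finset.mem_singleton] at hp'
    rcases hp' with rfl | rfl
    · exact mem_fixPts.2 (ha h hh)
    · exact hy
  set O := (MulAction.orbit H y).toFinset with hO
  have hyO : y ∈ O := Set.mem_toFinset.2 (MulAction.mem_orbit_self y)
  have haO : a ∉ O := by
    intro ha'
    obtain ⟨⟨g, hg⟩, hg'⟩ := Set.mem_toFinset.1 ha'
    exact hya (g.injective (hg'.trans (ha g hg).symm))
  have hOf : (O.filter fun p => h p = p) = {y} := by
    ext p
    rw [Finset.mem_filter, Finset.mem_singleton, ← mem_fixPts, hfix]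
    simp only [Finset.mem_insert, Finset.mem_singleton]
    constructor
    · rintro ⟨hp', rfl | rfl⟩
      · exact absurd hp' haO
      · rfl
    · rintro rfl; exact ⟨hyO, Or.inr rfl⟩
  have hOm := modEq_fixed (r := 11) hp O (orbit_closed hh y)
  rw [hOf, Finset.card_singleton] at hOm
  unfold Nat.ModEq at hOm
  have hO24 : O.card < 24 := by
    refine lt_of_lt_of_le (Finset.card_lt_card (s := O) (t := Finset.univ) ?_) ?_
    · rw [Finset.ssubset_univ_iff]; intro e; exact haO (e ▸ Finset.mem_univ _)
    · rw [Finset.card_univ, Fintype.card_option, ZMod.card]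
  have hOpos : 0 < O.card := Finset.card_pos.2 ⟨y, hyO⟩
  rcases (show O.card = 1 ∨ O.card = 12 ∨ O.card = 23 by omega) with h1 | h12 | h23
  · intro g hg
    obtain ⟨z, hz⟩ := Finset.card_eq_one.1 h1
    have h2 : g y ∈ O := orbit_closed hg y y hyO
    rw [hz, Finset.mem_singleton] at h2 hyO
    rw [h2, hyO]
  · exfalso
    obtain ⟨k, hk, hko⟩ := exists_order (H := H) (r := 7) (by rw [hc]; norm_num)
    have hk7 : k ^ 7 = 1 := hko ▸ pow_orderOf_eq_one k
    have hk4 := fix_le_four (hH24 hk) (by rw [hko]; norm_num)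
    set S := (insert a O)ᶜ with hS
    have hScard : S.card = 11 := by
      rw [hS, Finset.card_compl, Finset.card_insert_of_notMem haO, Fintype.card_option, ZMod.card, h12]
    have hSinv : ∀ p ∈ S, k p ∈ S := by
      intro p hp'
      rw [hS, Finset.mem_compl, Finset.mem_insert] at hp' ⊢
      rintro (e | e)
      · exact hp' (Or.inl (k.injective (e.trans (ha k hk).symm)))
      · refine hp' (Or.inr ?_)
        have := orbit_closed (H.inv_mem hk) y _ e
        rwa [Equiv.Perm.coe_inv, Equiv.symm_apply_apply] at this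
    have hm := modEq_fixed (r := 7) hk7 S hSinv
    unfold Nat.ModEq at hm
    have hsub : insert a (S.filter fun p => k p = p) ⊆ fixPts k := by
      intro p hp'
      rw [Finset.mem_insert] at hp'
      rcases hp' with rfl | hp'
      · exact mem_fixPts.2 (ha k hk)
      · exact mem_fixPts.2 (Finset.mem_filter.1 hp').2
    have hle := Finset.card_le_card hsub
    rw [Finset.card_insert_of_notMem (fun e => by
      have := (Finset.mem_filter.1 e).1
      rw [hS, Finset.mem_compl] at this
      exact this (Finset.mem_insert_self _ _))] at hle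
    omega
  · exfalso
    have := card_orbit_mul H y
    rw [← hO, h23, hc] at this
    omega

/-- Restriction to an invariant set is faithful when at least nine points are fixed by its kernel. -/
theorem card_le_of_invariant {H : Subgroup (Equiv.Perm GolayPt)} (hH : H ≤ M24) (S : Finset GolayPt)
    (hS : ∀ g ∈ H, ∀ p ∈ S, g p ∈ S) (F : Finset GolayPt) (hF : ∀ g ∈ H, ∀ p ∈ F, g p = p)
    (h9 : 9 ≤ (S ∪ F).card) :
    ∃ f : H →* Equiv.Perm {p // p ∈ S}, Function.Injective f ∧
      ∀ (g : H) (p : {p // p ∈ S}), ((f g p : {p // p ∈ S}) : GolayPt) = (g : Equiv.Perm GolayPt) p := by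
  have hiff : ∀ g : H, ∀ p, (g : Equiv.Perm GolayPt) p ∈ S ↔ p ∈ S := fun g p =>
    ⟨fun h => by
      have := hS _ (H.inv_mem g.2) _ h
      rwa [Equiv.Perm.coe_inv, Equiv.symm_apply_apply] at this, fun h => hS _ g.2 p h⟩
  refine ⟨{ toFun := fun g => (g : Equiv.Perm GolayPt).subtypePerm (hiff g),
            map_one' := by ext p; rfl,
            map_mul' := fun g k => by ext p; rfl }, ?_, fun g p => rfl⟩
  rw [injective_iff_map_eq_one]
  intro g hg
  refine Subtype.ext (eq_one_of_fix (hH g.2) (le_trans h9 (Finset.card_le_card ?_)))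
  intro p hp
  rw [Finset.mem_union] at hp
  refine mem_fixPts.2 ?_
  rcases hp with hp | hp
  · exact congrArg Subtype.val (congrArg (fun u : Equiv.Perm {p // p ∈ S} => u ⟨p, hp⟩) hg)
  · exact hF _ g.2 p hp

/-- A subgroup of index 22 in the fixer of two points fixes a third point. -/
theorem fixes_point_two {H : Subgroup (Equiv.Perm GolayPt)} {a b : GolayPt} (hab : a ≠ b)
    (hH : H ≤ fixer {a, b}) (hc : Nat.card H = 20160) : ∃ y, y ≠ a ∧ y ≠ b ∧ ∀ g ∈ H, g y = y := by
  haveI : Fact (Nat.Prime 7) := ⟨by norm_num⟩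
  haveI : Fact (Nat.Prime 3) := ⟨by norm_num⟩
  have hH24 : H ≤ M24 := fun g hg => (hH hg).1
  have hF : ∀ g ∈ H, ∀ p ∈ ({a, b} : Finset GolayPt), g p = p := fun g hg p hp => (hH hg).2 p hp
  obtain ⟨h, hh, ho⟩ := exists_order (H := H) (r := 7) (by rw [hc]; norm_num)
  have hp7 : h ^ 7 = 1 := ho ▸ pow_orderOf_eq_one h
  have h4 := fix_le_four (hH24 hh) (by rw [ho]; norm_num)
  have hm := modEq_fixPts (r := 7) hp7
  unfold Nat.ModEq at hm
  have hf : (fixPts h).card = 3 := by omega
  have habs : ({a, b} : Finset GolayPt) ⊆ fixPts h := fun p hp => mem_fixPts.2 (hF h hh p hp)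
  obtain ⟨y, hy⟩ : (fixPts h \ {a, b}).Nonempty := by
    rw [← Finset.card_pos, Finset.card_sdiff_of_subset habs, hf, Finset.card_pair hab]; norm_num
  rw [Finset.mem_sdiff, Finset.mem_insert, Finset.mem_singleton, not_or] at hy
  obtain ⟨hy, hya, hyb⟩ := hy
  refine ⟨y, hya, hyb, ?_⟩
  have hfix : fixPts h = insert y {a, b} := by
    refine (Finset.eq_of_subset_of_card_le (Finset.insert_subset hy habs) ?_).symm
    rw [hf, Finset.card_insert_of_notMem (by simp [hya, hyb]), Finset.card_pair hab]
  set O := (MulAction.orbit H y).toFinset with hO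
  have hyO : y ∈ O := Set.mem_toFinset.2 (MulAction.mem_orbit_self y)
  have habO : ∀ p ∈ ({a, b} : Finset GolayPt), p ∉ O := by
    intro p hp hp'
    obtain ⟨⟨g, hg⟩, hg'⟩ := Set.mem_toFinset.1 hp'
    have : y = p := g.injective (hg'.trans (hF g hg p hp).symm)
    simp only [Finset.mem_insert, Finset.mem_singleton] at hp
    rcases hp with rfl | rfl
    · exact hya this
    · exact hyb this
  have hOf : (O.filter fun p => h p = p) = {y} := by
    ext p
    rw [Finset.mem_filter, Finset.mem_singleton, ← mem_fixPts, hfix, Finset.mem_insert]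
    constructor
    · rintro ⟨hp', rfl | hp''⟩
      · rfl
      · exact absurd hp' (habO p hp'')
    · rintro rfl; exact ⟨hyO, Or.inl rfl⟩
  have hOm := modEq_fixed (r := 7) hp7 O (orbit_closed hh y)
  rw [hOf, Finset.card_singleton] at hOm
  unfold Nat.ModEq at hOm
  have hdisj : Disjoint O {a, b} := Finset.disjoint_right.2 habO
  have hO22 : O.card ≤ 22 := by
    have := Finset.card_le_univ (O ∪ {a, b})
    rw [Finset.card_union_of_disjoint hdisj, Fintype.card_option, ZMod.card, Finset.card_pair hab] at this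
    omega
  have hOpos : 0 < O.card := Finset.card_pos.2 ⟨y, hyO⟩
  rcases (show O.card = 1 ∨ O.card = 8 ∨ O.card = 15 ∨ O.card = 22 by omega) with h1 | h8 | h15 | h22
  · intro g hg
    obtain ⟨z, hz⟩ := Finset.card_eq_one.1 h1
    have h2 : g y ∈ O := orbit_closed hg y y hyO
    rw [hz, Finset.mem_singleton] at h2 hyO
    rw [h2, hyO]
  · exfalso
    obtain ⟨f, hf', happ⟩ := card_le_of_invariant hH24 O (fun g hg => orbit_closed hg y) {a, b} hF
      (by rw [Finset.card_union_of_disjoint hdisj, h8, Finset.card_pair hab]; norm_num)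
    have hcard : Nat.card (Equiv.Perm {p // p ∈ O}) = 40320 := by
      rw [Nat.card_perm, Nat.card_eq_fintype_card, Fintype.card_coe, h8]; rfl
    have hr : Nat.card f.range = 20160 :=
      (Nat.card_congr (MonoidHom.ofInjective hf').toEquiv).symm.trans hc
    have hidx : f.range.index = 2 := by
      have := Subgroup.card_mul_index f.range
      rw [hr, hcard] at this
      omega
    have halt : f.range = alternatingGroup {p // p ∈ O} :=
      Equiv.Perm.eq_alternatingGroup_of_index_eq_two hidx
    obtain ⟨u, v, w, hu, hv, hw, huv, huw, hvw⟩ := Finset.two_lt_card_iff.1 (show 2 < O.card by omega)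
    set c : Equiv.Perm {p // p ∈ O} :=
      Equiv.swap ⟨u, hu⟩ ⟨v, hv⟩ * Equiv.swap ⟨u, hu⟩ ⟨w, hw⟩ with hcdef
    have hc3 : c.IsThreeCycle := Equiv.Perm.isThreeCycle_swap_mul_swap_same
      (by simpa using huv) (by simpa using huw) (by simpa using hvw)
    obtain ⟨g, hg⟩ : c ∈ f.range := halt ▸ hc3.mem_alternatingGroup
    have hord : orderOf (g : Equiv.Perm GolayPt) = 3 := by
      rw [Subgroup.orderOf_coe, ← orderOf_injective f hf' g, hg, hc3.orderOf]
    have hsub : (O \ {u, v, w}) ∪ {a, b} ⊆ fixPts (g : Equiv.Perm GolayPt) := by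
      intro p hp
      rw [mem_fixPts]
      rw [Finset.mem_union, Finset.mem_sdiff] at hp
      rcases hp with ⟨hp, hne⟩ | hp
      · rw [← happ g ⟨p, hp⟩, hg, hcdef, Equiv.Perm.mul_apply]
        simp only [Finset.mem_insert, Finset.mem_singleton, not_or] at hne
        have e1 : Equiv.swap (⟨u, hu⟩ : {p // p ∈ O}) ⟨w, hw⟩ ⟨p, hp⟩ = ⟨p, hp⟩ :=
          Equiv.swap_apply_of_ne_of_ne (by simpa using hne.1) (by simpa using hne.2.2)
        rw [e1, Equiv.swap_apply_of_ne_of_ne (by simpa using hne.1) (by simpa using hne.2.1)]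
      · exact hF _ g.2 p hp
    have hcount : 7 ≤ ((O \ {u, v, w}) ∪ {a, b}).card := by
      rw [Finset.card_union_of_disjoint (Disjoint.mono_left Finset.sdiff_subset hdisj),
        Finset.card_pair hab]
      have := Finset.le_card_sdiff {u, v, w} O
      have h3 : ({u, v, w} : Finset GolayPt).card ≤ 3 := Finset.card_le_three
      omega
    have hle := Finset.card_le_card hsub
    have hm3 := modEq_fixPts (g := (g : Equiv.Perm GolayPt)) (r := 3) (hord ▸ pow_orderOf_eq_one _)
    unfold Nat.ModEq at hm3
    have := eq_one_of_fix (hH24 g.2) (by omega)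
    rw [this, orderOf_one] at hord
    omega
  · exfalso
    set S := (O ∪ {a, b})ᶜ with hS
    have hScard : S.card = 7 := by
      rw [hS, Finset.card_compl, Finset.card_union_of_disjoint hdisj, Fintype.card_option, ZMod.card, h15,
        Finset.card_pair hab]
    have hSinv : ∀ g ∈ H, ∀ p ∈ S, g p ∈ S := by
      intro g hg p hp
      rw [hS, Finset.mem_compl, Finset.mem_union] at hp ⊢
      rintro (e | e)
      · refine hp (Or.inl ?_)
        have := orbit_closed (H.inv_mem hg) y _ e
        rwa [Equiv.Perm.coe_inv, Equiv.symm_apply_apply] at this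
      · exact hp (Or.inr (g.injective (hF g hg _ e) ▸ e))
    obtain ⟨f, hf', -⟩ := card_le_of_invariant hH24 S hSinv {a, b} hF (by
      rw [Finset.card_union_of_disjoint ?_, hScard, Finset.card_pair hab]
      rw [hS]; exact Disjoint.mono_right Finset.subset_union_right disjoint_compl_left)
    have := Nat.card_le_card_of_injective f hf'
    rw [hc, Nat.card_perm, Nat.card_eq_fintype_card, Fintype.card_coe, hScard] at this
    norm_num [Nat.factorial] at this
  · exfalso
    have := card_orbit_mul H y
    rw [← hO, h22, hc] at this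
    omega

end Cfsg.Lib.Golay
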