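import Mathlib
import Cfsg.Prelude.Def_Sporadic_a
import Cfsg.Agent.Lib.Golay.SmallIndex
import Cfsg.Agent.Lib.Golay.Normalizer

/-!
Automorphisms of the fixer of at most two points are conjugations by permutations.
-/

set_option autoImplicit false

namespace Cfsg.Lib.Golay

open Cfsg
open scoped Pointwise

theorem exists_fixer_move {A : Finset GolayPt} (hA : A.card ≤ 4) {p q : GolayPt} (hp : p ∉ A) (hq : q ∉ A) :
    ∃ g ∈ fixer A, g p = q := by
  have e := A.equivFin
  have mk : ∀ z, z ∉ A → ∃ σ ∈ M24, (∀ a (ha : a ∈ A), σ a = baseP (e ⟨a, ha⟩ : ℕ)) ∧ σ z = baseP A.card := by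
    intro z hz
    let x : Fin (A.card + 1) ↪ GolayPt :=
      ⟨fun i => if h : (i : ℕ) < A.card then ((e.symm ⟨i, h⟩ : A) : GolayPt) else z, by
        intro i j he
        simp only at he
        apply Fin.ext
        by_cases h1 : (i : ℕ) < A.card
        · by_cases h2 : (j : ℕ) < A.card
          · simp only [dif_pos h1, dif_pos h2] at he
            simpa using congrArg Fin.val (e.symm.injective (Subtype.ext he))
          · simp only [dif_pos h1, dif_neg h2] at he
            exact absurd (he ▸ (e.symm ⟨i, h1⟩).2) hz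
        · by_cases h2 : (j : ℕ) < A.card
          · simp only [dif_neg h1, dif_pos h2] at he
            exact absurd (he.symm ▸ (e.symm ⟨j, h2⟩).2) hz
          · have := i.isLt; have := j.isLt; omega⟩
    obtain ⟨σ, hσ, hs⟩ := exists_tuple_to_base (by omega) x
    refine ⟨σ, hσ, fun a ha => ?_, ?_⟩
    · have h := hs ⟨(e ⟨a, ha⟩ : ℕ), by have := (e ⟨a, ha⟩).isLt; omega⟩
      have hlt : (e ⟨a, ha⟩ : ℕ) < A.card := (e ⟨a, ha⟩).isLt
      change σ (if h : _ then _ else z) = _ at h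
      rw [dif_pos hlt] at h
      simpa using h
    · have h := hs ⟨A.card, by omega⟩
      change σ (if h : _ then _ else z) = _ at h
      rwa [dif_neg (lt_irrefl _)] at h
  obtain ⟨σ, hσ, hσA, hσp⟩ := mk p hp
  obtain ⟨ρ, hρ, hρA, hρq⟩ := mk q hq
  refine ⟨ρ⁻¹ * σ, ⟨Subgroup.mul_mem _ (Subgroup.inv_mem _ hρ) hσ, fun a ha => ?_⟩, ?_⟩
  · rw [Equiv.Perm.mul_apply, Equiv.Perm.inv_eq_iff_eq, hσA a ha, hρA a ha]
  · rw [Equiv.Perm.mul_apply, Equiv.Perm.inv_eq_iff_eq, hσp, hρq]

/-- The stabiliser of a point inside a subgroup of permutations. -/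
def ptStab (K : Subgroup (Equiv.Perm GolayPt)) (y : GolayPt) : Subgroup K :=
  (MulAction.stabilizer (Equiv.Perm GolayPt) y).subgroupOf K

theorem mem_ptStab {K : Subgroup (Equiv.Perm GolayPt)} {y : GolayPt} {g : K} :
    g ∈ ptStab K y ↔ (g : Equiv.Perm GolayPt) y = y := by
  rw [ptStab, Subgroup.mem_subgroupOf, MulAction.mem_stabilizer_iff, Equiv.Perm.smul_def]

/-- The cardinality of a point stabiliser in a fixer. -/
theorem card_ptStab {A : Finset GolayPt} (hA : A.card ≤ 2) {y : GolayPt} (hy : y ∉ A) :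
    Nat.card (ptStab (fixer A) y) = Nat.card (lev (A.card + 1)) := by
  rw [← Finset.card_insert_of_notMem hy, ← card_fixer (A := insert y A)
    (by rw [Finset.card_insert_of_notMem hy]; omega)]
  refine Nat.card_congr
    { toFun := fun g => ⟨((g : fixer A) : Equiv.Perm GolayPt), (g : fixer A).2.1, fun a ha => by
        rw [Finset.mem_insert] at ha
        rcases ha with rfl | ha
        · exact mem_ptStab.1 g.2
        · exact (g : fixer A).2.2 a ha⟩
      invFun := fun g => ⟨⟨(g : Equiv.Perm GolayPt), g.2.1, fun a ha => g.2.2 a (Finset.mem_insert_of_mem ha)⟩,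
        mem_ptStab.2 (g.2.2 y (Finset.mem_insert_self _ _))⟩
      left_inv := fun g => rfl
      right_inv := fun g => rfl }

theorem ptStab_injective {A : Finset GolayPt} (hA : A.card ≤ 2) {y z : GolayPt} (hy : y ∉ A) (hz : z ∉ A)
    (h : ptStab (fixer A) y = ptStab (fixer A) z) : y = z := by
  by_contra hne
  obtain ⟨w, -, hw⟩ := Finset.exists_mem_notMem_of_card_lt_card (s := insert z (insert y A)) (t := Finset.univ) (by
    have h1 := Finset.card_insert_le z (insert y A)
    have h2 := Finset.card_insert_le y A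
    rw [Finset.card_univ, Fintype.card_option, ZMod.card]
    omega)
  simp only [Finset.mem_insert, not_or] at hw
  obtain ⟨g, hg, hgz⟩ := exists_fixer_move (A := insert y A) (p := z) (q := w)
    (by rw [Finset.card_insert_of_notMem hy]; omega)
    (by simp [Finset.mem_insert, hz, Ne.symm hne]) (by simp [Finset.mem_insert, hw.2.1, hw.2.2])
  have hgA : g ∈ fixer A := ⟨hg.1, fun a ha => hg.2 a (Finset.mem_insert_of_mem ha)⟩
  have hmem : (⟨g, hgA⟩ : fixer A) ∈ ptStab (fixer A) y := mem_ptStab.2 (hg.2 y (Finset.mem_insert_self _ _))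
  rw [h, mem_ptStab] at hmem
  exact hw.1 (hgz.symm.trans hmem)

theorem exists_fixed_of_card {A : Finset GolayPt} (hA : A = ∅ ∨ (∃ a, A = {a}) ∨ ∃ a b, a ≠ b ∧ A = {a, b})
    (H : Subgroup (fixer A)) (hH : Nat.card H = Nat.card (lev (A.card + 1))) :
    ∃ y, y ∉ A ∧ H = ptStab (fixer A) y := by
  set H' : Subgroup (Equiv.Perm GolayPt) := H.map (fixer A).subtype with hH'
  have hc : Nat.card H' = Nat.card H :=
    (Nat.card_congr (H.equivMapOfInjective _ (Subgroup.subtype_injective _)).toEquiv).symm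
  have hle : H' ≤ fixer A := Subgroup.map_subtype_le H
  obtain ⟨y, hyA, hy⟩ : ∃ y, y ∉ A ∧ ∀ g ∈ H', g y = y := by
    rcases hA with rfl | ⟨a, rfl⟩ | ⟨a, b, hab, rfl⟩
    · obtain ⟨y, hy⟩ := fixes_point_zero (hle.trans (fixer_le_M24 _)) (by
        rw [hc, hH, Finset.card_empty]; exact card_lev.2.2.2.2.2.2.1)
      exact ⟨y, by simp, hy⟩
    · obtain ⟨y, hya, hy⟩ := fixes_point_one hle (by
        rw [hc, hH, Finset.card_singleton]; exact card_lev.2.2.2.2.2.1)
      exact ⟨y, by simp [hya], hy⟩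
    · obtain ⟨y, hya, hyb, hy⟩ := fixes_point_two hab hle (by
        rw [hc, hH, Finset.card_pair hab]; exact card_lev.2.2.2.2.1)
      exact ⟨y, by simp [hya, hyb], hy⟩
  refine ⟨y, hyA, ?_⟩
  have hA2 : A.card ≤ 2 := by
    rcases hA with rfl | ⟨a, rfl⟩ | ⟨a, b, hab, rfl⟩
    · simp
    · simp
    · rw [Finset.card_pair hab]
  refine Subgroup.eq_of_le_of_card_ge (fun g hg => mem_ptStab.2 (hy _ (Subgroup.mem_map_of_mem _ hg))) ?_
  rw [hH, card_ptStab hA2 hyA]

/-- Every automorphism of the fixer of at most two points is conjugation by a permutation fixing them. -/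
theorem exists_perm_of_autom {A : Finset GolayPt} (hA : A = ∅ ∨ (∃ a, A = {a}) ∨ ∃ a b, a ≠ b ∧ A = {a, b})
    (φ : MulAut (fixer A)) :
    ∃ σ : Equiv.Perm GolayPt, (∀ a ∈ A, σ a = a) ∧
      ∀ g : fixer A, ((φ g : fixer A) : Equiv.Perm GolayPt) = σ * g * σ⁻¹ := by
  have hA2 : A.card ≤ 2 := by
    rcases hA with rfl | ⟨a, rfl⟩ | ⟨a, b, hab, rfl⟩
    · simp
    · simp
    · rw [Finset.card_pair hab]
  have key : ∀ y, ∃ y', (y ∈ A → y' = y) ∧ (y ∉ A → y' ∉ A ∧
      (ptStab (fixer A) y).map φ.toMonoidHom = ptStab (fixer A) y') := by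
    intro y
    by_cases hy : y ∈ A
    · exact ⟨y, fun _ => rfl, fun h => absurd hy h⟩
    · obtain ⟨y', hy', he⟩ := exists_fixed_of_card hA ((ptStab (fixer A) y).map φ.toMonoidHom) (by
        rw [← card_ptStab hA2 hy]
        exact (Nat.card_congr ((ptStab (fixer A) y).equivMapOfInjective φ.toMonoidHom φ.injective).toEquiv).symm)
      exact ⟨y', fun h => absurd h hy, fun _ => ⟨hy', he⟩⟩
  choose f hfA hfn using key
  have hinj : Function.Injective f := by
    intro y z he
    by_cases hy : y ∈ A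
    · by_cases hz : z ∈ A
      · rwa [hfA y hy, hfA z hz] at he
      · exact absurd (he ▸ (hfA y hy).symm ▸ hy) (hfn z hz).1
    · by_cases hz : z ∈ A
      · exact absurd (he.symm ▸ (hfA z hz).symm ▸ hz) (hfn y hy).1
      · refine ptStab_injective hA2 hy hz (Subgroup.map_injective (f := φ.toMonoidHom) φ.injective ?_)
        rw [(hfn y hy).2, (hfn z hz).2, he]
  set σ : Equiv.Perm GolayPt := Equiv.ofBijective f ⟨hinj, Finite.injective_iff_surjective.1 hinj⟩ with hσ
  have happ : ∀ y, σ y = f y := fun y => rfl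
  have hkey : ∀ (g : fixer A) (y : GolayPt),
      ((φ g : fixer A) : Equiv.Perm GolayPt) (f y) = f ((g : Equiv.Perm GolayPt) y) := by
    intro g y
    by_cases hy : y ∈ A
    · rw [g.2.2 y hy, hfA y hy, (φ g).2.2 y hy]
    · have hgy : (g : Equiv.Perm GolayPt) y ∉ A := fun h => hy (by
        have e := (g : Equiv.Perm GolayPt).injective (g.2.2 _ h)
        rwa [e] at h)
      have hn : ((φ g : fixer A) : Equiv.Perm GolayPt) (f y) ∉ A := fun h => (hfn y hy).1 (by
        have e := ((φ g : fixer A) : Equiv.Perm GolayPt).injective ((φ g).2.2 _ h)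
        rwa [e] at h)
      refine ptStab_injective hA2 hn (hfn _ hgy).1 ?_
      rw [← (hfn _ hgy).2]
      ext u
      rw [Subgroup.mem_map_equiv, mem_ptStab, mem_ptStab]
      have h1 : (g⁻¹ * φ.symm u * g : fixer A) ∈ ptStab (fixer A) y ↔
          ((φ.symm u : fixer A) : Equiv.Perm GolayPt) ((g : Equiv.Perm GolayPt) y) = (g : Equiv.Perm GolayPt) y := by
        rw [mem_ptStab, Subgroup.coe_mul, Subgroup.coe_mul, Equiv.Perm.mul_apply, Equiv.Perm.mul_apply,
          Subgroup.coe_inv, Equiv.Perm.inv_eq_iff_eq]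
      have h2 : (g⁻¹ * φ.symm u * g : fixer A) ∈ ptStab (fixer A) y ↔
          (φ g)⁻¹ * u * φ g ∈ ptStab (fixer A) (f y) := by
        rw [← (hfn y hy).2, Subgroup.mem_map_equiv]
        simp
      rw [← h1, h2, mem_ptStab, Subgroup.coe_mul, Subgroup.coe_mul, Equiv.Perm.mul_apply,
        Equiv.Perm.mul_apply, Subgroup.coe_inv, Equiv.Perm.inv_eq_iff_eq]
  refine ⟨σ, fun a ha => hfA a ha, fun g => ?_⟩
  ext1 p
  rw [Equiv.Perm.mul_apply, Equiv.Perm.mul_apply]
  obtain ⟨y, rfl⟩ := σ.surjective p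
  rw [Equiv.Perm.coe_inv, Equiv.symm_apply_apply, happ, happ, hkey]

theorem normalizes_of_autom {A : Finset GolayPt} {σ : Equiv.Perm GolayPt} (φ : MulAut (fixer A))
    (hσ : ∀ g : fixer A, ((φ g : fixer A) : Equiv.Perm GolayPt) = σ * g * σ⁻¹) :
    (∀ g ∈ fixer A, σ * g * σ⁻¹ ∈ fixer A) ∧ (∀ g ∈ fixer A, σ⁻¹ * g * σ ∈ fixer A) := by
  refine ⟨fun g hg => hσ ⟨g, hg⟩ ▸ (φ ⟨g, hg⟩).2, fun g hg => ?_⟩
  have h := hσ (φ.symm ⟨g, hg⟩)
  rw [MulEquiv.apply_symm_apply] at h
  have e : σ⁻¹ * g * σ = ((φ.symm ⟨g, hg⟩ : fixer A) : Equiv.Perm GolayPt) := by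
    change g = _ at h
    calc σ⁻¹ * g * σ = σ⁻¹ * (σ * ((φ.symm ⟨g, hg⟩ : fixer A) : Equiv.Perm GolayPt) * σ⁻¹) * σ :=
          congrArg (fun x => σ⁻¹ * x * σ) h
      _ = _ := by group
  rw [e]
  exact (φ.symm ⟨g, hg⟩).2

end Cfsg.Lib.Golay
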