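import Cfsg.Agent.Lib.Golay.Octads
import Cfsg.Agent.Lib.Golay.Count
import Cfsg.Agent.Lib.Steiner.Counts

/-! Cosets of the Golay code, tetrads and sextets. -/

set_option linter.constructorNameAsVariable false
set_option linter.unusedVariables false

namespace Cfsg.Lib.Golay

open Cfsg Finset

/-- The supports of the code as a finset. -/
def codeFinset : Finset (Finset GolayPt) := (spanL codeGens).toFinset.image toSet

theorem mem_codeFinset {s : Finset GolayPt} :
    s ∈ codeFinset ↔ s ∈ supports (golayCode : Set (GolayPt → ZMod 2)) := by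
  rw [mem_supports_iff, inCode_iff, codeFinset, mem_image]
  constructor
  · rintro ⟨n, hn, rfl⟩
    rw [List.mem_toFinset] at hn
    rwa [setNat_toSet (lt_of_inCode ((inCode_iff n).2 hn))]
  · exact fun h => ⟨setNat s, List.mem_toFinset.2 h, toSet_setNat s⟩

theorem card_codeFinset : codeFinset.card = 4096 := by
  rw [codeFinset, card_image_of_injOn, List.toFinset_card_of_nodup spanL_nodup]
  · rw [← List.length_map (f := codeKey), spanL_keys, List.length_range]
  · intro a ha b hb h
    simp only [List.coe_toFinset, Set.mem_ofPred_eq] at ha hb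
    exact toSet_injOn ((inCode_iff a).2 ha) ((inCode_iff b).2 hb) h

theorem eq_or_eight {s : Finset GolayPt} (h : s ∈ supports (golayCode : Set (GolayPt → ZMod 2)))
    (hle : s.card ≤ 8) : s = ∅ ∨ s ∈ octads := by
  rcases weight_cases h with e | e | e | e | e
  · exact Or.inl (card_eq_zero.1 e)
  · exact Or.inr ⟨h, e⟩
  all_goals omega

/-- Two small sets in one coset are equal or form an octad. -/
theorem eq_or_disjoint {u v : Finset GolayPt}
    (h : symmDiff u v ∈ supports (golayCode : Set (GolayPt → ZMod 2))) (hu : u.card ≤ 4) (hv : v.card ≤ 4) :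
    u = v ∨ (Disjoint u v ∧ u.card = 4 ∧ v.card = 4 ∧ u ∪ v ∈ octads) := by
  have hc := card_symmDiff_add u v
  rcases eq_or_eight h (by omega) with e | e
  · left
    rwa [← Finset.bot_eq_empty, symmDiff_eq_bot] at e
  · right
    have h8 := card_octad e
    have hd : Disjoint u v := by
      rw [disjoint_iff_inter_eq_empty, ← card_eq_zero]; omega
    refine ⟨hd, by omega, by omega, ?_⟩
    rwa [Disjoint.symmDiff_eq_sup hd, Finset.sup_eq_union] at e

theorem union_mem_octads_symmDiff {u v : Finset GolayPt} (hd : Disjoint u v) (h : u ∪ v ∈ octads) :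
    symmDiff u v ∈ supports (golayCode : Set (GolayPt → ZMod 2)) := by
  rw [Disjoint.symmDiff_eq_sup hd, Finset.sup_eq_union]; exact h.1

/-- Coset representatives: sets of at most three points and tetrads through `none`. -/
def reps : Finset (Finset GolayPt) :=
  ((univ : Finset GolayPt).powersetCard 0 ∪ (univ : Finset GolayPt).powersetCard 1 ∪
    (univ : Finset GolayPt).powersetCard 2 ∪ (univ : Finset GolayPt).powersetCard 3) ∪
  ((univ : Finset GolayPt).powersetCard 4).filter fun T => {none} ⊆ T

theorem mem_reps {v : Finset GolayPt} :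
    v ∈ reps ↔ v.card ≤ 3 ∨ (v.card = 4 ∧ none ∈ v) := by
  simp only [reps, mem_union, mem_powersetCard, subset_univ, true_and, mem_filter, singleton_subset_iff]
  rcases Nat.lt_or_ge v.card 5 with h5 | h5
  · interval_cases hc : v.card <;> simp
  · simp only [show ¬ v.card = 0 by omega, show ¬ v.card = 1 by omega, show ¬ v.card = 2 by omega, show ¬ v.card = 3 by omega, show ¬ v.card = 4 by omega, show ¬ v.card ≤ 3 by omega, false_or, false_and]

theorem card_reps : reps.card = 4096 := by
  have hd : ∀ a b : ℕ, a ≠ b → Disjoint ((univ : Finset GolayPt).powersetCard a) ((univ : Finset GolayPt).powersetCard b) :=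
    fun a b h => disjoint_left.2 fun x hx hy => h ((mem_powersetCard.1 hx).2.symm.trans (mem_powersetCard.1 hy).2)
  rw [reps, card_union_of_disjoint, card_union_of_disjoint, card_union_of_disjoint, card_union_of_disjoint,
    card_powersetCard, card_powersetCard, card_powersetCard, card_powersetCard,
    Cfsg.Lib.Steiner.card_supersets univ {none} (subset_univ _) (by simp)]
  · simp only [card_univ, card_singleton, GolayPt, Fintype.card_option, ZMod.card]
    decide
  · exact hd _ _ (by norm_num)
  · rw [disjoint_union_left]; exact ⟨hd _ _ (by norm_num), hd _ _ (by norm_num)⟩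
  · simp only [disjoint_union_left]; exact ⟨⟨hd _ _ (by norm_num), hd _ _ (by norm_num)⟩, hd _ _ (by norm_num)⟩
  · refine disjoint_of_subset_right (filter_subset _ _) ?_
    simp only [disjoint_union_left]
    exact ⟨⟨⟨hd _ _ (by norm_num), hd _ _ (by norm_num)⟩, hd _ _ (by norm_num)⟩, hd _ _ (by norm_num)⟩

theorem exists_rep (w : Finset GolayPt) :
    ∃ v ∈ reps, symmDiff w v ∈ supports (golayCode : Set (GolayPt → ZMod 2)) := by
  let f : Finset GolayPt × Finset GolayPt → Finset GolayPt := fun p => symmDiff p.1 p.2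
  have hinj : Set.InjOn f (reps ×ˢ codeFinset : Finset _) := by
    rintro ⟨u, c⟩ hu ⟨v, d⟩ hv h
    simp only [coe_product, Set.mem_prod, mem_coe, mem_codeFinset] at hu hv
    change symmDiff u c = symmDiff v d at h
    have huv : symmDiff u v = symmDiff c d := by
      have e := congrArg (fun x => symmDiff x (symmDiff v c)) h
      rwa [symmDiff_symmDiff_symmDiff_comm, symmDiff_self, symmDiff_bot, symmDiff_symmDiff_symmDiff_comm,
        symmDiff_self, bot_symmDiff, symmDiff_comm d c] at e
    have hmem : symmDiff u v ∈ supports (golayCode : Set (GolayPt → ZMod 2)) :=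
      huv ▸ symmDiff_mem_supports hu.2 hv.2
    have hu1 := mem_reps.1 hu.1
    have hv1 := mem_reps.1 hv.1
    rcases eq_or_disjoint hmem (by omega) (by omega) with e | ⟨hdis, h4u, h4v, -⟩
    · subst e
      rw [symmDiff_self, eq_comm, symmDiff_eq_bot] at huv
      exact Prod.ext rfl huv
    · exact absurd (hv1.resolve_left (by omega)).2 (disjoint_left.1 hdis (hu1.resolve_left (by omega)).2)
  have himg : (reps ×ˢ codeFinset).image f = univ := by
    refine eq_univ_of_card _ ?_
    rw [card_image_of_injOn hinj, card_product, card_reps, card_codeFinset, Fintype.card_finset]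
    simp only [GolayPt, Fintype.card_option, ZMod.card]
    norm_num
  obtain ⟨⟨v, c⟩, hvc, e⟩ := mem_image.1 (himg ▸ mem_univ w)
  rw [mem_product, mem_codeFinset] at hvc
  refine ⟨v, hvc.1, ?_⟩
  change symmDiff v c = w at e
  rw [← e, symmDiff_comm, symmDiff_symmDiff_cancel_left]
  exact hvc.2

/-- The six tetrads of the coset of a tetrad. -/
def sextetOf (t : Finset GolayPt) : Finset (Finset GolayPt) :=
  insert t ((octadFinset.filter fun o => t ⊆ o).image fun o => o \ t)

theorem mem_sextetOf {t u : Finset GolayPt} (ht : t.card = 4) :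
    u ∈ sextetOf t ↔ u = t ∨ (Disjoint t u ∧ t ∪ u ∈ octads) := by
  simp only [sextetOf, mem_insert, mem_image, mem_filter, mem_octadFinset]
  refine or_congr_right ⟨?_, fun h => ⟨t ∪ u, ⟨h.2, subset_union_left⟩, ?_⟩⟩
  · rintro ⟨o, ⟨ho, hto⟩, rfl⟩
    exact ⟨disjoint_sdiff, by rwa [union_sdiff_of_subset hto]⟩
  · rw [union_sdiff_left, sdiff_eq_self_of_disjoint h.1.symm]

theorem card_of_mem_sextetOf {t u : Finset GolayPt} (ht : t.card = 4) (h : u ∈ sextetOf t) : u.card = 4 := by
  rcases (mem_sextetOf ht).1 h with rfl | ⟨hd, ho⟩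
  · exact ht
  · have := card_octad ho
    rw [card_union_of_disjoint hd] at this
    omega

theorem card_sextetOf {t : Finset GolayPt} (ht : t.card = 4) : (sextetOf t).card = 6 := by
  have h := Cfsg.Lib.Steiner.through_mul steiner t (by omega)
  have e : (Cfsg.Lib.Steiner.blocks octads).filter (fun b => t ⊆ b) = octadFinset.filter fun o => t ⊆ o := by
    ext o; simp [mem_octadFinset]
  rw [e, ht] at h
  simp only [GolayPt, Fintype.card_option, ZMod.card] at h
  norm_num [Nat.choose] at h
  rw [sextetOf, card_insert_of_notMem, card_image_of_injOn]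
  · have : (octadFinset.filter fun o => t ⊆ o).card * 4 = 20 := by convert h using 3
    omega
  · intro a ha b hb hab
    simp only [coe_filter, Set.mem_ofPred_eq] at ha hb
    simp only at hab
    rw [← sdiff_union_of_subset ha.2, hab, sdiff_union_of_subset hb.2]
  · simp only [mem_image, not_exists, not_and, mem_filter]
    rintro o ⟨-, hto⟩ e
    have h1 : t ⊆ o \ t := e.symm ▸ Subset.refl t
    obtain ⟨x, hx⟩ := card_pos.1 (by omega : 0 < t.card)
    exact (mem_sdiff.1 (h1 hx)).2 hx

theorem pair_sextetOf {t u v : Finset GolayPt} (ht : t.card = 4) (hu : u ∈ sextetOf t)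
    (hv : v ∈ sextetOf t) (hne : u ≠ v) : Disjoint u v ∧ u ∪ v ∈ octads := by
  have key : ∀ w ∈ sextetOf t, symmDiff w t ∈ supports (golayCode : Set (GolayPt → ZMod 2)) := by
    intro w hw
    rcases (mem_sextetOf ht).1 hw with rfl | ⟨hd, ho⟩
    · rw [symmDiff_self, Finset.bot_eq_empty, mem_supports_iff]
      have : setNat (∅ : Finset GolayPt) = 0 := by
        have e : toSet 0 = ∅ := by ext p; simp [mem_toSet]
        rw [← e, setNat_toSet (by norm_num)]
      rw [this]; exact inCode_zero
    · rw [symmDiff_comm]; exact union_mem_octads_symmDiff hd ho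
  have h := symmDiff_mem_supports (key u hu) (key v hv)
  rw [symmDiff_symmDiff_symmDiff_comm, symmDiff_self, symmDiff_bot] at h
  rcases eq_or_disjoint h (card_of_mem_sextetOf ht hu).le (card_of_mem_sextetOf ht hv).le with e | e
  · exact absurd e hne
  · exact ⟨e.1, e.2.2.2⟩

end Cfsg.Lib.Golay

namespace Cfsg.Lib.Golay

open Cfsg Finset

theorem support_injective {α : Type*} [Fintype α] : Function.Injective (support₂ (α := α)) := by
  intro u v h
  funext p
  have hp : (u p ≠ 0) ↔ (v p ≠ 0) := by
    have := congrArg (fun s : Finset α => p ∈ s) h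
    simpa [support₂] using this
  generalize u p = a at hp ⊢
  generalize v p = b at hp ⊢
  revert a b; decide

theorem support_surjective : Function.Surjective (support₂ (α := GolayPt)) := fun s =>
  ⟨toWord (setNat s), by rw [support_toWord, toSet_setNat]⟩

theorem sub_mem_iff (w v : GolayPt → ZMod 2) :
    w - v ∈ golayCode ↔ symmDiff (support₂ w) (support₂ v) ∈ supports (golayCode : Set (GolayPt → ZMod 2)) := by
  have : support₂ (w - v) = symmDiff (support₂ w) (support₂ v) := by
    ext p
    simp only [support₂, mem_filter, mem_univ, true_and, mem_symmDiff, Pi.sub_apply]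
    generalize w p = a
    generalize v p = b
    revert a b; decide
  rw [← this]
  exact ⟨fun h => ⟨_, h, rfl⟩, fun ⟨x, hx, e⟩ => support_injective e ▸ hx⟩

/-- The small sets in the coset of `w`. -/
theorem coset_small (w : Finset GolayPt) :
    (∃ v, v.card ≤ 3 ∧ symmDiff w v ∈ supports (golayCode : Set (GolayPt → ZMod 2)) ∧
      ∀ u, u.card ≤ 4 → symmDiff w u ∈ supports (golayCode : Set (GolayPt → ZMod 2)) → u = v) ∨
    (∃ t, t.card = 4 ∧ ∀ u : Finset GolayPt,
      (u.card ≤ 4 ∧ symmDiff w u ∈ supports (golayCode : Set (GolayPt → ZMod 2))) ↔ u ∈ sextetOf t) := by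
  obtain ⟨v, hv, hwv⟩ := exists_rep w
  have hrel : ∀ u, symmDiff w u ∈ supports (golayCode : Set (GolayPt → ZMod 2)) ↔
      symmDiff v u ∈ supports (golayCode : Set (GolayPt → ZMod 2)) := by
    intro u
    constructor
    · intro h
      have := symmDiff_mem_supports hwv h
      rwa [symmDiff_symmDiff_symmDiff_comm, symmDiff_self, bot_symmDiff] at this
    · intro h
      have := symmDiff_mem_supports hwv h
      rwa [symmDiff_assoc, symmDiff_symmDiff_cancel_left] at this
  rcases mem_reps.1 hv with h3 | ⟨h4, -⟩
  · refine Or.inl ⟨v, h3, hwv, fun u hu hwu => ?_⟩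
    rcases eq_or_disjoint ((hrel u).1 hwu) (by omega) hu with e | ⟨-, e, -, -⟩
    · exact e.symm
    · omega
  · refine Or.inr ⟨v, h4, fun u => ⟨fun h => ?_, fun h => ⟨(card_of_mem_sextetOf h4 h).le, ?_⟩⟩⟩
    · rw [mem_sextetOf h4]
      rcases eq_or_disjoint ((hrel u).1 h.2) (by omega) h.1 with e | ⟨hd, -, -, ho⟩
      · exact Or.inl e.symm
      · exact Or.inr ⟨hd, ho⟩
    · rw [hrel]
      rcases (mem_sextetOf h4).1 h with rfl | ⟨hd, ho⟩
      · have := symmDiff_mem_supports hwv hwv
        rw [symmDiff_self] at this ⊢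
        exact this
      · exact union_mem_octads_symmDiff hd ho

end Cfsg.Lib.Golay
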