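import Mathlib
import Cfsg.Agent.Lib.Golay.Module
import Cfsg.Agent.Lib.Golay.Cosets

/-! The subspaces of the coordinate space invariant under the automorphisms of the Golay code. -/

set_option autoImplicit false

namespace Cfsg.Lib.Golay

open Cfsg
open scoped Pointwise

local notation "V" => (GolayPt → ZMod 2)

theorem M24_map_of_injOn {A : Finset GolayPt} (hA : A.card ≤ 5) (f : GolayPt → GolayPt)
    (hf : Set.InjOn f A) : ∃ σ ∈ M24, ∀ a ∈ A, σ a = f a := by
  obtain ⟨s, hs, e⟩ := exists_tuple_to_base hA
    ⟨fun i => ((A.equivFin.symm i : A) : GolayPt), fun a b h => A.equivFin.symm.injective (Subtype.ext h)⟩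
  obtain ⟨t, ht, e'⟩ := exists_tuple_to_base hA
    ⟨fun i => f ((A.equivFin.symm i : A) : GolayPt), fun a b h =>
      A.equivFin.symm.injective (Subtype.ext (hf (A.equivFin.symm a).2 (A.equivFin.symm b).2 h))⟩
  refine ⟨t⁻¹ * s, M24.mul_mem (M24.inv_mem ht) hs, fun a ha => ?_⟩
  have h1 := e (A.equivFin ⟨a, ha⟩)
  have h2 := e' (A.equivFin ⟨a, ha⟩)
  change s ((A.equivFin.symm (A.equivFin ⟨a, ha⟩) : A) : GolayPt) = _ at h1
  change t (f ((A.equivFin.symm (A.equivFin ⟨a, ha⟩) : A) : GolayPt)) = _ at h2
  rw [Equiv.symm_apply_apply] at h1 h2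
  rw [Equiv.Perm.mul_apply, h1, Equiv.Perm.inv_eq_iff_eq]
  exact h2.symm

theorem eq_one_of_ne_zero : ∀ c : ZMod 2, c ≠ 0 → c = 1 := by decide

theorem act_mem_code {σ : Equiv.Perm GolayPt} (hσ : σ ∈ M24) {c : V} (hc : c ∈ golayCode) :
    (fun p => c (σ.symm p)) ∈ golayCode := by
  have h : σ • supports (golayCode : Set V) = supports (golayCode : Set V) := hσ
  have hm : σ • support₂ c ∈ supports (golayCode : Set V) := h ▸ Set.smul_mem_smul_set ⟨c, hc, rfl⟩
  obtain ⟨x, hx, e⟩ := hm
  rw [← support_comp] at e
  exact support_injective e ▸ hx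

theorem code_sub_cases (U : Submodule (ZMod 2) V) (hle : U ≤ golayCode)
    (hinv : ∀ σ ∈ M24, ∀ w ∈ U, (fun p => w (σ.symm p)) ∈ U) :
    U = ⊥ ∨ U = Submodule.span (ZMod 2) {fun _ => (1 : ZMod 2)} ∨ U = golayCode := by
  have hone : (fun _ => (1 : ZMod 2) : V) ∈ golayCode := by
    have := toWord_mem_golayCode (n := 16777215) (by decide +kernel)
    rwa [← one_eq] at this
  by_cases h1 : (fun _ => (1 : ZMod 2) : V) ∈ U
  · exact Or.inr (code_irreducible U h1 hle hinv)
  left
  set S := Submodule.span (ZMod 2) {fun _ : GolayPt => (1 : ZMod 2)} with hS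
  have hS1 : S ≤ golayCode := Submodule.span_le.2 (by simpa using hone)
  have hSinv : ∀ σ ∈ M24, ∀ w ∈ S, (fun p => w (σ.symm p)) ∈ S := by
    intro σ _ w hw
    obtain ⟨c, rfl⟩ := Submodule.mem_span_singleton.1 hw
    exact Submodule.smul_mem _ c (Submodule.subset_span rfl)
  have hsum : ∀ σ ∈ M24, ∀ w ∈ U ⊔ S, (fun p => w (σ.symm p)) ∈ U ⊔ S := by
    intro σ hσ w hw
    obtain ⟨u, hu, s, hs, rfl⟩ := Submodule.mem_sup.1 hw
    exact Submodule.mem_sup.2 ⟨_, hinv σ hσ u hu, _, hSinv σ hσ s hs, rfl⟩
  rcases code_irreducible (U ⊔ S) (Submodule.mem_sup_right (Submodule.subset_span rfl))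
    (sup_le hle hS1) hsum with h | h
  · refine (Submodule.eq_bot_iff _).2 fun u hu => ?_
    have hu' : u ∈ S := by have hm := Submodule.mem_sup_left (T := S) hu; rwa [h] at hm
    obtain ⟨c, rfl⟩ := Submodule.mem_span_singleton.1 hu'
    by_cases hc : c = 0
    · simp [hc]
    · have : c = 1 := eq_one_of_ne_zero c hc
      subst this
      rw [one_smul] at hu
      exact absurd hu h1
  · exfalso
    obtain ⟨a1, a2, -, -, -, -, -⟩ := oct_pair_check
    have hd : toWord 28637 ∈ U ⊔ S := h ▸ toWord_mem_golayCode a1
    obtain ⟨u, hu, s, hs, e⟩ := Submodule.mem_sup.1 hd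
    have hne : ∀ b : ZMod 2, b + 1 ≠ 0 ↔ b = 0 := by decide
    have hd12 : (support₂ (toWord 28637)).card = 12 := by rw [support_toWord, card_toSet, a2]
    have hu12 : (support₂ u).card = 12 := by
      obtain ⟨c, rfl⟩ := Submodule.mem_span_singleton.1 hs
      by_cases hc : c = 0
      · subst hc
        rw [zero_smul, add_zero] at e
        rw [e]; exact hd12
      · have hc1 : c = 1 := eq_one_of_ne_zero c hc
        subst hc1
        have e' : u = toWord 28637 + fun _ => 1 := by
          rw [← e, one_smul, add_assoc]
          have : ((fun _ => 1 : V) + fun _ => 1) = 0 := by funext p; simp; decide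
          rw [this, add_zero]
        have e2 : support₂ u = (support₂ (toWord 28637))ᶜ := by
          rw [e']; ext p; simp [support₂, hne]
        rw [e2, Finset.card_compl, hd12]
        decide
    have hcomp : support₂ (u + fun _ => 1) = (support₂ u)ᶜ := by
      ext p; simp [support₂, hne]
    obtain ⟨σ, hσ, eσ⟩ := dodecad_transitive (d := support₂ u) ⟨⟨u, hle hu, rfl⟩, hu12⟩
      (d' := (support₂ u)ᶜ) ⟨⟨_, add_mem (hle hu) hone, hcomp⟩, by rw [Finset.card_compl, hu12]; decide⟩
    have hm : u + (fun _ => 1) ∈ U := by
      have := hinv σ hσ u hu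
      rwa [support_injective (show support₂ (fun p => u (σ.symm p)) = support₂ (u + fun _ => 1) by
        rw [support_comp, eσ, hcomp])] at this
    have := U.add_mem hu hm
    rw [← add_assoc] at this
    have e0 : u + u = 0 := by funext p; exact CharTwo.add_self_eq_zero _
    rw [e0, zero_add] at this
    exact h1 this

/-- The word of a single point. -/
def unitWord (a : GolayPt) : V := Pi.single a 1

theorem support_unit_add {a b : GolayPt} (h : a ≠ b) : support₂ (unitWord a + unitWord b) = {a, b} := by
  ext p
  simp only [support₂, Finset.mem_filter, Finset.mem_univ, true_and, Finset.mem_insert,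
    Finset.mem_singleton, Pi.add_apply, unitWord, Pi.single_apply]
  by_cases h1 : p = a <;> by_cases h2 : p = b <;> simp_all

theorem act_unit (σ : Equiv.Perm GolayPt) (a : GolayPt) :
    (fun p => unitWord a (σ.symm p)) = unitWord (σ a) := by
  funext p
  simp [unitWord, Pi.single_apply, Equiv.symm_apply_eq]

theorem all_pairs (W : Submodule (ZMod 2) V) (hinv : ∀ σ ∈ M24, ∀ w ∈ W, (fun p => w (σ.symm p)) ∈ W)
    (hnot : ¬ W ≤ golayCode) : ∀ a b, unitWord a + unitWord b ∈ W := by
  classical
  have h2 : ∀ v : V, v + v = 0 := fun v => by funext p; exact CharTwo.add_self_eq_zero _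
  -- some pair lies in W modulo the code
  obtain ⟨w, hw, hwC⟩ := Set.not_subset.1 hnot
  obtain ⟨u, hu, hwu⟩ := exists_rep (support₂ w)
  have hu4 : u.card ≤ 4 := by rcases mem_reps.1 hu with h | ⟨h, -⟩ <;> omega
  obtain ⟨x, rfl⟩ := support_surjective u
  have hc0 : w - x ∈ golayCode := (sub_mem_iff w x).2 hwu
  obtain ⟨a, ha⟩ : (support₂ x).Nonempty := by
    rw [Finset.nonempty_iff_ne_empty]
    intro h0
    have : x = 0 := support_injective (by rw [h0]; simp [support₂])
    rw [this, sub_zero] at hc0
    exact hwC hc0
  obtain ⟨b, hb⟩ : ∃ b, b ∉ support₂ x := by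
    by_contra h
    push Not at h
    rw [Finset.eq_univ_of_forall h] at hu4
    simp [GolayPt] at hu4
  obtain ⟨σ, hσ, hσu⟩ := M24_map_of_injOn (A := support₂ x) (by omega) (Equiv.swap a b)
    (Equiv.injective _).injOn
  have hab : a ≠ b := fun h => hb (h ▸ ha)
  have hx : x + (fun p => x (σ.symm p)) = unitWord a + unitWord b := by
    refine support_injective ?_
    rw [support_unit_add hab]
    have e : σ • support₂ x = insert b ((support₂ x).erase a) := by
      ext q
      rw [Finset.mem_smul_finset]
      simp only [Equiv.Perm.smul_def, Finset.mem_insert, Finset.mem_erase]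
      constructor
      · rintro ⟨p, hp, rfl⟩
        rw [hσu p hp]
        by_cases hpa : p = a
        · subst hpa; simp
        · rw [Equiv.swap_apply_of_ne_of_ne hpa (fun e => hb (by rw [← e]; exact hp))]
          exact Or.inr ⟨hpa, hp⟩
      · rintro (rfl | ⟨hq, hq'⟩)
        · exact ⟨a, ha, by rw [hσu a ha, Equiv.swap_apply_left]⟩
        · exact ⟨q, hq', by rw [hσu q hq', Equiv.swap_apply_of_ne_of_ne hq (fun e => hb (by rw [← e]; exact hq'))]⟩
    have es : support₂ (x + fun p => x (σ.symm p)) = symmDiff (support₂ x) (support₂ fun p => x (σ.symm p)) := by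
      ext p
      simp only [support₂, Finset.mem_filter, Finset.mem_univ, true_and, Finset.mem_symmDiff, Pi.add_apply]
      generalize x p = s
      generalize x (σ.symm p) = t
      revert s t; decide
    rw [es, support_comp, e]
    ext p
    simp only [Finset.mem_symmDiff, Finset.mem_insert, Finset.mem_erase, Finset.mem_singleton]
    by_cases h1 : p = a
    · subst h1; simp [ha, hab]
    · by_cases h3 : p = b
      · subst h3; simp [hb]
      · simp [h1, h3]
  -- every pair lies in W modulo the code
  have hmod : ∀ a' b', a' ≠ b' → ∃ c ∈ golayCode, unitWord a' + unitWord b' + c ∈ W := by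
    intro a' b' hab'
    have hbase : ∃ c ∈ golayCode, unitWord a + unitWord b + c ∈ W := by
      refine ⟨(w - x) + fun p => (w - x) (σ.symm p), add_mem hc0 (act_mem_code hσ hc0), ?_⟩
      have := W.add_mem hw (hinv σ hσ w hw)
      convert this using 1
      rw [← hx]
      funext p
      simp only [Pi.add_apply, Pi.sub_apply]
      ring
    obtain ⟨c, hc, hcw⟩ := hbase
    obtain ⟨τ, hτ, hτa⟩ := M24_map_of_injOn (A := {a, b}) (by simp [hab])
      (fun p => if p = a then a' else b') (by
        intro p hp q hq
        simp only [Finset.coe_insert, Finset.coe_singleton, Set.mem_insert_iff, Set.mem_singleton_iff] at hp hq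
        rcases hp with rfl | rfl <;> rcases hq with rfl | rfl <;> simp [hab, hab.symm, hab', hab'.symm])
    refine ⟨_, act_mem_code hτ hc, ?_⟩
    have h := hinv τ hτ _ hcw
    have e : (fun p => (unitWord a + unitWord b + c) (τ.symm p)) =
        unitWord a' + unitWord b' + fun p => c (τ.symm p) := by
      have ea : τ a = a' := by rw [hτa a (by simp)]; simp
      have eb : τ b = b' := by rw [hτa b (by simp)]; simp [hab.symm]
      rw [← ea, ← eb, ← act_unit, ← act_unit]
      rfl
    rwa [e] at h
  suffices key : ∀ a' b', a' ≠ b' → unitWord a' + unitWord b' ∈ W by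
    intro a' b'
    by_cases h : a' = b'
    · subst h; rw [h2]; exact W.zero_mem
    · exact key a' b' h
  rcases code_sub_cases (W ⊓ golayCode) inf_le_right
    (fun σ hσ v hv => ⟨hinv σ hσ v hv.1, act_mem_code hσ hv.2⟩) with hU | hU | hU
  on_goal 3 =>
    intro a' b' hab'
    obtain ⟨c, hc, hcw⟩ := hmod a' b' hab'
    have hcW : c ∈ W := ((hU ▸ inf_le_left : golayCode ≤ W)) hc
    have := W.add_mem hcw hcW
    rwa [add_assoc, h2, add_zero] at this
  all_goals
    have hsmall : ∀ v ∈ W, v ∈ golayCode → v = 0 ∨ v = fun _ => 1 := by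
      intro v hv hv'
      have : v ∈ W ⊓ golayCode := ⟨hv, hv'⟩
      rw [hU] at this
      first
      | (left; simpa using this)
      | (obtain ⟨k, rfl⟩ := Submodule.mem_span_singleton.1 this
         by_cases hk : k = 0
         · left; simp [hk]
         · right
           have : k = 1 := eq_one_of_ne_zero k hk
           simp [this])
    have hor : ∀ a' b', a' ≠ b' → unitWord a' + unitWord b' ∈ W ∨
        unitWord a' + unitWord b' + (fun _ => 1) ∈ W := by
      intro a' b' hab'
      obtain ⟨c, hc, hcw⟩ := hmod a' b' hab'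
      have hfix : ∀ q, q ≠ a' → q ≠ b' → ∀ q', q' ≠ a' → q' ≠ b' → c q = c q' := by
        intro q hqa hqb q' hqa' hqb'
        obtain ⟨τ, hτ, hτa⟩ := M24_map_of_injOn (A := {a', b', q})
          (le_trans Finset.card_le_three (by norm_num))
          (fun p => if p = q then q' else p) (by
            intro p hp r hr
            simp only [Finset.coe_insert, Finset.coe_singleton, Set.mem_insert_iff, Set.mem_singleton_iff] at hp hr
            rcases hp with rfl | rfl | rfl <;> rcases hr with rfl | rfl | rfl <;>
              simp [hqa, hqb, hqa', hqb', hqa.symm, hqb.symm, hqa'.symm, hqb'.symm, hab', hab'.symm])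
        have ea : τ a' = a' := by rw [hτa a' (by simp)]; simp [hqa.symm]
        have eb : τ b' = b' := by rw [hτa b' (by simp)]; simp [hqb.symm]
        have eq' : τ q = q' := by rw [hτa q (by simp)]; simp
        have h := hinv τ hτ _ hcw
        have e : (fun p => (unitWord a' + unitWord b' + c) (τ.symm p)) =
            unitWord a' + unitWord b' + fun p => c (τ.symm p) := by
          conv_rhs => rw [← ea, ← eb, ← act_unit, ← act_unit]
          rfl
        rw [e] at h
        have hd : c + (fun p => c (τ.symm p)) ∈ W := by
          have h' := W.add_mem hcw h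
          convert h' using 1
          funext p
          simp only [Pi.add_apply]
          linear_combination (-1 : ZMod 2) * CharTwo.add_self_eq_zero (unitWord a' p) +
            (-1 : ZMod 2) * CharTwo.add_self_eq_zero (unitWord b' p)
        rcases hsmall _ hd (add_mem hc (act_mem_code hτ hc)) with e0 | e1
        · have := congrFun e0 q'
          simp only [Pi.add_apply, Pi.zero_apply, ← eq', Equiv.symm_apply_apply] at this
          rw [← eq']
          generalize c q = s at this ⊢
          generalize c (τ q) = t at this ⊢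
          revert s t; decide
        · have := congrFun e1 a'
          have ea' : τ.symm a' = a' := by rw [Equiv.symm_apply_eq, ea]
          simp only [Pi.add_apply, ea', CharTwo.add_self_eq_zero] at this
          exact absurd this (by decide)
      obtain ⟨q, hq⟩ := Finset.exists_mem_notMem_of_card_lt_card (s := ({a', b'} : Finset GolayPt))
        (t := Finset.univ) (lt_of_le_of_lt Finset.card_le_two (by simp [GolayPt]))
      simp only [Finset.mem_insert, Finset.mem_singleton, not_or] at hq
      have hk : ∀ d ∈ golayCode, (∀ p, p ≠ a' → p ≠ b' → d p = 0) → d = 0 := by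
        intro d hd hd0
        have hs : support₂ d ⊆ {a', b'} := by
          intro p hp
          simp only [support₂, Finset.mem_filter, Finset.mem_univ, true_and] at hp
          simp only [Finset.mem_insert, Finset.mem_singleton]
          by_contra hne
          push Not at hne
          exact hp (hd0 p hne.1 hne.2)
        have hle : (support₂ d).card ≤ 2 := (Finset.card_le_card hs).trans Finset.card_le_two
        rcases weight_cases (s := support₂ d) ⟨d, hd, rfl⟩ with h | h | h | h | h
        · refine support_injective ?_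
          rw [Finset.card_eq_zero.1 h]
          simp [support₂]
        all_goals omega
      by_cases hv : c q = 0
      · left
        have hc0' : c = 0 := hk c hc fun p h1 h3 => (hfix p h1 h3 q hq.2.1 hq.2.2).trans hv
        rwa [hc0', add_zero] at hcw
      · right
        have hc1 : c + (fun _ => 1) = 0 := by
          refine hk _ (add_mem hc ?_) fun p h1 h3 => ?_
          · have := toWord_mem_golayCode (n := 16777215) (by decide +kernel)
            rwa [← one_eq] at this
          · rw [Pi.add_apply, hfix p h1 h3 q hq.2.1 hq.2.2]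
            revert hv
            generalize c q = s
            revert s; decide
        have hc1' : c = fun _ => 1 := by
          have := congrArg (fun v : V => v + fun _ => 1) hc1
          simp only [zero_add] at this
          rwa [add_assoc, h2, add_zero] at this
        rwa [hc1'] at hcw
    intro a' b' hab'
    rcases hor a' b' hab' with h | h
    · exact h
    obtain ⟨q, hq⟩ := Finset.exists_mem_notMem_of_card_lt_card (s := ({a', b'} : Finset GolayPt))
      (t := Finset.univ) (lt_of_le_of_lt Finset.card_le_two (by simp [GolayPt]))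
    simp only [Finset.mem_insert, Finset.mem_singleton, not_or] at hq
    by_contra hne
    obtain ⟨τ, hτ, hτa⟩ := M24_map_of_injOn (A := {a', b'}) (le_trans Finset.card_le_two (by norm_num))
      (fun p => if p = a' then b' else q) (by
        intro p hp r hr
        simp only [Finset.coe_insert, Finset.coe_singleton, Set.mem_insert_iff, Set.mem_singleton_iff] at hp hr
        rcases hp with rfl | rfl <;> rcases hr with rfl | rfl <;> simp [hab', hab'.symm, hq.2.2, Ne.symm hq.2.2])
    obtain ⟨τ', hτ', hτa'⟩ := M24_map_of_injOn (A := {a', b'}) (le_trans Finset.card_le_two (by norm_num))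
      (fun p => if p = a' then a' else q) (by
        intro p hp r hr
        simp only [Finset.coe_insert, Finset.coe_singleton, Set.mem_insert_iff, Set.mem_singleton_iff] at hp hr
        rcases hp with rfl | rfl <;> rcases hr with rfl | rfl <;> simp [hab', hab'.symm, hq.2.1, Ne.symm hq.2.1])
    have h1 := hinv τ hτ _ h
    have h3 := hinv τ' hτ' _ h
    have e1 : τ a' = b' ∧ τ b' = q := ⟨by rw [hτa a' (by simp)]; simp, by rw [hτa b' (by simp)]; simp [hab'.symm]⟩
    have e3 : τ' a' = a' ∧ τ' b' = q := ⟨by rw [hτa' a' (by simp)]; simp, by rw [hτa' b' (by simp)]; simp [hab'.symm]⟩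
    have hpt : ∀ (τ : Equiv.Perm GolayPt), (fun p => ((unitWord a' + unitWord b' + fun _ => (1 : ZMod 2)) : V) (τ.symm p)) =
        unitWord (τ a') + unitWord (τ b') + fun _ => 1 := fun τ => by
      rw [← act_unit, ← act_unit]; rfl
    rw [hpt, e1.1, e1.2] at h1
    rw [hpt, e3.1, e3.2] at h3
    apply hne
    have := W.add_mem h1 h3
    convert this using 1
    funext p
    simp only [Pi.add_apply]
    linear_combination (-1 : ZMod 2) * CharTwo.add_self_eq_zero (unitWord q p) +
      (-1 : ZMod 2) * CharTwo.add_self_eq_zero (1 : ZMod 2)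

theorem invariant_subspaces (W : Submodule (ZMod 2) V)
    (hinv : ∀ σ ∈ M24, ∀ w ∈ W, (fun p => w (σ.symm p)) ∈ W) :
    W = ⊥ ∨ W = Submodule.span (ZMod 2) {fun _ => (1 : ZMod 2)} ∨ W = golayCode ∨
      (W : Set V) = {w | ∑ p, w p = 0} ∨ W = ⊤ := by
  classical
  by_cases hle : W ≤ golayCode
  · rcases code_sub_cases W hle hinv with h | h | h
    · exact Or.inl h
    · exact Or.inr (Or.inl h)
    · exact Or.inr (Or.inr (Or.inl h))
  refine Or.inr (Or.inr (Or.inr ?_))
  have hp := all_pairs W hinv hle
  have hdec : ∀ v : V, v + (∑ p, v p) • unitWord none ∈ W := by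
    intro v
    have hv : ∑ p, v p • unitWord p = v := by
      funext q
      simp [unitWord, Pi.single_apply, Finset.sum_apply]
    have e : ∑ p, v p • (unitWord p + unitWord none) = v + (∑ p, v p) • unitWord none := by
      simp only [smul_add, Finset.sum_add_distrib, ← Finset.sum_smul, hv]
    rw [← e]
    exact W.sum_mem fun p _ => W.smul_mem _ (hp p none)
  by_cases hn : unitWord none ∈ W
  · right
    refine eq_top_iff.2 fun v _ => ?_
    have := W.sub_mem (hdec v) (W.smul_mem (∑ p, v p) hn)
    rwa [add_sub_cancel_right] at this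
  · left
    ext v
    simp only [SetLike.mem_coe, Set.mem_ofPred_eq]
    constructor
    · intro hv
      by_contra h
      have h1 : ∑ p, v p = 1 := by revert h; generalize ∑ p, v p = s; revert s; decide
      have := W.sub_mem (hdec v) hv
      rw [h1, one_smul, add_sub_cancel_left] at this
      exact hn this
    · intro h
      simpa [h] using hdec v

end Cfsg.Lib.Golay
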