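import Mathlib
import Cfsg.Agent.Lib.Golay.Fixer
import Cfsg.Agent.Lib.Golay.InvSubspaces

/-! The point stabilisers of `M24` are perfect down to four points; `M24`, `M23`, `M22` are simple. -/

set_option autoImplicit false

namespace Cfsg.Lib.Golay.Simp

open Cfsg
open scoped Pointwise commutatorElement

/-- Commutator witnesses for the transversals below four points: `(a, a⁻¹, b, b⁻¹)`. -/
def commData : List (List ℕ × List ℕ × List ℕ × List ℕ) := [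
  ([0, 1, 2, 3, 4, 5, 6, 7, 8, 9, 10, 11, 12, 13, 14, 15, 16, 17, 18, 19, 20, 21, 22, 23], [0, 1, 2, 3, 4, 5, 6, 7, 8, 9, 10, 11, 12, 13, 14, 15, 16, 17, 18, 19, 20, 21, 22, 23], [0, 1, 2, 3, 4, 5, 6, 7, 8, 9, 10, 11, 12, 13, 14, 15, 16, 17, 18, 19, 20, 21, 22, 23], [0, 1, 2, 3, 4, 5, 6, 7, 8, 9, 10, 11, 12, 13, 14, 15, 16, 17, 18, 19, 20, 21, 22, 23]),
  ([0, 1, 2, 3, 8, 14, 7, 19, 9, 4, 16, 10, 15, 18, 17, 22, 11, 5, 20, 6, 13, 21, 12, 23], [0, 1, 2, 3, 9, 17, 19, 6, 4, 8, 11, 16, 22, 20, 5, 12, 10, 14, 13, 7, 18, 21, 15, 23], [0, 1, 2, 6, 8, 7, 16, 4, 15, 17, 14, 10, 20, 11, 19, 5, 12, 21, 9, 13, 3, 22, 18, 23], [0, 1, 2, 20, 7, 15, 3, 5, 4, 18, 11, 13, 16, 19, 10, 8, 6, 9, 22, 14, 12, 17, 21, 23]),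
  ([0, 1, 2, 3, 4, 17, 18, 12, 9, 21, 7, 20, 10, 16, 5, 6, 22, 14, 15, 11, 19, 8, 13, 23], [0, 1, 2, 3, 4, 14, 15, 10, 21, 8, 12, 19, 7, 22, 17, 18, 13, 5, 6, 20, 11, 9, 16, 23], [0, 1, 2, 16, 5, 4, 6, 7, 15, 18, 11, 10, 20, 14, 13, 8, 3, 22, 9, 19, 12, 21, 17, 23], [0, 1, 2, 16, 5, 4, 6, 7, 15, 18, 11, 10, 20, 14, 13, 8, 3, 22, 9, 19, 12, 21, 17, 23]),
  ([0, 1, 2, 3, 9, 14, 13, 22, 8, 21, 6, 18, 11, 10, 17, 19, 15, 5, 12, 16, 7, 4, 20, 23], [0, 1, 2, 3, 21, 17, 10, 20, 8, 4, 13, 12, 18, 6, 5, 16, 19, 14, 11, 15, 22, 9, 7, 23], [0, 1, 2, 6, 9, 21, 8, 11, 13, 14, 3, 4, 22, 10, 7, 5, 15, 19, 16, 12, 17, 18, 20, 23], [0, 1, 2, 10, 11, 15, 3, 14, 6, 4, 13, 7, 19, 8, 9, 16, 18, 20, 21, 17, 22, 5, 12, 23]),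
  ([0, 1, 2, 3, 6, 17, 15, 9, 12, 16, 22, 8, 11, 21, 5, 4, 7, 14, 18, 10, 13, 20, 19, 23], [0, 1, 2, 3, 15, 14, 4, 16, 11, 7, 19, 12, 8, 20, 17, 6, 9, 5, 18, 22, 21, 13, 10, 23], [0, 1, 2, 10, 3, 9, 21, 7, 18, 22, 4, 8, 12, 14, 20, 16, 17, 15, 11, 6, 13, 19, 5, 23], [0, 1, 2, 4, 10, 22, 19, 7, 11, 5, 3, 18, 12, 20, 13, 17, 15, 16, 8, 21, 14, 6, 9, 23]),
  ([0, 1, 2, 3, 4, 14, 15, 10, 21, 8, 12, 19, 7, 22, 17, 18, 13, 5, 6, 20, 11, 9, 16, 23], [0, 1, 2, 3, 4, 17, 18, 12, 9, 21, 7, 20, 10, 16, 5, 6, 22, 14, 15, 11, 19, 8, 13, 23], [0, 1, 2, 11, 6, 8, 17, 3, 10, 4, 22, 15, 9, 7, 18, 13, 19, 12, 20, 14, 16, 5, 21, 23], [0, 1, 2, 7, 9, 21, 4, 13, 5, 12, 8, 3, 17, 15, 19, 11, 20, 6, 14, 16, 18, 22, 10, 23]),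
  ([0, 1, 2, 3, 4, 14, 15, 10, 21, 8, 12, 19, 7, 22, 17, 18, 13, 5, 6, 20, 11, 9, 16, 23], [0, 1, 2, 3, 4, 17, 18, 12, 9, 21, 7, 20, 10, 16, 5, 6, 22, 14, 15, 11, 19, 8, 13, 23], [0, 1, 2, 15, 12, 9, 7, 6, 4, 14, 5, 22, 13, 8, 10, 17, 11, 20, 16, 21, 3, 19, 18, 23], [0, 1, 2, 20, 8, 10, 7, 6, 13, 5, 14, 16, 4, 12, 9, 3, 18, 15, 22, 21, 17, 19, 11, 23]),
  ([0, 1, 2, 3, 7, 5, 22, 4, 15, 11, 12, 9, 10, 21, 14, 8, 19, 17, 20, 16, 18, 13, 6, 23], [0, 1, 2, 3, 7, 5, 22, 4, 15, 11, 12, 9, 10, 21, 14, 8, 19, 17, 20, 16, 18, 13, 6, 23], [0, 1, 2, 7, 3, 21, 8, 12, 15, 13, 4, 9, 10, 5, 19, 22, 14, 6, 20, 18, 16, 11, 17, 23], [0, 1, 2, 4, 10, 13, 17, 3, 6, 11, 12, 21, 7, 9, 16, 8, 20, 22, 19, 14, 18, 5, 15, 23]),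
  ([0, 1, 2, 3, 6, 14, 18, 11, 16, 20, 9, 13, 22, 7, 17, 15, 19, 5, 4, 8, 10, 12, 21, 23], [0, 1, 2, 3, 18, 17, 4, 13, 19, 10, 20, 7, 21, 11, 5, 15, 8, 14, 6, 16, 9, 22, 12, 23], [0, 1, 2, 10, 6, 9, 14, 17, 4, 11, 18, 13, 16, 21, 20, 12, 7, 15, 22, 3, 8, 5, 19, 23], [0, 1, 2, 19, 8, 21, 4, 16, 20, 5, 3, 9, 15, 11, 6, 17, 12, 7, 10, 22, 14, 13, 18, 23]),
  ([0, 1, 2, 3, 6, 14, 18, 11, 16, 20, 9, 13, 22, 7, 17, 15, 19, 5, 4, 8, 10, 12, 21, 23], [0, 1, 2, 3, 18, 17, 4, 13, 19, 10, 20, 7, 21, 11, 5, 15, 8, 14, 6, 16, 9, 22, 12, 23], [0, 1, 2, 11, 3, 18, 10, 9, 7, 13, 22, 19, 6, 17, 12, 16, 5, 8, 21, 20, 4, 15, 14, 23], [0, 1, 2, 4, 20, 16, 12, 8, 17, 7, 6, 3, 14, 9, 22, 21, 15, 13, 5, 11, 19, 18, 10, 23]),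
  ([0, 1, 2, 3, 4, 14, 15, 10, 21, 8, 12, 19, 7, 22, 17, 18, 13, 5, 6, 20, 11, 9, 16, 23], [0, 1, 2, 3, 4, 17, 18, 12, 9, 21, 7, 20, 10, 16, 5, 6, 22, 14, 15, 11, 19, 8, 13, 23], [0, 1, 2, 21, 11, 6, 10, 15, 14, 22, 4, 5, 17, 18, 19, 16, 12, 7, 3, 9, 13, 20, 8, 23], [0, 1, 2, 18, 10, 11, 5, 17, 22, 19, 6, 4, 16, 20, 8, 7, 15, 12, 13, 14, 21, 3, 9, 23]),
  ([0, 1, 2, 3, 4, 14, 15, 10, 21, 8, 12, 19, 7, 22, 17, 18, 13, 5, 6, 20, 11, 9, 16, 23], [0, 1, 2, 3, 4, 17, 18, 12, 9, 21, 7, 20, 10, 16, 5, 6, 22, 14, 15, 11, 19, 8, 13, 23], [0, 1, 2, 17, 13, 3, 11, 8, 10, 21, 7, 15, 9, 22, 14, 6, 16, 5, 20, 18, 19, 12, 4, 23], [0, 1, 2, 5, 22, 17, 15, 10, 7, 12, 8, 6, 21, 4, 14, 11, 16, 3, 19, 20, 18, 9, 13, 23]),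
  ([0, 1, 2, 3, 8, 5, 20, 15, 4, 21, 19, 13, 16, 11, 14, 7, 12, 17, 22, 10, 6, 9, 18, 23], [0, 1, 2, 3, 8, 5, 20, 15, 4, 21, 19, 13, 16, 11, 14, 7, 12, 17, 22, 10, 6, 9, 18, 23], [0, 1, 2, 13, 3, 16, 12, 18, 7, 15, 20, 6, 21, 14, 4, 9, 17, 22, 19, 8, 10, 11, 5, 23], [0, 1, 2, 4, 14, 22, 11, 8, 19, 15, 20, 21, 6, 3, 13, 9, 5, 16, 7, 18, 10, 12, 17, 23]),
  ([0, 1, 2, 3, 8, 14, 7, 19, 9, 4, 16, 10, 15, 18, 17, 22, 11, 5, 20, 6, 13, 21, 12, 23], [0, 1, 2, 3, 9, 17, 19, 6, 4, 8, 11, 16, 22, 20, 5, 12, 10, 14, 13, 7, 18, 21, 15, 23], [0, 1, 2, 21, 5, 6, 4, 22, 18, 15, 10, 11, 8, 14, 19, 20, 3, 7, 12, 13, 9, 16, 17, 23], [0, 1, 2, 16, 6, 4, 5, 17, 12, 20, 10, 11, 18, 19, 13, 9, 21, 22, 8, 14, 15, 3, 7, 23]),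
  ([0, 1, 2, 3, 4, 17, 18, 12, 9, 21, 7, 20, 10, 16, 5, 6, 22, 14, 15, 11, 19, 8, 13, 23], [0, 1, 2, 3, 4, 14, 15, 10, 21, 8, 12, 19, 7, 22, 17, 18, 13, 5, 6, 20, 11, 9, 16, 23], [0, 1, 2, 4, 17, 13, 10, 15, 18, 7, 21, 12, 11, 14, 16, 19, 5, 22, 8, 9, 6, 20, 3, 23], [0, 1, 2, 22, 3, 16, 20, 9, 18, 19, 6, 12, 11, 5, 13, 7, 14, 4, 8, 15, 21, 10, 17, 23]),
  ([0, 1, 2, 3, 6, 14, 18, 11, 16, 20, 9, 13, 22, 7, 17, 15, 19, 5, 4, 8, 10, 12, 21, 23], [0, 1, 2, 3, 18, 17, 4, 13, 19, 10, 20, 7, 21, 11, 5, 15, 8, 14, 6, 16, 9, 22, 12, 23], [0, 1, 2, 11, 5, 18, 15, 20, 6, 4, 16, 21, 7, 14, 12, 22, 3, 8, 19, 9, 13, 10, 17, 23], [0, 1, 2, 16, 9, 4, 8, 12, 17, 19, 21, 3, 14, 20, 13, 6, 10, 22, 5, 18, 7, 11, 15, 23]),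
  ([0, 1, 2, 3, 9, 14, 13, 22, 8, 21, 6, 18, 11, 10, 17, 19, 15, 5, 12, 16, 7, 4, 20, 23], [0, 1, 2, 3, 21, 17, 10, 20, 8, 4, 13, 12, 18, 6, 5, 16, 19, 14, 11, 15, 22, 9, 7, 23], [0, 1, 2, 21, 11, 7, 3, 17, 22, 20, 15, 13, 4, 12, 6, 10, 8, 19, 16, 5, 9, 14, 18, 23], [0, 1, 2, 6, 12, 19, 14, 5, 16, 20, 15, 4, 13, 11, 21, 10, 18, 7, 22, 17, 9, 3, 8, 23]),
  ([0, 1, 2, 3, 4, 14, 15, 10, 21, 8, 12, 19, 7, 22, 17, 18, 13, 5, 6, 20, 11, 9, 16, 23], [0, 1, 2, 3, 4, 17, 18, 12, 9, 21, 7, 20, 10, 16, 5, 6, 22, 14, 15, 11, 19, 8, 13, 23], [0, 1, 2, 9, 12, 10, 13, 16, 5, 7, 21, 17, 14, 11, 15, 19, 18, 20, 3, 4, 6, 22, 8, 23], [0, 1, 2, 18, 19, 8, 20, 9, 22, 3, 5, 13, 4, 6, 12, 14, 7, 11, 16, 15, 17, 10, 21, 23]),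
  ([0, 1, 2, 3, 6, 17, 15, 9, 12, 16, 22, 8, 11, 21, 5, 4, 7, 14, 18, 10, 13, 20, 19, 23], [0, 1, 2, 3, 15, 14, 4, 16, 11, 7, 19, 12, 8, 20, 17, 6, 9, 5, 18, 22, 21, 13, 10, 23], [0, 1, 2, 15, 5, 20, 19, 6, 18, 16, 13, 8, 12, 17, 9, 22, 14, 10, 11, 7, 4, 21, 3, 23], [0, 1, 2, 22, 20, 4, 7, 19, 11, 14, 17, 18, 12, 10, 16, 3, 9, 13, 8, 6, 5, 21, 15, 23]),
  ([0, 1, 2, 3, 4, 14, 15, 10, 21, 8, 12, 19, 7, 22, 17, 18, 13, 5, 6, 20, 11, 9, 16, 23], [0, 1, 2, 3, 4, 17, 18, 12, 9, 21, 7, 20, 10, 16, 5, 6, 22, 14, 15, 11, 19, 8, 13, 23], [0, 1, 2, 6, 8, 7, 16, 4, 15, 17, 14, 10, 20, 11, 19, 5, 12, 21, 9, 13, 3, 22, 18, 23], [0, 1, 2, 20, 7, 15, 3, 5, 4, 18, 11, 13, 16, 19, 10, 8, 6, 9, 22, 14, 12, 17, 21, 23]),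
  ([0, 1, 2, 3, 4, 5, 6, 7, 8, 9, 10, 11, 12, 13, 14, 15, 16, 17, 18, 19, 20, 21, 22, 23], [0, 1, 2, 3, 4, 5, 6, 7, 8, 9, 10, 11, 12, 13, 14, 15, 16, 17, 18, 19, 20, 21, 22, 23], [0, 1, 2, 3, 4, 5, 6, 7, 8, 9, 10, 11, 12, 13, 14, 15, 16, 17, 18, 19, 20, 21, 22, 23], [0, 1, 2, 3, 4, 5, 6, 7, 8, 9, 10, 11, 12, 13, 14, 15, 16, 17, 18, 19, 20, 21, 22, 23]),
  ([0, 1, 2, 3, 4, 14, 15, 10, 21, 8, 12, 19, 7, 22, 17, 18, 13, 5, 6, 20, 11, 9, 16, 23], [0, 1, 2, 3, 4, 17, 18, 12, 9, 21, 7, 20, 10, 16, 5, 6, 22, 14, 15, 11, 19, 8, 13, 23], [0, 1, 2, 6, 3, 7, 15, 9, 16, 12, 11, 13, 22, 14, 19, 18, 17, 21, 4, 10, 8, 20, 5, 23], [0, 1, 2, 4, 18, 22, 3, 5, 20, 7, 19, 10, 9, 11, 13, 6, 8, 16, 15, 14, 21, 17, 12, 23]),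
  ([0, 1, 2, 3, 4, 14, 15, 10, 21, 8, 12, 19, 7, 22, 17, 18, 13, 5, 6, 20, 11, 9, 16, 23], [0, 1, 2, 3, 4, 17, 18, 12, 9, 21, 7, 20, 10, 16, 5, 6, 22, 14, 15, 11, 19, 8, 13, 23], [0, 1, 2, 3, 10, 5, 11, 12, 19, 22, 4, 6, 7, 20, 14, 16, 15, 17, 21, 8, 13, 18, 9, 23], [0, 1, 2, 3, 10, 5, 11, 12, 19, 22, 4, 6, 7, 20, 14, 16, 15, 17, 21, 8, 13, 18, 9, 23]),
  ([0, 1, 2, 3, 4, 14, 15, 10, 21, 8, 12, 19, 7, 22, 17, 18, 13, 5, 6, 20, 11, 9, 16, 23], [0, 1, 2, 3, 4, 17, 18, 12, 9, 21, 7, 20, 10, 16, 5, 6, 22, 14, 15, 11, 19, 8, 13, 23], [0, 1, 2, 8, 3, 11, 7, 19, 4, 9, 15, 13, 16, 5, 12, 20, 14, 18, 22, 6, 10, 21, 17, 23], [0, 1, 2, 4, 8, 13, 19, 6, 3, 9, 20, 5, 14, 11, 16, 10, 12, 22, 17, 7, 15, 21, 18, 23]),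
  ([0, 1, 2, 3, 4, 14, 15, 10, 21, 8, 12, 19, 7, 22, 17, 18, 13, 5, 6, 20, 11, 9, 16, 23], [0, 1, 2, 3, 4, 17, 18, 12, 9, 21, 7, 20, 10, 16, 5, 6, 22, 14, 15, 11, 19, 8, 13, 23], [0, 1, 2, 3, 8, 5, 20, 15, 4, 21, 19, 13, 16, 11, 14, 7, 12, 17, 22, 10, 6, 9, 18, 23], [0, 1, 2, 3, 8, 5, 20, 15, 4, 21, 19, 13, 16, 11, 14, 7, 12, 17, 22, 10, 6, 9, 18, 23]),
  ([0, 1, 2, 3, 4, 14, 15, 10, 21, 8, 12, 19, 7, 22, 17, 18, 13, 5, 6, 20, 11, 9, 16, 23], [0, 1, 2, 3, 4, 17, 18, 12, 9, 21, 7, 20, 10, 16, 5, 6, 22, 14, 15, 11, 19, 8, 13, 23], [0, 1, 2, 10, 3, 9, 21, 7, 18, 22, 4, 8, 12, 14, 20, 16, 17, 15, 11, 6, 13, 19, 5, 23], [0, 1, 2, 4, 10, 22, 19, 7, 11, 5, 3, 18, 12, 20, 13, 17, 15, 16, 8, 21, 14, 6, 9, 23]),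
  ([0, 1, 2, 3, 4, 14, 15, 10, 21, 8, 12, 19, 7, 22, 17, 18, 13, 5, 6, 20, 11, 9, 16, 23], [0, 1, 2, 3, 4, 17, 18, 12, 9, 21, 7, 20, 10, 16, 5, 6, 22, 14, 15, 11, 19, 8, 13, 23], [0, 1, 2, 3, 19, 5, 13, 16, 10, 18, 8, 20, 15, 6, 14, 12, 7, 17, 9, 4, 11, 22, 21, 23], [0, 1, 2, 3, 19, 5, 13, 16, 10, 18, 8, 20, 15, 6, 14, 12, 7, 17, 9, 4, 11, 22, 21, 23]),
  ([0, 1, 2, 3, 4, 14, 15, 10, 21, 8, 12, 19, 7, 22, 17, 18, 13, 5, 6, 20, 11, 9, 16, 23], [0, 1, 2, 3, 4, 17, 18, 12, 9, 21, 7, 20, 10, 16, 5, 6, 22, 14, 15, 11, 19, 8, 13, 23], [0, 1, 2, 12, 3, 8, 9, 10, 6, 16, 4, 21, 7, 17, 11, 13, 5, 18, 19, 15, 22, 20, 14, 23], [0, 1, 2, 4, 10, 16, 8, 12, 5, 6, 7, 14, 3, 15, 22, 19, 9, 13, 17, 18, 21, 11, 20, 23]),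
  ([0, 1, 2, 3, 4, 14, 15, 10, 21, 8, 12, 19, 7, 22, 17, 18, 13, 5, 6, 20, 11, 9, 16, 23], [0, 1, 2, 3, 4, 17, 18, 12, 9, 21, 7, 20, 10, 16, 5, 6, 22, 14, 15, 11, 19, 8, 13, 23], [0, 1, 2, 13, 3, 4, 9, 20, 11, 7, 21, 8, 18, 5, 22, 19, 14, 16, 12, 10, 6, 15, 17, 23], [0, 1, 2, 4, 5, 13, 20, 9, 11, 6, 19, 8, 18, 3, 16, 21, 17, 22, 12, 15, 7, 10, 14, 23]),
  ([0, 1, 2, 3, 4, 14, 15, 10, 21, 8, 12, 19, 7, 22, 17, 18, 13, 5, 6, 20, 11, 9, 16, 23], [0, 1, 2, 3, 4, 17, 18, 12, 9, 21, 7, 20, 10, 16, 5, 6, 22, 14, 15, 11, 19, 8, 13, 23], [0, 1, 2, 15, 3, 9, 4, 16, 7, 11, 8, 21, 19, 5, 10, 18, 14, 20, 6, 22, 12, 13, 17, 23], [0, 1, 2, 4, 6, 13, 18, 8, 10, 5, 14, 9, 20, 21, 16, 3, 7, 22, 15, 12, 17, 11, 19, 23]),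
  ([0, 1, 2, 3, 4, 14, 15, 10, 21, 8, 12, 19, 7, 22, 17, 18, 13, 5, 6, 20, 11, 9, 16, 23], [0, 1, 2, 3, 4, 17, 18, 12, 9, 21, 7, 20, 10, 16, 5, 6, 22, 14, 15, 11, 19, 8, 13, 23], [0, 1, 2, 3, 13, 5, 19, 21, 11, 15, 20, 8, 18, 4, 14, 9, 22, 17, 12, 6, 10, 7, 16, 23], [0, 1, 2, 3, 13, 5, 19, 21, 11, 15, 20, 8, 18, 4, 14, 9, 22, 17, 12, 6, 10, 7, 16, 23]),
  ([0, 1, 2, 3, 4, 14, 15, 10, 21, 8, 12, 19, 7, 22, 17, 18, 13, 5, 6, 20, 11, 9, 16, 23], [0, 1, 2, 3, 4, 17, 18, 12, 9, 21, 7, 20, 10, 16, 5, 6, 22, 14, 15, 11, 19, 8, 13, 23], [0, 1, 2, 3, 6, 5, 4, 22, 20, 12, 11, 10, 9, 19, 14, 18, 21, 17, 15, 13, 8, 16, 7, 23], [0, 1, 2, 3, 6, 5, 4, 22, 20, 12, 11, 10, 9, 19, 14, 18, 21, 17, 15, 13, 8, 16, 7, 23]),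
  ([0, 1, 2, 3, 4, 14, 15, 10, 21, 8, 12, 19, 7, 22, 17, 18, 13, 5, 6, 20, 11, 9, 16, 23], [0, 1, 2, 3, 4, 17, 18, 12, 9, 21, 7, 20, 10, 16, 5, 6, 22, 14, 15, 11, 19, 8, 13, 23], [0, 1, 2, 3, 20, 5, 8, 18, 6, 16, 13, 19, 21, 10, 14, 22, 9, 17, 7, 11, 4, 12, 15, 23], [0, 1, 2, 3, 20, 5, 8, 18, 6, 16, 13, 19, 21, 10, 14, 22, 9, 17, 7, 11, 4, 12, 15, 23]),
  ([0, 1, 2, 3, 4, 14, 15, 10, 21, 8, 12, 19, 7, 22, 17, 18, 13, 5, 6, 20, 11, 9, 16, 23], [0, 1, 2, 3, 4, 17, 18, 12, 9, 21, 7, 20, 10, 16, 5, 6, 22, 14, 15, 11, 19, 8, 13, 23], [0, 1, 2, 3, 11, 5, 10, 9, 13, 7, 6, 4, 22, 8, 14, 21, 18, 17, 16, 20, 19, 15, 12, 23], [0, 1, 2, 3, 11, 5, 10, 9, 13, 7, 6, 4, 22, 8, 14, 21, 18, 17, 16, 20, 19, 15, 12, 23]),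
  ([0, 1, 2, 3, 4, 14, 15, 10, 21, 8, 12, 19, 7, 22, 17, 18, 13, 5, 6, 20, 11, 9, 16, 23], [0, 1, 2, 3, 4, 17, 18, 12, 9, 21, 7, 20, 10, 16, 5, 6, 22, 14, 15, 11, 19, 8, 13, 23], [0, 1, 2, 21, 3, 6, 16, 13, 8, 9, 20, 12, 18, 17, 19, 10, 5, 7, 11, 22, 15, 4, 14, 23], [0, 1, 2, 4, 21, 16, 5, 17, 8, 9, 15, 18, 11, 7, 22, 20, 6, 13, 12, 14, 10, 3, 19, 23]),
  ([0, 1, 2, 3, 4, 14, 15, 10, 21, 8, 12, 19, 7, 22, 17, 18, 13, 5, 6, 20, 11, 9, 16, 23], [0, 1, 2, 3, 4, 17, 18, 12, 9, 21, 7, 20, 10, 16, 5, 6, 22, 14, 15, 11, 19, 8, 13, 23], [0, 1, 2, 22, 3, 4, 8, 11, 19, 10, 9, 21, 6, 14, 16, 20, 17, 13, 7, 12, 15, 18, 5, 23], [0, 1, 2, 4, 5, 22, 12, 18, 6, 10, 9, 7, 19, 17, 13, 20, 14, 16, 21, 8, 15, 11, 3, 23]),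
  ([0, 1, 2, 3, 4, 5, 6, 7, 8, 9, 10, 11, 12, 13, 14, 15, 16, 17, 18, 19, 20, 21, 22, 23], [0, 1, 2, 3, 4, 5, 6, 7, 8, 9, 10, 11, 12, 13, 14, 15, 16, 17, 18, 19, 20, 21, 22, 23], [0, 1, 2, 3, 4, 5, 6, 7, 8, 9, 10, 11, 12, 13, 14, 15, 16, 17, 18, 19, 20, 21, 22, 23], [0, 1, 2, 3, 4, 5, 6, 7, 8, 9, 10, 11, 12, 13, 14, 15, 16, 17, 18, 19, 20, 21, 22, 23]),
  ([0, 1, 2, 3, 4, 17, 18, 12, 9, 21, 7, 20, 10, 16, 5, 6, 22, 14, 15, 11, 19, 8, 13, 23], [0, 1, 2, 3, 4, 14, 15, 10, 21, 8, 12, 19, 7, 22, 17, 18, 13, 5, 6, 20, 11, 9, 16, 23], [0, 1, 2, 4, 3, 13, 15, 10, 8, 21, 7, 11, 12, 5, 16, 6, 14, 22, 18, 20, 19, 9, 17, 23], [0, 1, 2, 4, 3, 13, 15, 10, 8, 21, 7, 11, 12, 5, 16, 6, 14, 22, 18, 20, 19, 9, 17, 23]),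
  ([0, 1, 2, 3, 4, 14, 15, 10, 21, 8, 12, 19, 7, 22, 17, 18, 13, 5, 6, 20, 11, 9, 16, 23], [0, 1, 2, 3, 4, 17, 18, 12, 9, 21, 7, 20, 10, 16, 5, 6, 22, 14, 15, 11, 19, 8, 13, 23], [0, 1, 2, 4, 3, 13, 15, 10, 8, 21, 7, 11, 12, 5, 16, 6, 14, 22, 18, 20, 19, 9, 17, 23], [0, 1, 2, 4, 3, 13, 15, 10, 8, 21, 7, 11, 12, 5, 16, 6, 14, 22, 18, 20, 19, 9, 17, 23])
]

/-- The transversal elements to be written as commutators. -/
def lowElems : List ℕ := transv 4 ++ transv 5 ++ transv 6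

/-- The image list fixes four base points and keeps the code. -/
def inLevFour (l : List ℕ) : Bool :=
  keepsCode l && (List.range 4).all fun j => l.getD (baseIdx j) 0 == baseIdx j

/-- The check of one witness. -/
def commOK (t : ℕ) (d : List ℕ × List ℕ × List ℕ × List ℕ) : Bool :=
  inLevFour d.1 && inLevFour d.2.1 && inLevFour d.2.2.1 && inLevFour d.2.2.2 &&
    (compL d.1 d.2.1 == List.range 24) && (compL d.2.2.1 d.2.2.2 == List.range 24) &&
    isPermList (compL d.1 d.2.2.1) && isPermList (compL d.2.1 d.2.2.2) &&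
    (compL (compL d.1 d.2.2.1) (compL d.2.1 d.2.2.2) == slp t) && isPermList (slp t)

theorem comm_check : (lowElems.all fun t => commData.any (commOK t)) = true := by decide +kernel

theorem mem_lev_four {l : List ℕ} (h : inLevFour l = true) : permOf l ∈ lev 4 := by
  simp only [inLevFour, Bool.and_eq_true, List.all_eq_true, List.mem_range, beq_iff_eq] at h
  obtain ⟨hk, hfix⟩ := h
  have hv : isPermList l = true := by simp only [keepsCode, Bool.and_eq_true] at hk; exact hk.1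
  refine (mem_lev_iff _ 4).2 ⟨M24_eq_setSystemAut ▸ permOf_mem_M24 hk, fun j hj => ?_⟩
  rw [baseP, permOf_pt hv (baseIdx_lt j (by omega)), hfix j hj]

theorem slp_mem_derived {t : ℕ} (ht : t ∈ lowElems) : permOf (slp t) ∈ ⁅lev 4, lev 4⁆ := by
  obtain ⟨⟨a, a', b, b'⟩, -, hd⟩ := List.any_eq_true.1 (List.all_eq_true.1 comm_check t ht)
  simp only [commOK, Bool.and_eq_true, beq_iff_eq] at hd
  obtain ⟨⟨⟨⟨⟨⟨⟨⟨⟨ha, ha'⟩, hb⟩, hb'⟩, eA⟩, eB⟩, hab⟩, hab'⟩, he⟩, hs⟩ := hd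
  have hp : ∀ {l}, inLevFour l = true → isPermList l = true := fun {l} h => by
    simp only [inLevFour, keepsCode, Bool.and_eq_true] at h; exact h.1.1
  have hr : isPermList (List.range 24) = true := by decide
  have i1 : permOf a' = (permOf a)⁻¹ :=
    eq_inv_of_mul_eq_one_right (by rw [← permOf_mul (hp ha) (hp ha') hr eA, permOf_range])
  have i2 : permOf b' = (permOf b)⁻¹ :=
    eq_inv_of_mul_eq_one_right (by rw [← permOf_mul (hp hb) (hp hb') hr eB, permOf_range])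
  rw [permOf_mul hab hab' hs he, permOf_mul (hp ha) (hp hb) hab rfl, permOf_mul (hp ha') (hp hb') hab' rfl,
    i1, i2, show permOf a * permOf b * ((permOf a)⁻¹ * (permOf b)⁻¹) = ⁅permOf a, permOf b⁆ from by
      rw [commutatorElement_def]; group]
  exact Subgroup.commutator_mem_commutator (mem_lev_four ha) (mem_lev_four hb)

theorem lev_le_derived : ∀ i, 4 ≤ i → i ≤ 7 → lev i ≤ ⁅lev 4, lev 4⁆ := by
  suffices ∀ k, k ≤ 3 → lev (7 - k) ≤ ⁅lev 4, lev 4⁆ from fun i h1 h2 => by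
    have := this (7 - i) (by omega); rwa [show 7 - (7 - i) = i by omega] at this
  intro k
  induction k with
  | zero => intro _; rw [lev_seven]; exact bot_le
  | succ k ih =>
    intro hk g hg
    set i := 7 - (k + 1) with hi
    have hi' : 7 - k = i + 1 := by omega
    have hadm : Admissible i (g (baseP i)) := admissible_apply (by omega) hg
    have hc := List.all_eq_true.1 levs_check i (List.mem_range.2 (by omega))
    simp only [levOK, Bool.and_eq_true, List.all_eq_true, decide_eq_true_eq, Bool.or_eq_true,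
      Bool.not_eq_true'] at hc
    obtain ⟨⟨h1, -⟩, h3⟩ := hc
    have h3' := h3 (idx (g (baseP i))) (List.mem_range.2 (idx_lt _))
    rw [allowed_of_admissible (by omega) hadm] at h3'
    simp only [Bool.true_eq_false, false_or, List.mem_map] at h3'
    obtain ⟨t, ht, hte⟩ := h3'
    obtain ⟨⟨hlt, hfix⟩, -⟩ := h1 t ht
    obtain ⟨hv, hmem⟩ := slp_mem hlt
    have hlow : t ∈ lowElems := by
      have : i = 4 ∨ i = 5 ∨ i = 6 := by omega
      simp only [lowElems, List.mem_append]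
      rcases this with e | e | e <;> rw [e] at ht <;> simp [ht]
    have hu : permOf (slp t) ∈ lev i := (mem_lev_iff _ i).2
      ⟨M24_le_setSystemAut (stdGroup_le_M24 hmem), fun j hj => by
        rw [baseP, permOf_pt hv (baseIdx_lt j (by omega)), hfix j hj]⟩
    have hw : (permOf (slp t))⁻¹ * g ∈ lev (i + 1) := by
      refine ⟨Subgroup.mul_mem _ (Subgroup.inv_mem _ hu) hg, ?_⟩
      show ((permOf (slp t))⁻¹ * g) • baseP i = baseP i
      rw [Equiv.Perm.smul_def, Equiv.Perm.mul_apply, Equiv.Perm.inv_eq_iff_eq]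
      symm
      show permOf (slp t) (baseP i) = g (baseP i)
      rw [baseP, permOf_pt hv (baseIdx_lt i (by omega)), hte, pt_idx]
      rfl
    rw [← mul_inv_cancel_left (permOf (slp t)) g]
    exact Subgroup.mul_mem _ (slp_mem_derived hlow) (ih (by omega) (hi' ▸ hw))

theorem fixer_conj_perfect {A : Finset GolayPt} (hA : A.card = 4) :
    fixer A ≤ ⁅fixer A, fixer A⁆ := by
  obtain ⟨τ, hτ, him⟩ := exists_set_to_base (A := A) (by omega)
  rw [hA] at him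
  have hB := fixer_base 4
  intro g hg
  have h1 : τ * g * τ⁻¹ ∈ ⁅fixer ((Finset.range 4).image baseP), fixer ((Finset.range 4).image baseP)⁆ := by
    rw [hB]
    exact lev_le_derived 4 le_rfl (by norm_num) (hB ▸ conj_mem_fixer hτ him hg)
  have hinv : ((Finset.range 4).image baseP).image (⇑τ⁻¹) = A := by
    rw [← him, Finset.image_image]
    have : (⇑τ⁻¹ ∘ ⇑τ) = id := by funext y; exact τ.symm_apply_apply y
    rw [this, Finset.image_id]
  have hle : (fixer ((Finset.range 4).image baseP)).map (MulAut.conj τ⁻¹).toMonoidHom ≤ fixer A := by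
    rintro _ ⟨x, hx, rfl⟩
    exact conj_mem_fixer (M24.inv_mem hτ) hinv hx
  have h2 := Subgroup.mem_map_of_mem (MulAut.conj τ⁻¹).toMonoidHom h1
  rw [Subgroup.map_commutator] at h2
  have h3 := Subgroup.commutator_mono hle hle h2
  rwa [show (MulAut.conj τ⁻¹).toMonoidHom (τ * g * τ⁻¹) = g from by
    simp [MulAut.conj_apply, mul_assoc]] at h3

theorem fixer_map {A : Finset GolayPt} (hA : A.card ≤ 4) {q r : GolayPt} (hq : q ∉ A) (hr : r ∉ A) :
    ∃ g ∈ fixer A, g q = r := by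
  obtain ⟨σ, hσ, hm⟩ := M24_map_of_injOn (A := insert q A)
    ((Finset.card_insert_le _ _).trans (by omega)) (fun p => if p = q then r else p) (by
      intro a ha b hb e
      simp only [Finset.coe_insert, Set.mem_insert_iff, Finset.mem_coe] at ha hb
      by_cases h1 : a = q <;> by_cases h2 : b = q <;> simp only [h1, h2, if_true, if_false] at e ⊢
      · exact absurd (hb.resolve_left h2) (e ▸ hr)
      · exact absurd (ha.resolve_left h1) (e ▸ hr)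
      · exact e)
  refine ⟨σ, ⟨hσ, fun a ha => ?_⟩, ?_⟩
  · rw [hm a (Finset.mem_insert_of_mem ha), if_neg (fun (e : a = q) => hq (e ▸ ha))]
  · rw [hm q (Finset.mem_insert_self _ _), if_pos rfl]

/-- A non-trivial normal subgroup of the fixer of at most three points is transitive on the rest. -/
theorem normal_transitive {A : Finset GolayPt} (hA : A.card ≤ 3) {N : Subgroup (fixer A)} [N.Normal]
    (hN : N ≠ ⊥) {q r : GolayPt} (hq : q ∉ A) (hr : r ∉ A) :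
    ∃ n ∈ N, ((n : fixer A) : Equiv.Perm GolayPt) q = r := by
  obtain ⟨m, hm, hm1⟩ := N.bot_or_exists_ne_one.resolve_left hN
  obtain ⟨a, ha⟩ : ∃ a, (m : Equiv.Perm GolayPt) a ≠ a := by
    by_contra h
    push Not at h
    exact hm1 (Subtype.ext (Equiv.ext h))
  have haA : a ∉ A := fun h => ha (m.2.2 a h)
  have hbA : (m : Equiv.Perm GolayPt) a ∉ A := fun h => by
    have := m.2.2 _ h
    exact ha ((m : Equiv.Perm GolayPt).injective this)
  obtain ⟨g, hg, hga⟩ := fixer_map (A := A) (by omega) haA hq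
  set m₁ : fixer A := ⟨g, hg⟩ * m * ⟨g, hg⟩⁻¹ with hm₁
  have hm₁N : m₁ ∈ N := Subgroup.Normal.conj_mem inferInstance m hm _
  have hcoe : (m₁ : Equiv.Perm GolayPt) = g * (m : Equiv.Perm GolayPt) * g⁻¹ := rfl
  clear_value m₁
  have hm₁q : (m₁ : Equiv.Perm GolayPt) q ≠ q := by
    rw [hcoe, ← hga, Equiv.Perm.mul_apply, Equiv.Perm.mul_apply]
    intro e
    rw [show g⁻¹ (g a) = a from g.symm_apply_apply a] at e
    exact ha (g.injective e)
  by_cases hqr : q = r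
  · exact ⟨1, N.one_mem, hqr⟩
  have hs : (m₁ : Equiv.Perm GolayPt) q ∉ A := fun h =>
    hq (by have := m₁.2.2 _ h; rwa [(m₁ : Equiv.Perm GolayPt).injective this] at h)
  obtain ⟨h, hh, hh1⟩ := fixer_map (A := insert q A) ((Finset.card_insert_le _ _).trans (by omega))
    (q := (m₁ : Equiv.Perm GolayPt) q) (r := r) (by simp [hm₁q, hs]) (by simp [hr, Ne.symm hqr])
  have hhA : h ∈ fixer A := ⟨hh.1, fun a ha => hh.2 a (Finset.mem_insert_of_mem ha)⟩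
  refine ⟨⟨h, hhA⟩ * m₁ * ⟨h, hhA⟩⁻¹, Subgroup.Normal.conj_mem inferInstance m₁ hm₁N _, ?_⟩
  have hq' : h⁻¹ q = q := by rw [Equiv.Perm.inv_eq_iff_eq]; exact (hh.2 q (Finset.mem_insert_self _ _)).symm
  show (h * (m₁ : Equiv.Perm GolayPt) * h⁻¹) q = r
  rw [Equiv.Perm.mul_apply, Equiv.Perm.mul_apply, hq', hh1]

theorem exists_notMem {A : Finset GolayPt} (hA : A.card ≤ 4) : ∃ p, p ∉ A := by
  by_contra h
  push Not at h
  rw [Finset.eq_univ_of_forall h] at hA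
  simp [GolayPt] at hA

/-- The fixers of at most four points are perfect. -/
theorem fixer_perfect {A : Finset GolayPt} (hA : A.card ≤ 4) : commutator (fixer A) = ⊤ := by
  suffices ∀ d A, A.card + d = 4 → fixer A ≤ ⁅fixer A, fixer A⁆ by
    rw [eq_top_iff, ← Subgroup.map_le_map_iff_of_injective (fixer A).subtype_injective, ← MonoidHom.range_eq_map,
      Subgroup.range_subtype, commutator_def, Subgroup.map_commutator, ← MonoidHom.range_eq_map,
      Subgroup.range_subtype]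
    exact this (4 - A.card) A (by omega)
  intro d
  induction d with
  | zero => exact fun A h => fixer_conj_perfect (by omega)
  | succ d ih =>
    intro A h
    obtain ⟨p, hp⟩ := exists_notMem (A := A) (by omega)
    have h4 := ih (insert p A) (by rw [Finset.card_insert_of_notMem hp]; omega)
    have hle : fixer (insert p A) ≤ fixer A := fun g hg => ⟨hg.1, fun a ha => hg.2 a (Finset.mem_insert_of_mem ha)⟩
    have hle' : fixer (insert p A) ≤ ⁅fixer A, fixer A⁆ := h4.trans (Subgroup.commutator_mono hle hle)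
    set D := (⁅fixer A, fixer A⁆).subgroupOf (fixer A) with hD
    haveI : D.Normal := by
      constructor
      intro x hx g
      rw [hD, Subgroup.mem_subgroupOf] at hx ⊢
      have h2 := Subgroup.mem_map_of_mem (MulAut.conj (g : Equiv.Perm GolayPt)).toMonoidHom hx
      rw [Subgroup.map_commutator] at h2
      have hm : (fixer A).map (MulAut.conj (g : Equiv.Perm GolayPt)).toMonoidHom ≤ fixer A := by
        rintro _ ⟨y, hy, rfl⟩
        exact (fixer A).mul_mem ((fixer A).mul_mem g.2 hy) ((fixer A).inv_mem g.2)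
      simpa using Subgroup.commutator_mono hm hm h2
    have hDne : D ≠ ⊥ := by
      obtain ⟨p', hp'⟩ := exists_notMem (A := insert p A) ((Finset.card_insert_le _ _).trans (by omega))
      obtain ⟨q', hq'⟩ : ∃ q', q' ∉ insert p' (insert p A) := by
        by_contra hall
        push Not at hall
        have hc := (congrArg Finset.card (Finset.eq_univ_of_forall hall)).symm.le.trans
          ((Finset.card_insert_le _ _).trans (Nat.succ_le_succ (Finset.card_insert_le _ _)))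
        simp [GolayPt] at hc
        omega
      simp only [Finset.mem_insert, not_or] at hq'
      obtain ⟨g, hg, hge⟩ := fixer_map (A := insert p A) ((Finset.card_insert_le _ _).trans (by omega))
        hp' (r := q') (by simp [hq'])
      intro hbot
      have hm : (⟨g, hle hg⟩ : fixer A) ∈ D := hle' hg
      rw [hbot, Subgroup.mem_bot] at hm
      have h0 : g = 1 := congrArg Subtype.val hm
      rw [h0] at hge
      exact hq'.1 hge.symm
    intro g hg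
    by_cases hgp : g p = p
    · exact hle' ⟨hg.1, fun a ha => by rcases Finset.mem_insert.1 ha with rfl | ha; exacts [hgp, hg.2 a ha]⟩
    obtain ⟨n, hn, hnp⟩ := normal_transitive (A := A) (by omega) hDne hp
      (fun h => hp (by have := hg.2 _ h; rwa [g.injective this] at h) : g p ∉ A)
    have hrest : (n : Equiv.Perm GolayPt)⁻¹ * g ∈ fixer (insert p A) := by
      refine ⟨M24.mul_mem (M24.inv_mem n.2.1) hg.1, fun a ha => ?_⟩
      rw [Equiv.Perm.mul_apply, Equiv.Perm.inv_eq_iff_eq]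
      rcases Finset.mem_insert.1 ha with rfl | ha
      · exact hnp.symm
      · rw [hg.2 a ha, n.2.2 a ha]
    rw [← mul_inv_cancel_left (n : Equiv.Perm GolayPt) g]
    exact Subgroup.mul_mem _ hn (hle' hrest)

/-- A permutation of order `p` of `M24` with few fixed points has a small centraliser. -/
theorem centralizer_comm {G : Subgroup (Equiv.Perm GolayPt)} (hG : G ≤ M24) {p : ℕ} [hp : Fact p.Prime]
    (hp11 : 11 ≤ p) {x : G} (hx : orderOf x = p) {a b : G} (ha : Commute a x) (hb : Commute b x) :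
    Commute a b := by
  set C := Subgroup.centralizer ({x} : Set G) with hC
  obtain ⟨q, hq⟩ : ∃ q, (x : Equiv.Perm GolayPt) q ≠ q := by
    by_contra h
    push Not at h
    have : x = 1 := Subtype.ext (Equiv.ext h)
    rw [this, orderOf_one] at hx
    omega
  have hinj : Function.Injective fun c : C => ((c : G) : Equiv.Perm GolayPt) q := by
    intro c d e
    simp only at e
    set u := (c⁻¹ * d : C) with hu
    have huq : ((u : G) : Equiv.Perm GolayPt) q = q := by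
      simp only [hu, Subgroup.coe_mul, Subgroup.coe_inv, Equiv.Perm.mul_apply, ← e, Equiv.Perm.coe_inv,
        Equiv.symm_apply_apply]
    have hcom : Commute ((u : G) : Equiv.Perm GolayPt) (x : Equiv.Perm GolayPt) := by
      have h := Subgroup.mem_centralizer_singleton_iff.1 u.2
      exact congrArg Subtype.val h
    have hfix : ∀ k : ℕ, ((u : G) : Equiv.Perm GolayPt) (((x : Equiv.Perm GolayPt) ^ k) q) =
        ((x : Equiv.Perm GolayPt) ^ k) q := by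
      intro k
      have h := congrArg (fun f : Equiv.Perm GolayPt => f q) (hcom.pow_right k).eq
      simp only [Equiv.Perm.mul_apply] at h
      rw [h, huq]
    have h9 : 9 ≤ (fixPts ((u : G) : Equiv.Perm GolayPt)).card := by
      have hsub : (Finset.range p).image (fun k => ((x : Equiv.Perm GolayPt) ^ k) q) ⊆
          fixPts ((u : G) : Equiv.Perm GolayPt) := by
        intro y hy
        obtain ⟨k, -, rfl⟩ := Finset.mem_image.1 hy
        exact mem_fixPts.2 (hfix k)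
      refine le_trans ?_ (Finset.card_le_card hsub)
      rw [Finset.card_image_of_injOn, Finset.card_range]
      · omega
      · intro i hi j hj e'
        simp only [Finset.coe_range, Set.mem_Iio] at hi hj
        simp only at e'
        have hper : MulAction.period (x : Equiv.Perm GolayPt) q = p := by
          have hd : MulAction.period (x : Equiv.Perm GolayPt) q ∣ p := by
            rw [← hx]
            exact (MulAction.period_dvd_orderOf (x : Equiv.Perm GolayPt) q).trans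
              (Subgroup.orderOf_coe x).dvd
          rcases (Nat.dvd_prime hp.out).1 hd with h1 | h1
          · rw [MulAction.period_eq_one_iff] at h1; exact absurd h1 hq
          · exact h1
        have key : ∀ i j : ℕ, i ≤ j → j < p → ((x : Equiv.Perm GolayPt) ^ i) q = ((x : Equiv.Perm GolayPt) ^ j) q → i = j := by
          intro i j hij hjp e''
          have hd : ((x : Equiv.Perm GolayPt) ^ (j - i)) • q = q := by
            rw [Equiv.Perm.smul_def]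
            apply ((x : Equiv.Perm GolayPt) ^ i).injective
            rw [← Equiv.Perm.mul_apply, ← pow_add, Nat.add_sub_cancel' hij, e'']
          rw [MulAction.pow_smul_eq_iff_period_dvd, hper] at hd
          have := Nat.eq_zero_of_dvd_of_lt hd (by omega)
          omega
        rcases le_total i j with hij | hij
        · exact key i j hij hj e'
        · exact (key j i hij hi e'.symm).symm
    have h1 := eq_one_of_fix (hG (u : G).2) h9
    have h1' : u = 1 := Subtype.ext (Subtype.ext h1)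
    rw [hu, inv_mul_eq_one] at h1'
    exact h1'
  have hcard : Nat.card C ≤ 24 := by
    refine (Nat.card_le_card_of_injective _ hinj).trans ?_
    simp [GolayPt, Nat.card_eq_fintype_card]
  set Z := Subgroup.zpowers (⟨x, Subgroup.mem_centralizer_singleton_iff.2 rfl⟩ : C) with hZ
  have hZc : Z ≤ Subgroup.center C := by
    rw [hZ, Subgroup.zpowers_le, Subgroup.mem_center_iff]
    intro g
    exact Subtype.ext (Subgroup.mem_centralizer_singleton_iff.1 g.2)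
  haveI : Z.Normal := ⟨fun z hz g => by
    rw [(Subgroup.mem_center_iff.1 (hZc hz) g), mul_inv_cancel_right]
    exact hz⟩
  have hZp : Nat.card Z = p := by rw [hZ, Nat.card_zpowers, Subgroup.orderOf_mk, hx]
  have hidx : Z.index * p ≤ 24 := by rw [← hZp, mul_comm, Subgroup.card_mul_index]; exact hcard
  have hi2 : Z.index ≤ 2 := by nlinarith
  haveI : IsCyclic (C ⧸ Z) := by
    have h0 : Z.index ≠ 0 := Subgroup.index_ne_zero_of_finite
    rcases (show Z.index = 1 ∨ Z.index = 2 by omega) with e | e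
    · haveI : Subsingleton (C ⧸ Z) := (Nat.card_eq_one_iff_unique.1 (by rw [← Subgroup.index_eq_card, e])).1
      infer_instance
    · exact isCyclic_of_prime_card (p := 2) (by rw [← Subgroup.index_eq_card, e])
  have hcomm : ∀ u v : C, u * v = v * u := fun u v =>
    commutative_of_cyclic_center_quotient (QuotientGroup.mk' Z) (by rw [QuotientGroup.ker_mk']; exact hZc) u v
  exact congrArg Subtype.val (hcomm ⟨a, Subgroup.mem_centralizer_singleton_iff.2 ha.eq⟩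
    ⟨b, Subgroup.mem_centralizer_singleton_iff.2 hb.eq⟩)

/-- A normal subgroup of a perfect subgroup of `M24` containing a Sylow subgroup of order `p ≥ 11` is everything. -/
theorem eq_top_of_prime_dvd {G : Subgroup (Equiv.Perm GolayPt)} (hG : G ≤ M24) (hperf : commutator G = ⊤)
    {p : ℕ} [hp : Fact p.Prime] (hp11 : 11 ≤ p) (hsq : ¬ p ^ 2 ∣ Nat.card G) (N : Subgroup G) [N.Normal]
    (hd : p ∣ Nat.card N) : N = ⊤ := by
  obtain ⟨P⟩ := (inferInstance : Nonempty (Sylow p N))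
  set P' := (P : Subgroup N).map N.subtype with hP'
  have hPc : Nat.card P' = p := by
    rw [hP', Subgroup.card_map_of_injective N.subtype_injective]
    obtain ⟨n, hn⟩ := IsPGroup.iff_card.1 P.2
    have h1 : p ∣ Nat.card (P : Subgroup N) := P.dvd_card_of_dvd_card hd
    have h2 : Nat.card (P : Subgroup N) ∣ Nat.card G :=
      ((P : Subgroup N).card_subgroup_dvd_card).trans N.card_subgroup_dvd_card
    rw [hn] at h1 h2 ⊢
    rcases n with _ | _ | n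
    · simp only [pow_zero, Nat.dvd_one] at h1; omega
    · rw [pow_one]
    · exact absurd ((pow_dvd_pow p (by omega)).trans h2) hsq
  haveI : IsCyclic P' := isCyclic_of_prime_card hPc
  obtain ⟨x, hxg⟩ := IsCyclic.exists_generator (α := P')
  have hxo : orderOf (x : G) = p := by
    rw [Subgroup.orderOf_coe, orderOf_eq_card_of_forall_mem_zpowers hxg, hPc]
  have hfr : Subgroup.normalizer (P' : Set G) ⊔ N = ⊤ := Sylow.normalizer_sup_eq_top P
  have hnorm : ∀ g ∈ Subgroup.normalizer (P' : Set G), ∃ k : ℤ, g * (x : G) * g⁻¹ = (x : G) ^ k := by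
    intro g hg
    obtain ⟨k, hk⟩ := hxg ⟨g * x * g⁻¹, (Subgroup.mem_normalizer_iff.1 hg (x : G)).1 x.2⟩
    exact ⟨k, (congrArg Subtype.val hk).symm.trans (Subgroup.coe_zpow _ x k) |> fun e => e⟩
  set H := Subgroup.normalizer (P' : Set G) with hH
  have hcl0 : ∀ a ∈ H, ∀ b ∈ H, Commute ((b * a)⁻¹ * (a * b)) (x : G) := by
    intro a ha b hb
    obtain ⟨i, hi⟩ := hnorm a ha
    obtain ⟨j, hj⟩ := hnorm b hb
    have h1 : a * b * (x : G) * (a * b)⁻¹ = (x : G) ^ (i * j) := by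
      rw [show a * b * (x : G) * (a * b)⁻¹ = a * (b * x * b⁻¹) * a⁻¹ from by group, hj, ← conj_zpow, hi, ← zpow_mul]
    have h2 : b * a * (x : G) * (b * a)⁻¹ = (x : G) ^ (i * j) := by
      rw [show b * a * (x : G) * (b * a)⁻¹ = b * (a * x * a⁻¹) * b⁻¹ from by group, hi, ← conj_zpow, hj, ← zpow_mul,
        mul_comm]
    have h3 : a * b * (x : G) = b * a * (x : G) * (b * a)⁻¹ * (a * b) := by
      rw [h2, ← h1, inv_mul_cancel_right]
    show (b * a)⁻¹ * (a * b) * (x : G) = (x : G) * ((b * a)⁻¹ * (a * b))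
    rw [mul_assoc _ (a * b) (x : G), h3]
    simp only [mul_assoc]
    rw [← mul_assoc (b * a)⁻¹, ← mul_assoc ((b * a)⁻¹ * b)]
    simp [mul_assoc]
  have hcl : ∀ a ∈ H, ∀ b ∈ H, Commute ⁅a, b⁆ (x : G) := by
    intro a ha b hb
    have h := hcl0 a⁻¹ (H.inv_mem ha) b⁻¹ (H.inv_mem hb)
    rw [commutatorElement_def]
    convert h using 1
    group
  set f := QuotientGroup.mk' N with hf
  have hsurj : H.map f = ⊤ := by
    have h := congrArg (Subgroup.map f) hfr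
    rw [Subgroup.map_sup, show N.map f = ⊥ from by rw [Subgroup.map_eq_bot_iff, hf, QuotientGroup.ker_mk'],
      sup_bot_eq, Subgroup.map_top_of_surjective f (QuotientGroup.mk'_surjective N)] at h
    exact h
  have htop : ⁅(⊤ : Subgroup (G ⧸ N)), (⊤ : Subgroup (G ⧸ N))⁆ = (⊤ : Subgroup (G ⧸ N)) := by
    rw [← Subgroup.map_top_of_surjective f (QuotientGroup.mk'_surjective N), ← Subgroup.map_commutator,
      ← commutator_def, hperf]
  have hle : ⁅H, H⁆ ≤ Subgroup.centralizer ({(x : G)} : Set G) := Subgroup.commutator_le.2 fun a ha b hb =>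
    Subgroup.mem_centralizer_singleton_iff.2 (hcl a ha b hb)
  have hbot : ⁅⁅H, H⁆, ⁅H, H⁆⁆ = ⊥ := by
    rw [eq_bot_iff, Subgroup.commutator_le]
    intro a ha b hb
    rw [Subgroup.mem_bot, commutatorElement_eq_one_iff_commute]
    exact centralizer_comm hG hp11 hxo (Subgroup.mem_centralizer_singleton_iff.1 (hle ha))
      (Subgroup.mem_centralizer_singleton_iff.1 (hle hb))
  have h1 : (⊤ : Subgroup (G ⧸ N)) = ⊥ := by
    have e : (⁅H, H⁆).map f = (⊤ : Subgroup (G ⧸ N)) := by rw [Subgroup.map_commutator, hsurj, htop]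
    rw [← htop]
    nth_rewrite 1 [← e]
    nth_rewrite 1 [← e]
    rw [← Subgroup.map_commutator, hbot, Subgroup.map_bot]
  refine eq_top_iff.2 fun g _ => ?_
  have h2 : f g ∈ (⊥ : Subgroup (G ⧸ N)) := h1 ▸ Subgroup.mem_top (f g)
  rwa [Subgroup.mem_bot, hf, QuotientGroup.mk'_apply, QuotientGroup.eq_one_iff] at h2

/-- Two-point, one-point and trivial fixers are simple. -/
theorem isSimpleGroup_fixer {A : Finset GolayPt} (hA : A.card ≤ 2) : IsSimpleGroup (fixer A) := by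
  have hperf := fixer_perfect (A := A) (by omega)
  have hcard : Nat.card (fixer A) = [244823040, 10200960, 443520].getD A.card 0 := by
    rw [card_fixer (by omega)]
    have := card_lev
    have hA' : A.card = 0 ∨ A.card = 1 ∨ A.card = 2 := by omega
    rcases hA' with e | e | e <;> rw [e] <;> simp [this]
  have hntriv : Nontrivial (fixer A) := Finite.one_lt_card_iff_nontrivial.1 (by
    rw [hcard]
    have hA' : A.card = 0 ∨ A.card = 1 ∨ A.card = 2 := by omega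
    rcases hA' with e | e | e <;> rw [e] <;> simp)
  refine ⟨fun N hN => ?_⟩
  by_cases hb : N = ⊥
  · exact Or.inl hb
  refine Or.inr ?_
  haveI := hN
  -- the orbit of a point has length `24 - |A|`
  have horb : ∀ B : Finset GolayPt, B.card ≤ 3 → ∀ M : Subgroup (fixer B), M.Normal → M ≠ ⊥ →
      (24 - B.card) ∣ Nat.card M := by
    intro B hB M hM hMb
    haveI := hM
    obtain ⟨q, hq⟩ := exists_notMem (A := B) (by omega)
    letI : MulAction M GolayPt := MulAction.compHom _ ((fixer B).subtype.comp M.subtype)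
    have ho : MulAction.orbit M q = ((Bᶜ : Finset GolayPt) : Set GolayPt) := by
      ext r
      simp only [Finset.coe_compl, Set.mem_compl_iff, Finset.mem_coe]
      constructor
      · rintro ⟨n, rfl⟩
        intro h
        have e := (n : fixer B).2.2 _ h
        exact hq (by
          have e' : ((n : fixer B) : Equiv.Perm GolayPt) q = q := ((n : fixer B) : Equiv.Perm GolayPt).injective e
          change ((n : fixer B) : Equiv.Perm GolayPt) q ∈ B at h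
          rwa [e'] at h)
      · intro hr
        obtain ⟨n, hn, e⟩ := normal_transitive hB hMb hq hr
        exact ⟨⟨n, hn⟩, e⟩
    have h := MulAction.index_stabilizer (G := M) (x := q)
    rw [ho, Set.ncard_coe_finset, Finset.card_compl, show Fintype.card GolayPt = 24 by simp [GolayPt]] at h
    rw [← h]
    exact Subgroup.index_dvd_card _
  have hA' : A.card = 0 ∨ A.card = 1 ∨ A.card = 2 := by omega
  rcases hA' with e | e | e
  · haveI : Fact (Nat.Prime 23) := ⟨by norm_num⟩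
    refine eq_top_of_prime_dvd (fixer_le_M24 A) hperf (p := 23) (by norm_num) (by rw [hcard, e]; norm_num) N ?_
    obtain ⟨q, hq⟩ := exists_notMem (A := A) (by omega)
    set B := insert q A with hB
    have hBc : B.card = 1 := by rw [hB, Finset.card_insert_of_notMem hq, e]
    have hle : fixer B ≤ fixer A := fun g hg => ⟨hg.1, fun a ha => hg.2 a (Finset.mem_insert_of_mem ha)⟩
    set M := N.comap (Subgroup.inclusion hle) with hM
    by_cases hMb : M = ⊥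
    · exfalso
      -- `N` would be regular and all its non-trivial elements conjugate
      have hreg : ∀ n ∈ N, ((n : fixer A) : Equiv.Perm GolayPt) q = q → n = 1 := by
        intro n hn hnq
        have hnB : (n : Equiv.Perm GolayPt) ∈ fixer B := ⟨n.2.1, fun a ha => by
          rcases Finset.mem_insert.1 ha with rfl | ha
          · exact hnq
          · exact n.2.2 a ha⟩
        have hm : (⟨_, hnB⟩ : fixer B) ∈ M := hn
        rw [hMb, Subgroup.mem_bot] at hm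
        exact Subtype.ext (show (n : Equiv.Perm GolayPt) = 1 from congrArg Subtype.val hm)
      have hdvd := horb A (by omega) N hN hb
      rw [e] at hdvd
      have hconj : ∀ m ∈ N, ∀ n ∈ N, m ≠ 1 → n ≠ 1 → orderOf m = orderOf n := by
        intro m hm n hn hm1 hn1
        obtain ⟨g, hg, hgm⟩ := fixer_map (A := B) (by omega)
          (q := (m : Equiv.Perm GolayPt) q) (r := (n : Equiv.Perm GolayPt) q)
          (by
            intro hmem
            rcases Finset.mem_insert.1 hmem with h | h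
            · exact hm1 (hreg m hm h)
            · exact hq (by have h' := m.2.2 _ h; rwa [(m : Equiv.Perm GolayPt).injective h'] at h))
          (by
            intro hmem
            rcases Finset.mem_insert.1 hmem with h | h
            · exact hn1 (hreg n hn h)
            · exact hq (by have h' := n.2.2 _ h; rwa [(n : Equiv.Perm GolayPt).injective h'] at h))
        set g' : fixer A := ⟨g, hle hg⟩ with hg'
        have hc : g' * m * g'⁻¹ ∈ N := hN.conj_mem m hm g'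
        have he : g' * m * g'⁻¹ = n := by
          have hgq : g⁻¹ q = q := by rw [Equiv.Perm.inv_eq_iff_eq]; exact (hg.2 q (Finset.mem_insert_self _ _)).symm
          have hval : ((g' * m * g'⁻¹ : fixer A) : Equiv.Perm GolayPt) q = (n : Equiv.Perm GolayPt) q := by
            show (g * (m : Equiv.Perm GolayPt) * g⁻¹) q = _
            rw [Equiv.Perm.mul_apply, Equiv.Perm.mul_apply, hgq, hgm]
          have h1 := hreg (n⁻¹ * (g' * m * g'⁻¹)) (N.mul_mem (N.inv_mem hn) hc) (by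
            show ((n : Equiv.Perm GolayPt)⁻¹ * ((g' * m * g'⁻¹ : fixer A) : Equiv.Perm GolayPt)) q = q
            rw [Equiv.Perm.mul_apply, hval]
            exact (n : Equiv.Perm GolayPt).symm_apply_apply q)
          rw [inv_mul_eq_one] at h1
          exact h1.symm
        rw [← he, ← MulAut.conj_apply, MulEquiv.orderOf_eq]
      haveI : Fact (Nat.Prime 2) := ⟨by norm_num⟩
      haveI : Fact (Nat.Prime 3) := ⟨by norm_num⟩
      obtain ⟨a, ha⟩ := exists_prime_orderOf_dvd_card' (G := N) 2 (dvd_trans (by norm_num) hdvd)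
      obtain ⟨b, hb'⟩ := exists_prime_orderOf_dvd_card' (G := N) 3 (dvd_trans (by norm_num) hdvd)
      have h := hconj a a.2 b b.2 (fun h => by rw [show a = 1 from Subtype.ext h, orderOf_one] at ha; norm_num at ha)
        (fun h => by rw [show b = 1 from Subtype.ext h, orderOf_one] at hb'; norm_num at hb')
      rw [Subgroup.orderOf_coe, Subgroup.orderOf_coe, ha, hb'] at h
      norm_num at h
    · have h23 := horb B (by omega) M (hN.comap _) hMb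
      rw [hBc] at h23
      refine h23.trans ?_
      rw [← Subgroup.card_map_of_injective (Subgroup.inclusion_injective hle)]
      exact Subgroup.card_dvd_of_le (Subgroup.map_comap_le _ _)
  · haveI : Fact (Nat.Prime 23) := ⟨by norm_num⟩
    refine eq_top_of_prime_dvd (fixer_le_M24 A) hperf (p := 23) (by norm_num) (by rw [hcard, e]; norm_num) N ?_
    simpa [e] using horb A (by omega) N hN hb
  · haveI : Fact (Nat.Prime 11) := ⟨by norm_num⟩
    refine eq_top_of_prime_dvd (fixer_le_M24 A) hperf (p := 11) (by norm_num) (by rw [hcard, e]; norm_num) N ?_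
    have := horb A (by omega) N hN hb
    rw [e] at this
    exact dvd_trans (by norm_num) this

end Cfsg.Lib.Golay.Simp
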