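import Mathlib
import Cfsg.Agent.Lib.Golay.Dodecads
import Cfsg.Agent.Lib.Golay.Simple

/-! The stabiliser of a dodecad and of a point in it: commutator chains certified in the kernel. -/

set_option autoImplicit false

namespace Cfsg.Lib.Golay.Chain

open Cfsg
open scoped Pointwise commutatorElement

/-- A level: base point, generators `(c, a, a⁻¹, b, b⁻¹)`, search certificate. -/
abbrev Level := ℕ × List (List ℕ × List ℕ × List ℕ × List ℕ × List ℕ) × List (List (ℕ × ℕ))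

/-- A step of the search on points. -/
def step (l : List ℕ) (s : ℕ) : ℕ := l.getD (idx (pt s)) 0

theorem pt_step (l : List ℕ) (h : isPermList l = true) (s : ℕ) : pt (step l s) = permOf l • pt s :=
  (permOf_apply h (pt s)).symm

/-- One generator is a commutator of members of the group and fixes the given points. -/
def genOK (inG : List ℕ → Bool) (fixed : List ℕ) (d : List ℕ × List ℕ × List ℕ × List ℕ × List ℕ) : Bool :=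
  inG d.2.1 && inG d.2.2.1 && inG d.2.2.2.1 && inG d.2.2.2.2 &&
    (compL d.2.1 d.2.2.1 == List.range 24) && (compL d.2.2.2.1 d.2.2.2.2 == List.range 24) &&
    isPermList (compL d.2.1 d.2.2.2.1) && isPermList (compL d.2.2.1 d.2.2.2.2) &&
    (compL (compL d.2.1 d.2.2.2.1) (compL d.2.2.1 d.2.2.2.2) == d.1) && isPermList d.1 &&
    fixed.all (fun j => decide (j < 24) && d.1.getD j 0 == j)

/-- The check of a chain. -/
def chainOK (inG : List ℕ → Bool) (target : List ℕ) : List ℕ → List Level → Bool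
  | _, [] => true
  | fixed, (b, gens, cert) :: rest =>
    decide (b < 24) && target.contains b && gens.all (genOK inG fixed) && certOK (gens.map Prod.fst) cert &&
      target.all (fun k => fixed.contains k ||
        ((replay step (gens.map Prod.fst) b [b] cert).map fun s => idx (pt s)).contains k) &&
      chainOK inG target (b :: fixed) rest

theorem comm_mem {G : Subgroup (Equiv.Perm GolayPt)} {inG : List ℕ → Bool}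
    (hG : ∀ l, inG l = true → isPermList l = true ∧ permOf l ∈ G) {fixed : List ℕ}
    {d : List ℕ × List ℕ × List ℕ × List ℕ × List ℕ} (h : genOK inG fixed d = true) :
    permOf d.1 ∈ ⁅G, G⁆ ∧ isPermList d.1 = true ∧ ∀ j ∈ fixed, permOf d.1 (pt j) = pt j := by
  obtain ⟨c, a, a', b, b'⟩ := d
  simp only [genOK, Bool.and_eq_true, beq_iff_eq, List.all_eq_true, decide_eq_true_eq] at h
  obtain ⟨⟨⟨⟨⟨⟨⟨⟨⟨⟨ha, ha'⟩, hb⟩, hb'⟩, eA⟩, eB⟩, hab⟩, hab'⟩, he⟩, hs⟩, hfix⟩ := h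
  have hr : isPermList (List.range 24) = true := by decide
  obtain ⟨pa, ga⟩ := hG a ha
  obtain ⟨pa', -⟩ := hG a' ha'
  obtain ⟨pb, gb⟩ := hG b hb
  obtain ⟨pb', -⟩ := hG b' hb'
  have i1 : permOf a' = (permOf a)⁻¹ :=
    eq_inv_of_mul_eq_one_right (by rw [← permOf_mul pa pa' hr eA, permOf_range])
  have i2 : permOf b' = (permOf b)⁻¹ :=
    eq_inv_of_mul_eq_one_right (by rw [← permOf_mul pb pb' hr eB, permOf_range])
  refine ⟨?_, hs, fun j hj => ?_⟩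
  · show permOf c ∈ _
    rw [permOf_mul hab hab' hs he, permOf_mul pa pb hab rfl, permOf_mul pa' pb' hab' rfl, i1, i2,
      show permOf a * permOf b * ((permOf a)⁻¹ * (permOf b)⁻¹) = ⁅permOf a, permOf b⁆ from by
        rw [commutatorElement_def]; group]
    exact Subgroup.commutator_mem_commutator ga gb
  · show permOf c (pt j) = pt j
    rw [permOf_pt hs (hfix j hj).1, (hfix j hj).2]

/-- The point set of an index list. -/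
def ptSet (L : List ℕ) : Finset GolayPt := (L.map pt).toFinset

theorem chain_trans {G : Subgroup (Equiv.Perm GolayPt)} {inG : List ℕ → Bool}
    (hG : ∀ l, inG l = true → isPermList l = true ∧ permOf l ∈ G) {target : List ℕ}
    (hinv : ∀ g ∈ G, ∀ x ∈ ptSet target, g x ∈ ptSet target) :
    ∀ (levels : List Level) (fixed : List ℕ), chainOK inG target fixed levels = true →
      ∀ xs : List GolayPt, xs.length ≤ levels.length → xs.Nodup →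
        (∀ x ∈ xs, x ∈ ptSet target ∧ x ∉ ptSet fixed) →
        ∃ g ∈ ⁅G, G⁆, (∀ x ∈ ptSet fixed, g x = x) ∧
          ((levels.take xs.length).map fun l => g (pt l.1)) = xs := by
  intro levels
  induction levels with
  | nil =>
    intro fixed _ xs hlen _ _
    have : xs = [] := List.length_eq_zero_iff.1 (Nat.le_zero.1 hlen)
    subst this
    exact ⟨1, Subgroup.one_mem _, fun _ _ => rfl, rfl⟩
  | cons lv rest ih =>
    intro fixed hok xs hlen hnd hmem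
    cases xs with
    | nil => exact ⟨1, Subgroup.one_mem _, fun _ _ => rfl, rfl⟩
    | cons x xs =>
      obtain ⟨b, gens, cert⟩ := lv
      simp only [chainOK, Bool.and_eq_true, decide_eq_true_eq, List.contains_iff_mem, List.all_eq_true,
        Bool.or_eq_true] at hok
      obtain ⟨⟨⟨⟨⟨hb, hbt⟩, hgens⟩, hcert⟩, hcov⟩, hrest⟩ := hok
      obtain ⟨hxT, hxF⟩ := hmem x List.mem_cons_self
      have hidx : ∀ {L : List ℕ} {y}, y ∈ ptSet L → ∃ k ∈ L, pt k = y := by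
        intro L y hy; simpa [ptSet] using hy
      obtain ⟨k, hk, rfl⟩ := hidx hxT
      have hk' := (hcov k hk).resolve_left fun h => hxF (by simp [ptSet]; exact ⟨k, h, rfl⟩)
      obtain ⟨s, hs, hsk⟩ := List.mem_map.1 hk'
      set H := ⁅G, G⁆ ⊓ fixingSubgroup (Equiv.Perm GolayPt) (ptSet fixed : Set GolayPt) with hH
      have hgH : ∀ g ∈ gens.map Prod.fst, permOf g ∈ H := by
        intro g hg
        obtain ⟨d, hd, rfl⟩ := List.mem_map.1 hg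
        obtain ⟨h1, -, h3⟩ := comm_mem hG (hgens d hd)
        refine ⟨h1, (mem_fixingSubgroup_iff _).2 fun y hy => ?_⟩
        obtain ⟨j, hj, rfl⟩ := hidx hy
        exact h3 j hj
      obtain ⟨u, hu, hub⟩ := replay_mem_orbit step pt pt_step H _ hgH b cert hcert s hs
      rw [Equiv.Perm.smul_def, ← pt_idx (pt s), hsk] at hub
      have huf : ∀ y ∈ ptSet fixed, u y = y := fun y hy => (mem_fixingSubgroup_iff _).1 hu.2 y hy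
      have huG : u ∈ G := Subgroup.commutator_le.2
        (fun a ha c hc => G.mul_mem (G.mul_mem (G.mul_mem ha hc) (G.inv_mem ha)) (G.inv_mem hc)) hu.1
      obtain ⟨hxnd, hxsnd⟩ := List.nodup_cons.1 hnd
      obtain ⟨w, hw, hwf, hwe⟩ := ih (b :: fixed) hrest (xs.map ⇑u⁻¹) (by simpa using hlen)
        (hxsnd.map u⁻¹.injective) (by
          intro y hy
          obtain ⟨z, hz, rfl⟩ := List.mem_map.1 hy
          obtain ⟨hzT, hzF⟩ := hmem z (List.mem_cons_of_mem _ hz)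
          refine ⟨hinv _ (G.inv_mem huG) z hzT, fun h => ?_⟩
          simp only [ptSet, List.map_cons, List.toFinset_cons, Finset.mem_insert] at h
          rcases h with h | h
          · rw [Equiv.Perm.inv_eq_iff_eq, hub] at h
            exact hxnd (h ▸ hz)
          · apply hzF
            have h2 := huf _ h
            rw [Equiv.Perm.coe_inv, Equiv.apply_symm_apply] at h2
            exact h2 ▸ h)
      refine ⟨u * w, Subgroup.mul_mem _ hu.1 hw, fun y hy => ?_, ?_⟩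
      · rw [Equiv.Perm.mul_apply, hwf y (by
          simp only [ptSet, List.map_cons, List.toFinset_cons, Finset.mem_insert]; exact Or.inr hy), huf y hy]
      · simp only [List.length_cons, List.take_succ_cons, List.map_cons, Equiv.Perm.mul_apply]
        rw [hwf (pt b) (by simp [ptSet]), hub]
        congr 1
        have h2 := congrArg (List.map ⇑u) hwe
        simp only [List.map_map, List.length_map] at h2
        have e : (⇑u ∘ ⇑u⁻¹) = id := by funext y; exact u.apply_symm_apply y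
        rw [e, List.map_id] at h2
        exact h2

/-- The derived group is transitive on tuples. -/
theorem exists_map {G : Subgroup (Equiv.Perm GolayPt)} {inG : List ℕ → Bool}
    (hG : ∀ l, inG l = true → isPermList l = true ∧ permOf l ∈ G) {target : List ℕ}
    (hinv : ∀ g ∈ G, ∀ x ∈ ptSet target, g x ∈ ptSet target) {levels : List Level}
    (hok : chainOK inG target [] levels = true) {k : ℕ} (hk : levels.length = k)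
    (x y : Fin k ↪ GolayPt) (hx : ∀ i, x i ∈ ptSet target) (hy : ∀ i, y i ∈ ptSet target) :
    ∃ g ∈ ⁅G, G⁆, ∀ i, g (x i) = y i := by
  have key : ∀ z : Fin k ↪ GolayPt, (∀ i, z i ∈ ptSet target) →
      ∃ g ∈ ⁅G, G⁆, levels.map (fun l => g (pt l.1)) = List.ofFn z := by
    intro z hz
    obtain ⟨g, hg, -, he⟩ := chain_trans hG hinv levels [] hok (List.ofFn z) (by simp [hk])
      (List.nodup_ofFn.2 z.injective) (by
        intro p hp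
        obtain ⟨i, rfl⟩ := (List.mem_ofFn' _ _).1 hp
        exact ⟨hz i, by simp [ptSet]⟩)
    rw [List.take_of_length_le (by rw [List.length_ofFn, hk])] at he
    exact ⟨g, hg, he⟩
  obtain ⟨a, ha, ea⟩ := key x hx
  obtain ⟨b, hb, eb⟩ := key y hy
  refine ⟨b * a⁻¹, Subgroup.mul_mem _ hb (Subgroup.inv_mem _ ha), fun i => ?_⟩
  have e1 := congrArg (fun l => l[(i : ℕ)]?) ea
  have e2 := congrArg (fun l => l[(i : ℕ)]?) eb
  have hi : (i : ℕ) < levels.length := hk ▸ i.2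
  simp only [List.getElem?_map, List.getElem?_eq_getElem hi, Option.map_some, List.getElem?_ofFn, i.2,
    dif_pos, Option.some_inj, Fin.eta] at e1 e2
  rw [← e1, ← e2, Equiv.Perm.mul_apply, Equiv.Perm.coe_inv, Equiv.symm_apply_apply]

/-- A group of the size of the set of tuples is perfect and sharply transitive on them. -/
theorem sharp {G : Subgroup (Equiv.Perm GolayPt)} {inG : List ℕ → Bool}
    (hG : ∀ l, inG l = true → isPermList l = true ∧ permOf l ∈ G) {target : List ℕ}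
    (hinv : ∀ g ∈ G, ∀ x ∈ ptSet target, g x ∈ ptSet target) {levels : List Level}
    (hok : chainOK inG target [] levels = true) {k : ℕ} (hk : levels.length = k)
    (hk' : k ≤ (ptSet target).card) (hcard : Nat.card G = (ptSet target).card.descFactorial k) :
    ⁅G, G⁆ = G ∧ ∀ (x : Fin k ↪ GolayPt), (∀ i, x i ∈ ptSet target) →
      ∀ g ∈ G, ∀ h ∈ G, (∀ i, g (x i) = h (x i)) → g = h := by
  classical
  have hDG : ⁅G, G⁆ ≤ G := Subgroup.commutator_le.2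
    (fun a ha c hc => G.mul_mem (G.mul_mem (G.mul_mem ha hc) (G.inv_mem ha)) (G.inv_mem hc))
  have main : ∀ x : Fin k ↪ GolayPt, (∀ i, x i ∈ ptSet target) →
      Nat.card G ≤ Nat.card (⁅G, G⁆ : Subgroup _) ∧
      ∀ g ∈ G, ∀ h ∈ G, (∀ i, g (x i) = h (x i)) → g = h := by
    intro x hx
    let F : G → (Fin k ↪ ↥(ptSet target)) := fun g =>
      ⟨fun i => ⟨(g : Equiv.Perm GolayPt) (x i), hinv _ g.2 _ (hx i)⟩, fun a b e =>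
        x.injective ((g : Equiv.Perm GolayPt).injective (congrArg Subtype.val e))⟩
    have hsurjD : Function.Surjective (fun g : (⁅G, G⁆ : Subgroup _) => F ⟨g, hDG g.2⟩) := by
      intro y
      obtain ⟨g, hg, he⟩ := exists_map hG hinv hok hk x (y.trans ⟨Subtype.val, Subtype.val_injective⟩) hx
        (fun i => (y i).2)
      exact ⟨⟨g, hg⟩, Function.Embedding.ext fun i => Subtype.ext (he i)⟩
    have hc : Nat.card (Fin k ↪ ↥(ptSet target)) = Nat.card G := by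
      rw [Nat.card_eq_fintype_card (α := (Fin k ↪ ↥(ptSet target))), Fintype.card_embedding_eq, Fintype.card_coe,
        Fintype.card_fin, hcard]
    refine ⟨hc ▸ Nat.card_le_card_of_surjective _ hsurjD, fun g hg h hh e => ?_⟩
    have hbij : Function.Bijective F := (Nat.bijective_iff_surjective_and_card F).2
      ⟨fun y => ⟨_, (hsurjD y).choose_spec⟩, hc.symm⟩
    exact congrArg Subtype.val (hbij.1 (a₁ := ⟨g, hg⟩) (a₂ := ⟨h, hh⟩)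
      (Function.Embedding.ext fun i => Subtype.ext (e i)))
  obtain ⟨x0⟩ : Nonempty (Fin k ↪ ↥(ptSet target)) :=
    Function.Embedding.nonempty_of_card_le (by rw [Fintype.card_fin, Fintype.card_coe]; exact hk')
  refine ⟨?_, fun x hx => (main x hx).2⟩
  exact Subgroup.eq_of_le_of_card_ge hDG (main (x0.trans ⟨Subtype.val, Subtype.val_injective⟩) fun i => (x0 i).2).1

/-- The commutator chain of the dodecad stabiliser. -/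
def twelveData : List Level := [
  (0,
    [([12, 13, 3, 1, 6, 5, 0, 20, 9, 16, 22, 17, 4, 18, 21, 23, 2, 14, 8, 19, 7, 15, 11, 10], [8, 13, 9, 18, 3, 17, 2, 11, 6, 12, 19, 5, 0, 1, 15, 7, 16, 14, 4, 10, 20, 23, 21, 22], [12, 13, 6, 4, 18, 11, 8, 15, 0, 2, 19, 7, 9, 1, 17, 14, 16, 5, 3, 10, 20, 22, 23, 21], [0, 13, 6, 4, 8, 21, 12, 22, 18, 16, 5, 14, 9, 3, 20, 7, 1, 15, 2, 11, 17, 19, 10, 23], [0, 16, 18, 13, 3, 10, 2, 15, 4, 12, 22, 19, 6, 1, 11, 17, 9, 20, 8, 21, 14, 5, 7, 23]),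
     ([13, 16, 18, 0, 1, 23, 2, 14, 9, 12, 5, 7, 8, 3, 11, 17, 4, 20, 6, 21, 15, 22, 19, 10], [1, 4, 3, 16, 8, 7, 2, 14, 13, 9, 23, 20, 12, 0, 11, 10, 18, 15, 6, 19, 5, 21, 17, 22], [13, 0, 6, 2, 1, 20, 18, 5, 4, 9, 15, 14, 12, 8, 7, 17, 3, 22, 16, 19, 11, 21, 23, 10], [4, 12, 3, 1, 9, 5, 13, 11, 8, 6, 21, 20, 18, 0, 17, 23, 16, 15, 2, 14, 10, 7, 22, 19], [13, 3, 18, 2, 0, 5, 9, 21, 8, 4, 20, 7, 1, 6, 19, 17, 16, 14, 12, 23, 11, 10, 22, 15])],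
    [[(0,0),(1,0)], [(0,0),(1,0),(0,1),(1,1)], [(0,0),(1,0),(0,1)], [(1,0),(1,1)]]),
  (1,
    [([0, 9, 1, 8, 6, 19, 2, 15, 3, 13, 21, 7, 18, 4, 22, 5, 12, 14, 16, 20, 11, 10, 17, 23], [13, 4, 12, 0, 18, 15, 2, 5, 1, 9, 23, 20, 3, 16, 17, 21, 8, 7, 6, 19, 14, 10, 11, 22], [3, 8, 6, 12, 1, 7, 18, 17, 16, 9, 21, 22, 2, 0, 20, 5, 13, 14, 4, 19, 11, 15, 23, 10], [1, 12, 3, 9, 8, 17, 16, 20, 4, 6, 5, 10, 0, 13, 14, 11, 18, 22, 2, 21, 23, 19, 15, 7], [12, 0, 18, 2, 8, 10, 9, 23, 4, 3, 11, 15, 1, 13, 14, 22, 6, 5, 16, 21, 7, 19, 17, 20]),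
     ([0, 1, 2, 18, 16, 15, 12, 17, 9, 8, 10, 11, 6, 13, 14, 5, 4, 7, 3, 19, 21, 20, 23, 22], [8, 2, 1, 13, 0, 15, 4, 17, 6, 3, 7, 5, 9, 12, 14, 22, 18, 21, 16, 19, 20, 10, 11, 23], [4, 2, 1, 9, 6, 11, 8, 10, 0, 12, 21, 22, 13, 3, 14, 5, 18, 7, 16, 19, 20, 17, 15, 23], [3, 12, 8, 0, 16, 23, 6, 10, 13, 4, 21, 15, 18, 9, 19, 22, 2, 17, 1, 14, 5, 20, 11, 7], [3, 18, 16, 0, 9, 20, 6, 23, 2, 13, 7, 22, 1, 8, 19, 11, 4, 17, 12, 14, 21, 10, 15, 5])],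
    [[(0,0)], [(0,0),(1,0)], [(0,0),(0,1)], [(0,0),(1,0),(1,1)], [(0,0),(1,0)]]),
  (2,
    [([0, 1, 6, 18, 16, 20, 4, 10, 3, 13, 17, 11, 2, 8, 5, 14, 12, 23, 9, 19, 21, 15, 7, 22], [4, 13, 8, 16, 0, 21, 18, 7, 2, 12, 20, 11, 3, 6, 10, 14, 9, 23, 1, 19, 15, 17, 22, 5], [4, 18, 8, 12, 0, 23, 13, 7, 2, 16, 14, 11, 9, 1, 15, 20, 3, 21, 6, 19, 10, 5, 22, 17], [13, 9, 8, 3, 2, 7, 18, 15, 12, 0, 20, 11, 6, 16, 5, 10, 4, 23, 1, 17, 21, 22, 19, 14], [9, 18, 4, 3, 16, 14, 12, 5, 2, 1, 15, 11, 8, 0, 23, 7, 13, 19, 6, 22, 10, 20, 21, 17]),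
     ([0, 1, 8, 12, 3, 17, 13, 20, 6, 4, 5, 21, 9, 2, 10, 7, 16, 14, 18, 22, 23, 11, 19, 15], [3, 9, 16, 13, 12, 7, 0, 20, 4, 2, 14, 5, 18, 1, 19, 23, 6, 17, 8, 11, 22, 21, 10, 15], [6, 13, 9, 0, 8, 11, 16, 5, 18, 1, 22, 19, 4, 3, 10, 23, 2, 17, 12, 14, 7, 21, 20, 15], [18, 8, 13, 2, 0, 11, 12, 10, 6, 9, 15, 21, 4, 16, 20, 22, 1, 7, 3, 19, 17, 23, 5, 14], [4, 16, 3, 18, 12, 22, 8, 17, 1, 9, 7, 5, 6, 2, 23, 10, 13, 20, 0, 19, 14, 11, 15, 21])],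
    [[(0,0),(1,0)], [(0,0),(1,0),(0,1)], [(0,0),(0,2),(1,2)], [(0,1)]]),
  (3,
    [([0, 1, 2, 3, 6, 14, 12, 22, 13, 4, 11, 7, 9, 16, 5, 21, 18, 23, 8, 20, 15, 19, 10, 17], [2, 9, 18, 16, 8, 5, 1, 22, 3, 13, 20, 15, 0, 4, 14, 19, 6, 7, 12, 21, 10, 23, 11, 17], [12, 6, 0, 8, 13, 5, 16, 17, 4, 1, 20, 22, 18, 9, 14, 11, 3, 23, 2, 15, 10, 19, 7, 21], [13, 4, 9, 0, 1, 23, 16, 15, 12, 18, 14, 17, 3, 6, 7, 11, 2, 19, 8, 20, 5, 22, 21, 10], [3, 4, 16, 12, 1, 20, 13, 14, 18, 2, 23, 15, 8, 0, 10, 7, 6, 11, 9, 17, 19, 22, 21, 5]),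
     ([0, 1, 2, 16, 8, 7, 12, 19, 18, 9, 15, 21, 3, 4, 11, 10, 6, 5, 13, 17, 23, 22, 14, 20], [4, 1, 18, 13, 16, 15, 6, 19, 9, 0, 10, 11, 3, 2, 22, 23, 8, 5, 12, 20, 14, 17, 7, 21], [9, 1, 13, 12, 0, 17, 6, 22, 16, 8, 10, 11, 18, 3, 20, 5, 4, 21, 2, 7, 19, 23, 14, 15], [16, 12, 0, 8, 4, 14, 1, 5, 18, 6, 17, 7, 2, 9, 20, 21, 3, 11, 13, 10, 15, 23, 22, 19], [2, 6, 12, 16, 4, 7, 9, 11, 3, 13, 19, 17, 1, 18, 5, 20, 0, 10, 8, 23, 14, 15, 22, 21])],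
    [[(1,0)], [(0,0),(1,0)], [(0,0),(1,0),(0,1)], [(1,1),(0,2)]]),
  (4,
    [([0, 1, 2, 3, 8, 17, 18, 15, 12, 13, 19, 21, 16, 6, 23, 10, 4, 5, 9, 7, 11, 22, 20, 14], [0, 6, 16, 3, 4, 10, 18, 21, 8, 13, 5, 22, 1, 2, 19, 17, 9, 11, 12, 14, 23, 20, 15, 7], [0, 12, 13, 3, 4, 10, 1, 23, 8, 16, 5, 17, 18, 9, 19, 22, 2, 15, 6, 14, 21, 7, 11, 20], [0, 4, 12, 6, 3, 5, 16, 11, 9, 13, 15, 14, 8, 2, 19, 17, 1, 20, 18, 23, 22, 21, 10, 7], [0, 16, 13, 4, 1, 5, 3, 23, 12, 8, 22, 7, 2, 9, 11, 10, 6, 15, 18, 14, 17, 21, 20, 19]),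
     ([0, 1, 2, 3, 18, 23, 16, 20, 6, 8, 21, 15, 13, 4, 17, 22, 9, 14, 12, 11, 10, 7, 19, 5], [9, 0, 18, 2, 12, 11, 13, 15, 1, 6, 17, 23, 3, 8, 10, 19, 4, 21, 16, 5, 22, 20, 14, 7], [1, 8, 3, 12, 16, 19, 9, 23, 13, 0, 14, 5, 4, 6, 22, 7, 18, 10, 2, 15, 21, 17, 20, 11], [13, 16, 6, 18, 2, 17, 8, 20, 0, 9, 5, 10, 4, 1, 11, 15, 3, 19, 12, 22, 21, 23, 7, 14], [8, 13, 4, 16, 12, 10, 2, 22, 6, 9, 11, 14, 18, 0, 23, 15, 1, 5, 3, 17, 7, 20, 19, 21])],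
    [[(0,0),(1,0)], [(0,0),(1,0),(0,1)], [(0,0),(1,0)]])]

/-- The commutator chain of the stabiliser of a dodecad and a point. -/
def elevenData : List Level := [
  (1,
    [([0, 9, 16, 12, 18, 17, 3, 11, 1, 4, 5, 19, 6, 8, 7, 14, 2, 10, 13, 21, 23, 15, 22, 20], [0, 3, 9, 4, 8, 17, 18, 21, 13, 6, 23, 10, 2, 12, 11, 15, 1, 7, 16, 14, 19, 22, 20, 5], [0, 16, 12, 1, 3, 23, 9, 17, 4, 2, 11, 14, 13, 8, 19, 15, 18, 5, 6, 20, 22, 7, 21, 10], [0, 2, 9, 1, 6, 10, 16, 11, 4, 12, 22, 21, 3, 13, 15, 5, 18, 20, 8, 19, 7, 17, 14, 23], [0, 3, 1, 12, 8, 15, 4, 20, 18, 2, 5, 7, 9, 13, 22, 14, 6, 21, 16, 19, 17, 11, 10, 23]),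
     ([0, 18, 8, 9, 16, 5, 6, 22, 4, 1, 20, 15, 2, 3, 23, 7, 12, 17, 13, 14, 19, 11, 21, 10], [0, 2, 9, 3, 12, 14, 13, 15, 4, 16, 17, 5, 18, 6, 20, 23, 8, 7, 1, 21, 11, 22, 10, 19], [0, 18, 1, 3, 8, 11, 13, 17, 16, 2, 22, 20, 4, 6, 5, 7, 9, 10, 12, 23, 14, 19, 21, 15], [0, 13, 6, 8, 16, 15, 12, 11, 4, 18, 21, 17, 2, 1, 14, 5, 9, 7, 3, 22, 10, 23, 20, 19], [0, 13, 12, 18, 8, 15, 2, 17, 3, 16, 20, 7, 6, 1, 14, 5, 4, 11, 9, 23, 22, 10, 19, 21])],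
    [[(0,0),(1,0)], [(0,0),(0,1)], [(1,0),(0,1),(1,1)], [(0,0),(1,0)], [(0,1)]]),
  (2,
    [([0, 1, 12, 3, 2, 21, 13, 7, 6, 16, 10, 17, 4, 8, 15, 19, 18, 22, 9, 14, 5, 20, 11, 23], [0, 6, 18, 9, 2, 7, 4, 14, 12, 3, 23, 20, 13, 1, 22, 11, 16, 19, 8, 5, 21, 15, 10, 17], [0, 13, 4, 9, 6, 19, 1, 5, 18, 3, 22, 15, 8, 12, 7, 21, 16, 23, 2, 17, 11, 20, 14, 10], [0, 13, 2, 12, 8, 21, 1, 14, 9, 6, 22, 5, 3, 18, 17, 20, 4, 23, 16, 11, 7, 19, 15, 10], [0, 6, 2, 12, 16, 11, 9, 20, 4, 8, 23, 19, 3, 1, 7, 22, 18, 14, 13, 21, 15, 5, 10, 17]),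
     ([0, 1, 6, 12, 16, 21, 9, 7, 13, 4, 22, 23, 8, 18, 20, 15, 2, 11, 3, 5, 19, 14, 17, 10], [0, 12, 8, 1, 4, 15, 16, 19, 2, 6, 21, 22, 13, 9, 17, 23, 18, 10, 3, 11, 5, 20, 7, 14], [0, 3, 8, 18, 4, 20, 9, 22, 2, 13, 17, 19, 1, 12, 23, 5, 6, 14, 16, 7, 21, 10, 11, 15], [0, 12, 1, 2, 18, 22, 6, 11, 3, 13, 23, 5, 8, 16, 19, 7, 4, 17, 9, 10, 14, 21, 15, 20], [0, 2, 3, 8, 16, 11, 6, 15, 12, 18, 19, 7, 1, 9, 20, 22, 13, 17, 4, 14, 23, 21, 5, 10])],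
    [[(0,0),(1,0)], [(0,0),(1,0),(0,1),(1,1)], [(1,0),(1,2)], [(1,1)]]),
  (3,
    [([0, 1, 2, 18, 13, 22, 9, 20, 8, 4, 21, 19, 3, 6, 7, 11, 12, 14, 16, 23, 17, 10, 5, 15], [0, 18, 12, 2, 8, 20, 16, 23, 3, 13, 11, 19, 1, 4, 10, 15, 9, 5, 6, 17, 21, 22, 7, 14], [0, 12, 3, 8, 13, 17, 18, 22, 4, 16, 14, 10, 2, 9, 23, 15, 6, 19, 1, 11, 5, 20, 21, 7], [0, 12, 4, 9, 18, 15, 3, 14, 13, 16, 7, 19, 8, 6, 5, 11, 2, 10, 1, 20, 23, 17, 22, 21], [0, 18, 16, 6, 2, 14, 13, 10, 12, 3, 17, 15, 1, 8, 7, 5, 9, 21, 4, 11, 19, 23, 22, 20]),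
     ([0, 1, 2, 12, 6, 17, 9, 15, 3, 16, 5, 21, 13, 8, 22, 7, 4, 19, 18, 10, 11, 23, 14, 20], [0, 4, 2, 12, 3, 19, 9, 10, 8, 13, 7, 20, 1, 18, 23, 5, 16, 15, 6, 17, 21, 22, 11, 14], [0, 12, 2, 4, 1, 15, 18, 10, 8, 6, 7, 22, 3, 9, 23, 17, 16, 19, 13, 5, 11, 20, 21, 14], [0, 8, 2, 18, 13, 17, 12, 15, 3, 1, 10, 23, 4, 16, 14, 5, 6, 19, 9, 7, 22, 20, 11, 21], [0, 9, 2, 8, 12, 15, 16, 19, 1, 18, 10, 22, 6, 4, 14, 7, 13, 5, 3, 17, 21, 23, 20, 11])],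
    [[(0,0),(1,0)], [(0,0),(1,1)], [(1,0),(0,1),(1,1)], [(0,1)]]),
  (4,
    [([0, 1, 2, 3, 9, 14, 4, 11, 18, 12, 22, 10, 6, 8, 5, 20, 13, 23, 16, 21, 19, 15, 7, 17], [0, 16, 13, 2, 9, 15, 6, 5, 1, 8, 10, 11, 3, 18, 20, 22, 4, 14, 12, 23, 19, 7, 21, 17], [0, 8, 3, 12, 16, 7, 6, 21, 9, 4, 10, 11, 18, 2, 17, 5, 1, 23, 13, 20, 14, 22, 15, 19], [0, 2, 13, 9, 6, 15, 4, 14, 3, 12, 23, 20, 18, 8, 19, 10, 16, 22, 1, 5, 17, 7, 11, 21], [0, 18, 1, 8, 6, 19, 4, 21, 13, 3, 15, 22, 9, 2, 7, 5, 16, 20, 12, 14, 11, 23, 17, 10]),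
     ([0, 1, 2, 3, 16, 17, 13, 19, 4, 18, 15, 20, 8, 9, 23, 7, 12, 5, 6, 10, 22, 11, 21, 14], [0, 2, 9, 3, 4, 7, 1, 23, 18, 6, 21, 22, 8, 13, 19, 17, 12, 14, 16, 15, 5, 10, 11, 20], [0, 6, 1, 3, 4, 20, 9, 5, 12, 2, 21, 22, 16, 13, 17, 19, 18, 15, 8, 14, 23, 10, 11, 7], [0, 13, 6, 12, 16, 19, 2, 10, 8, 1, 14, 5, 4, 3, 11, 17, 18, 23, 9, 20, 21, 7, 15, 22], [0, 9, 6, 13, 12, 11, 2, 21, 8, 18, 7, 14, 3, 1, 10, 22, 4, 15, 16, 5, 19, 20, 23, 17])],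
    [[(0,0),(1,0)], [(0,0),(1,0),(0,1)], [(0,0),(1,0)]])]

/-- The commutator chain on the complementary dodecad. -/
def elevenOutData : List Level := [
  (5,
    [([0, 8, 16, 3, 13, 23, 6, 20, 2, 9, 7, 17, 4, 18, 11, 19, 1, 22, 12, 15, 21, 10, 14, 5], [0, 12, 6, 4, 2, 5, 16, 21, 3, 13, 22, 14, 18, 9, 20, 11, 8, 7, 1, 15, 23, 17, 10, 19], [0, 18, 4, 8, 3, 5, 2, 17, 16, 13, 22, 15, 1, 9, 11, 19, 6, 21, 12, 23, 14, 7, 10, 20], [0, 16, 8, 9, 4, 19, 3, 11, 13, 6, 10, 14, 1, 2, 7, 15, 12, 21, 18, 23, 20, 22, 17, 5], [0, 12, 13, 6, 4, 23, 9, 14, 2, 3, 10, 7, 16, 8, 11, 15, 1, 22, 18, 5, 20, 17, 21, 19]),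
     ([0, 6, 18, 8, 16, 11, 13, 19, 3, 12, 23, 20, 4, 1, 22, 7, 2, 14, 9, 5, 15, 21, 17, 10], [0, 4, 8, 13, 18, 23, 3, 10, 1, 16, 15, 20, 2, 9, 17, 21, 12, 11, 6, 19, 22, 5, 7, 14], [0, 8, 12, 6, 1, 21, 18, 22, 2, 13, 7, 17, 16, 3, 23, 10, 9, 14, 4, 19, 11, 15, 20, 5], [0, 8, 3, 12, 13, 19, 1, 14, 6, 9, 22, 5, 2, 16, 23, 15, 4, 17, 18, 11, 10, 21, 20, 7], [0, 6, 12, 2, 16, 11, 8, 23, 1, 9, 20, 19, 3, 4, 7, 15, 13, 17, 18, 5, 22, 21, 10, 14])],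
    [[(0,0),(1,0)], [(1,0),(0,1),(1,1)], [(0,0),(0,1),(1,1),(0,2),(1,2)], [(1,0)]]),
  (7,
    [([0, 2, 16, 6, 8, 5, 3, 21, 1, 12, 11, 23, 13, 9, 19, 10, 18, 14, 4, 17, 15, 7, 20, 22], [0, 16, 12, 1, 18, 5, 8, 20, 3, 6, 15, 22, 4, 2, 10, 17, 13, 23, 9, 11, 21, 14, 7, 19], [0, 3, 13, 8, 12, 5, 9, 22, 6, 18, 14, 19, 2, 16, 21, 10, 1, 15, 4, 23, 7, 20, 11, 17], [0, 3, 4, 9, 12, 5, 1, 19, 2, 13, 22, 14, 16, 6, 7, 21, 8, 17, 18, 23, 10, 20, 15, 11], [0, 6, 8, 1, 2, 5, 13, 14, 16, 3, 20, 23, 4, 9, 11, 22, 12, 17, 18, 7, 21, 15, 10, 19]),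
     ([0, 8, 13, 2, 4, 5, 16, 10, 3, 6, 15, 11, 18, 1, 20, 14, 12, 23, 9, 22, 7, 17, 21, 19], [0, 1, 2, 9, 4, 10, 16, 5, 13, 12, 19, 21, 18, 6, 23, 17, 8, 15, 3, 7, 22, 11, 14, 20], [0, 1, 2, 18, 4, 7, 13, 19, 16, 3, 5, 21, 9, 8, 22, 17, 6, 15, 12, 10, 23, 11, 20, 14], [0, 12, 6, 1, 4, 10, 2, 17, 18, 13, 23, 5, 9, 8, 21, 19, 3, 20, 16, 14, 22, 7, 15, 11], [0, 3, 6, 16, 4, 11, 2, 21, 13, 12, 5, 23, 1, 9, 19, 22, 18, 7, 8, 15, 17, 14, 20, 10])],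
    [[(0,0),(1,0)], [(1,0),(0,1),(1,1)], [(0,0),(1,0)], [(0,0),(1,0),(0,1)]]),
  (10,
    [([0, 9, 2, 8, 1, 5, 3, 7, 6, 4, 17, 23, 13, 16, 11, 10, 12, 15, 18, 19, 22, 20, 21, 14], [0, 3, 6, 16, 9, 10, 13, 14, 12, 18, 17, 15, 8, 1, 7, 23, 2, 19, 4, 20, 21, 5, 22, 11], [0, 13, 16, 1, 18, 21, 2, 14, 12, 4, 5, 23, 8, 6, 7, 11, 3, 10, 9, 17, 19, 20, 22, 15], [0, 6, 13, 12, 8, 11, 4, 20, 9, 16, 17, 14, 18, 1, 22, 7, 3, 19, 2, 21, 5, 15, 10, 23], [0, 13, 18, 16, 6, 20, 1, 15, 4, 8, 22, 5, 3, 2, 11, 21, 9, 10, 12, 17, 7, 19, 14, 23]),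
     ([0, 9, 8, 18, 12, 5, 6, 7, 2, 1, 14, 21, 4, 13, 10, 22, 16, 17, 3, 20, 19, 11, 15, 23], [0, 9, 18, 8, 4, 5, 6, 7, 3, 1, 14, 15, 12, 16, 10, 11, 13, 23, 2, 19, 20, 22, 21, 17], [0, 9, 18, 8, 4, 5, 6, 7, 3, 1, 14, 15, 12, 16, 10, 11, 13, 23, 2, 19, 20, 22, 21, 17], [0, 16, 2, 4, 9, 10, 1, 7, 12, 13, 15, 23, 6, 18, 21, 17, 8, 19, 3, 5, 14, 11, 22, 20], [0, 6, 2, 18, 3, 19, 12, 7, 16, 4, 5, 21, 8, 9, 20, 10, 1, 15, 13, 17, 23, 14, 22, 11])],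
    [[(0,0),(1,0)], [(0,0),(0,1)], [(1,0),(0,1),(1,1)], [(0,2)], [(1,0)]])]
end Cfsg.Lib.Golay.Chain
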