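import Mathlib
import Cfsg.Agent.Lib.Golay.Chain

/-! Orders, transitivity and simplicity of the dodecad stabiliser and of its point stabiliser. -/

set_option autoImplicit false

namespace Cfsg.Lib.Golay.Chain

open Cfsg
open scoped Pointwise commutatorElement

/-- The base dodecad as index list. -/
def dodIdx : List ℕ := (List.range 24).filter fun i => baseDod.testBit i

/-- The complementary index list. -/
def outIdx : List ℕ := (List.range 24).filter fun i => !baseDod.testBit i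

/-- The first point of the base dodecad. -/
def dodPt : ℕ := dodIdx.headD 0

/-- The other points of the base dodecad. -/
def restIdx : List ℕ := dodIdx.tail

/-- The stabiliser of the base dodecad. -/
def G12 : Subgroup (Equiv.Perm GolayPt) :=
  M24 ⊓ MulAction.stabilizer (Equiv.Perm GolayPt) (toSet baseDod)

/-- The stabiliser of the base dodecad and its first point. -/
def G11 : Subgroup (Equiv.Perm GolayPt) :=
  G12 ⊓ MulAction.stabilizer (Equiv.Perm GolayPt) (pt dodPt)

/-- Membership test for `G12`. -/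
def inTwelve (l : List ℕ) : Bool := keepsCode l && imgMask l baseDod == baseDod

/-- Membership test for `G11`. -/
def inEleven (l : List ℕ) : Bool := inTwelve l && l.getD dodPt 0 == dodPt

theorem dodPt_lt : dodPt < 24 := by decide +kernel

theorem inTwelve_spec (l : List ℕ) (h : inTwelve l = true) : isPermList l = true ∧ permOf l ∈ G12 := by
  simp only [inTwelve, Bool.and_eq_true, beq_iff_eq] at h
  have hp : isPermList l = true := by simp only [keepsCode, Bool.and_eq_true] at h; exact h.1.1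
  refine ⟨hp, permOf_mem_M24 h.1, ?_⟩
  show permOf l • toSet baseDod = toSet baseDod
  rw [← toSet_imgMask hp, h.2]

theorem inEleven_spec (l : List ℕ) (h : inEleven l = true) : isPermList l = true ∧ permOf l ∈ G11 := by
  simp only [inEleven, Bool.and_eq_true, beq_iff_eq] at h
  obtain ⟨hp, hm⟩ := inTwelve_spec l h.1
  refine ⟨hp, hm, ?_⟩
  show permOf l (pt dodPt) = pt dodPt
  rw [permOf_pt hp dodPt_lt, h.2]

theorem ptSet_dod : ptSet dodIdx = toSet baseDod := by decide +kernel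

theorem ptSet_out : ptSet outIdx = (toSet baseDod)ᶜ := by decide +kernel

theorem ptSet_rest : ptSet restIdx = (toSet baseDod).erase (pt dodPt) := by decide +kernel

theorem dodPt_mem : pt dodPt ∈ toSet baseDod := by decide +kernel

theorem baseDod_mem : toSet baseDod ∈ dodecads :=
  ⟨⟨toWord baseDod, toWord_mem_golayCode (by decide +kernel), support_toWord baseDod⟩,
    by rw [card_toSet]; decide +kernel⟩

theorem apply_mem_of_fix {g : Equiv.Perm GolayPt} {s : Finset GolayPt} (h : g • s = s) {x : GolayPt}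
    (hx : x ∈ s) : g x ∈ s := by
  have h2 := Finset.smul_mem_smul_finset (a := g) hx
  rwa [h] at h2

theorem inv12 : ∀ g ∈ G12, ∀ x ∈ ptSet dodIdx, g x ∈ ptSet dodIdx := by
  intro g hg x hx
  rw [ptSet_dod] at hx ⊢
  exact apply_mem_of_fix hg.2 hx

theorem inv11 : ∀ g ∈ G11, ∀ x ∈ ptSet restIdx, g x ∈ ptSet restIdx := by
  intro g hg x hx
  rw [ptSet_rest, Finset.mem_erase] at hx ⊢
  exact ⟨fun e => hx.1 (g.injective (e.trans hg.2.symm)), apply_mem_of_fix hg.1.2 hx.2⟩

theorem inv11out : ∀ g ∈ G11, ∀ x ∈ ptSet outIdx, g x ∈ ptSet outIdx := by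
  intro g hg x hx
  rw [ptSet_out, Finset.mem_compl] at hx ⊢
  intro h
  have h2 := apply_mem_of_fix (g := g⁻¹) (Subgroup.inv_mem _ hg.1.2) h
  rw [Equiv.Perm.coe_inv, Equiv.symm_apply_apply] at h2
  exact hx h2

theorem chain12 : chainOK inTwelve dodIdx [] twelveData = true := by decide +kernel

theorem chain11 : chainOK inEleven restIdx [] elevenData = true := by decide +kernel

theorem chain11out : chainOK inEleven outIdx [] elevenOutData = true := by decide +kernel

theorem card_G12 : Nat.card G12 = 95040 := by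
  rw [← card_dodecad_stabilizer _ baseDod_mem]
  exact Nat.card_congr
    { toFun := fun g => ⟨⟨(g : Equiv.Perm GolayPt), g.2.1⟩, g.2.2⟩
      invFun := fun g => ⟨((g : M24) : Equiv.Perm GolayPt), (g : M24).2, g.2⟩
      left_inv := fun _ => rfl
      right_inv := fun _ => rfl }

theorem card_baseDod : (toSet baseDod).card = 12 := baseDod_mem.2

theorem trans12 {k : ℕ} (hk : k ≤ 5) (x y : Fin k ↪ GolayPt) (hx : ∀ i, x i ∈ toSet baseDod)
    (hy : ∀ i, y i ∈ toSet baseDod) : ∃ g ∈ G12, ∀ i, g (x i) = y i := by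
  have hok : chainOK inTwelve dodIdx [] (twelveData.take k) = true := by
    interval_cases k <;> decide +kernel
  obtain ⟨g, hg, h⟩ := exists_map inTwelve_spec inv12 hok
    (show (twelveData.take k).length = k by rw [List.length_take, show twelveData.length = 5 from rfl]; omega)
    x y (by rw [ptSet_dod]; exact hx) (by rw [ptSet_dod]; exact hy)
  exact ⟨g, Subgroup.commutator_le.2 (fun a ha c hc =>
    G12.mul_mem (G12.mul_mem (G12.mul_mem ha hc) (G12.inv_mem ha)) (G12.inv_mem hc)) hg, h⟩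

theorem card_G11 : Nat.card G11 = 7920 := by
  have h := card_eq_mul_card_inf_stabilizer G12 (pt dodPt)
  have horb : MulAction.orbit G12 (pt dodPt) = (toSet baseDod : Set GolayPt) := by
    ext q
    constructor
    · rintro ⟨g, rfl⟩; exact apply_mem_of_fix g.2.2 dodPt_mem
    · intro hq
      obtain ⟨g, hg, he⟩ := trans12 (k := 1) (by norm_num) ⟨fun _ => pt dodPt, fun a b _ => Subsingleton.elim a b⟩
        ⟨fun _ => q, fun a b _ => Subsingleton.elim a b⟩ (fun _ => dodPt_mem) (fun _ => hq)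
      exact ⟨⟨g, hg⟩, he 0⟩
  rw [card_G12, horb, Set.ncard_coe_finset, card_baseDod] at h
  have : 95040 = 12 * Nat.card G11 := h
  omega

theorem sharp12 : ⁅G12, G12⁆ = G12 ∧ ∀ (x : Fin 5 ↪ GolayPt), (∀ i, x i ∈ toSet baseDod) →
    ∀ g ∈ G12, ∀ h ∈ G12, (∀ i, g (x i) = h (x i)) → g = h := by
  have h := sharp inTwelve_spec inv12 chain12 (k := 5) rfl (by rw [ptSet_dod, card_baseDod]; norm_num)
    (by rw [card_G12, ptSet_dod, card_baseDod]; rfl)
  rwa [ptSet_dod] at h

theorem card_rest : (ptSet restIdx).card = 11 := by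
  rw [ptSet_rest, Finset.card_erase_of_mem dodPt_mem, card_baseDod]

theorem sharp11 : ⁅G11, G11⁆ = G11 ∧ ∀ (x : Fin 4 ↪ GolayPt), (∀ i, x i ∈ ptSet restIdx) →
    ∀ g ∈ G11, ∀ h ∈ G11, (∀ i, g (x i) = h (x i)) → g = h :=
  sharp inEleven_spec inv11 chain11 (k := 4) rfl (by rw [card_rest]; norm_num)
    (by rw [card_G11, card_rest]; rfl)

theorem trans11out (x y : Fin 3 ↪ GolayPt) (hx : ∀ i, x i ∉ toSet baseDod)
    (hy : ∀ i, y i ∉ toSet baseDod) : ∃ g ∈ G11, ∀ i, g (x i) = y i := by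
  obtain ⟨g, hg, h⟩ := exists_map inEleven_spec inv11out chain11out (k := 3) rfl x y
    (fun i => by rw [ptSet_out, Finset.mem_compl]; exact hx i) (fun i => by rw [ptSet_out, Finset.mem_compl]; exact hy i)
  exact ⟨g, sharp11.1 ▸ hg, h⟩

theorem perfect_top {G : Subgroup (Equiv.Perm GolayPt)} (h : ⁅G, G⁆ = G) : commutator G = ⊤ := by
  rw [eq_top_iff, ← Subgroup.map_le_map_iff_of_injective G.subtype_injective, ← MonoidHom.range_eq_map,
    Subgroup.range_subtype, commutator_def, Subgroup.map_commutator, ← MonoidHom.range_eq_map,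
    Subgroup.range_subtype, h]

/-- A non-trivial normal subgroup of a group doubly transitive and faithful on a set is transitive on it. -/
theorem normal_transitive_set {G : Subgroup (Equiv.Perm GolayPt)} {X : Finset GolayPt}
    (hX : ∀ g ∈ G, ∀ x ∈ X, g x ∈ X)
    (h2 : ∀ a b c d, a ∈ X → b ∈ X → c ∈ X → d ∈ X → a ≠ b → c ≠ d → ∃ g ∈ G, g a = c ∧ g b = d)
    (hf : ∀ g ∈ G, (∀ x ∈ X, g x = x) → g = 1) {N : Subgroup G} [N.Normal] (hN : N ≠ ⊥) {q r : GolayPt}
    (hq : q ∈ X) (hr : r ∈ X) : ∃ n ∈ N, ((n : G) : Equiv.Perm GolayPt) q = r := by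
  by_cases hqr : q = r
  · exact ⟨1, N.one_mem, hqr⟩
  obtain ⟨m, hm, hm1⟩ := N.bot_or_exists_ne_one.resolve_left hN
  obtain ⟨a, haX, ha⟩ : ∃ a ∈ X, (m : Equiv.Perm GolayPt) a ≠ a := by
    by_contra h
    push Not at h
    exact hm1 (Subtype.ext (hf m m.2 h))
  obtain ⟨g, hg, hga, hgb⟩ := h2 a ((m : Equiv.Perm GolayPt) a) q r haX (hX m m.2 a haX) hq hr (Ne.symm ha) hqr
  refine ⟨⟨g, hg⟩ * m * ⟨g, hg⟩⁻¹, Subgroup.Normal.conj_mem inferInstance m hm _, ?_⟩
  show (g * (m : Equiv.Perm GolayPt) * g⁻¹) q = r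
  rw [Equiv.Perm.mul_apply, Equiv.Perm.mul_apply, ← hga, Equiv.Perm.coe_inv, Equiv.symm_apply_apply, hgb]

theorem card_dvd_of_transitive {G : Subgroup (Equiv.Perm GolayPt)} {X : Finset GolayPt}
    (hX : ∀ g ∈ G, ∀ x ∈ X, g x ∈ X) (N : Subgroup G) {q : GolayPt} (hq : q ∈ X)
    (h : ∀ r ∈ X, ∃ n ∈ N, ((n : G) : Equiv.Perm GolayPt) q = r) : X.card ∣ Nat.card N := by
  letI : MulAction N GolayPt := MulAction.compHom _ (G.subtype.comp N.subtype)
  have ho : MulAction.orbit N q = (X : Set GolayPt) := by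
    ext r
    constructor
    · rintro ⟨n, rfl⟩; exact hX _ (n : G).2 _ hq
    · intro hr
      obtain ⟨n, hn, e⟩ := h r hr
      exact ⟨⟨n, hn⟩, e⟩
  have hi := MulAction.index_stabilizer (G := N) (x := q)
  rw [ho, Set.ncard_coe_finset] at hi
  rw [← hi]
  exact Subgroup.index_dvd_card _

theorem faithful12 : ∀ g ∈ G12, (∀ x ∈ toSet baseDod, g x = x) → g = 1 := by
  intro g hg h
  obtain ⟨e⟩ : Nonempty (Fin 5 ↪ ↥(toSet baseDod)) :=
    Function.Embedding.nonempty_of_card_le (by rw [Fintype.card_fin, Fintype.card_coe, card_baseDod]; norm_num)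
  exact sharp12.2 (e.trans ⟨Subtype.val, Subtype.val_injective⟩) (fun i => (e i).2) g hg 1 G12.one_mem
    (fun i => h _ (e i).2)

theorem faithful11 : ∀ g ∈ G11, (∀ x ∈ ptSet restIdx, g x = x) → g = 1 := by
  intro g hg h
  obtain ⟨e⟩ : Nonempty (Fin 4 ↪ ↥(ptSet restIdx)) :=
    Function.Embedding.nonempty_of_card_le (by rw [Fintype.card_fin, Fintype.card_coe, card_rest]; norm_num)
  exact sharp11.2 (e.trans ⟨Subtype.val, Subtype.val_injective⟩) (fun i => (e i).2) g hg 1 G11.one_mem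
    (fun i => h _ (e i).2)

/-- The embedding of a pair. -/
def pairEmb (a b : GolayPt) (h : a ≠ b) : Fin 2 ↪ GolayPt :=
  ⟨![a, b], fun i j e => by
    fin_cases i <;> fin_cases j <;> first | rfl | exact absurd e h | exact absurd e.symm h⟩

theorem two11 : ∀ a b c d, a ∈ ptSet restIdx → b ∈ ptSet restIdx → c ∈ ptSet restIdx → d ∈ ptSet restIdx →
    a ≠ b → c ≠ d → ∃ g ∈ G11, g a = c ∧ g b = d := by
  intro a b c d ha hb hc hd hab hcd
  obtain ⟨g, hg, h⟩ := exists_map inEleven_spec inv11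
    (show chainOK inEleven restIdx [] (elevenData.take 2) = true by decide +kernel) (k := 2) rfl
    (pairEmb a b hab) (pairEmb c d hcd)
    (fun i => by fin_cases i <;> assumption) (fun i => by fin_cases i <;> assumption)
  exact ⟨g, sharp11.1 ▸ hg, h 0, h 1⟩

theorem two12 : ∀ a b c d, a ∈ toSet baseDod → b ∈ toSet baseDod → c ∈ toSet baseDod → d ∈ toSet baseDod →
    a ≠ b → c ≠ d → ∃ g ∈ G12, g a = c ∧ g b = d := by
  intro a b c d ha hb hc hd hab hcd
  obtain ⟨g, hg, h⟩ := trans12 (k := 2) (by norm_num) (pairEmb a b hab) (pairEmb c d hcd)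
    (fun i => by fin_cases i <;> assumption) (fun i => by fin_cases i <;> assumption)
  exact ⟨g, hg, h 0, h 1⟩

theorem isSimpleGroup_G11 : IsSimpleGroup G11 := by
  haveI : Fact (Nat.Prime 11) := ⟨by norm_num⟩
  have : Nontrivial G11 := Finite.one_lt_card_iff_nontrivial.1 (by rw [card_G11]; norm_num)
  refine ⟨fun N hN => ?_⟩
  by_cases hb : N = ⊥
  · exact Or.inl hb
  haveI := hN
  obtain ⟨q, hq⟩ : (ptSet restIdx).Nonempty := Finset.card_pos.1 (by rw [card_rest]; norm_num)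
  have hd := card_dvd_of_transitive inv11 N hq fun r hr => normal_transitive_set inv11 two11 faithful11 hb hq hr
  rw [card_rest] at hd
  exact Or.inr (Simp.eq_top_of_prime_dvd (p := 11) (G := G11) (fun g hg => (Subgroup.mem_inf.1 (Subgroup.mem_inf.1 hg).1).1) (perfect_top sharp11.1) le_rfl
    (by rw [card_G11]; norm_num) N hd)

theorem isSimpleGroup_G12 : IsSimpleGroup G12 := by
  have : Nontrivial G12 := Finite.one_lt_card_iff_nontrivial.1 (by rw [card_G12]; norm_num)
  have hX : ∀ g ∈ G12, ∀ x ∈ toSet baseDod, g x ∈ toSet baseDod := fun g hg x hx => apply_mem_of_fix hg.2 hx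
  refine ⟨fun N hN => ?_⟩
  by_cases hb : N = ⊥
  · exact Or.inl hb
  refine Or.inr ?_
  haveI := hN
  have htr := fun r hr => normal_transitive_set hX two12 faithful12 hb (q := pt dodPt) (r := r) dodPt_mem hr
  have hle : G11 ≤ G12 := fun g hg => (Subgroup.mem_inf.1 hg).1
  set M : Subgroup G11 := N.comap (Subgroup.inclusion hle) with hM
  rcases isSimpleGroup_G11.eq_bot_or_eq_top_of_normal M (hN.comap _) with hMb | hMt
  · exfalso
    have hreg : ∀ n ∈ N, ((n : G12) : Equiv.Perm GolayPt) (pt dodPt) = pt dodPt → n = 1 := by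
      intro n hn hnq
      have hnB : (n : Equiv.Perm GolayPt) ∈ G11 := ⟨n.2, hnq⟩
      have hm : (⟨_, hnB⟩ : G11) ∈ M := hn
      rw [hMb, Subgroup.mem_bot] at hm
      exact Subtype.ext (show (n : Equiv.Perm GolayPt) = 1 from congrArg Subtype.val hm)
    have hdvd := card_dvd_of_transitive hX N dodPt_mem htr
    rw [card_baseDod] at hdvd
    have hconj : ∀ m ∈ N, ∀ n ∈ N, m ≠ 1 → n ≠ 1 → orderOf m = orderOf n := by
      intro m hm n hn hm1 hn1
      obtain ⟨g, hg, hgp, hgm⟩ := two12 (pt dodPt) ((m : Equiv.Perm GolayPt) (pt dodPt)) (pt dodPt)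
        ((n : Equiv.Perm GolayPt) (pt dodPt)) dodPt_mem (hX m m.2 _ dodPt_mem) dodPt_mem (hX n n.2 _ dodPt_mem)
        (fun e => hm1 (hreg m hm e.symm)) (fun e => hn1 (hreg n hn e.symm))
      set g' : G12 := ⟨g, hg⟩ with hg'
      have hc : g' * m * g'⁻¹ ∈ N := hN.conj_mem m hm g'
      have hgq : g⁻¹ (pt dodPt) = pt dodPt := by rw [Equiv.Perm.inv_eq_iff_eq]; exact hgp.symm
      have hval : ((g' * m * g'⁻¹ : G12) : Equiv.Perm GolayPt) (pt dodPt) =
          (n : Equiv.Perm GolayPt) (pt dodPt) := by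
        show (g * (m : Equiv.Perm GolayPt) * g⁻¹) (pt dodPt) = _
        rw [Equiv.Perm.mul_apply, Equiv.Perm.mul_apply, hgq, hgm]
      have h1 := hreg (n⁻¹ * (g' * m * g'⁻¹)) (N.mul_mem (N.inv_mem hn) hc) (by
        show ((n : Equiv.Perm GolayPt)⁻¹ * ((g' * m * g'⁻¹ : G12) : Equiv.Perm GolayPt)) (pt dodPt) = pt dodPt
        rw [Equiv.Perm.mul_apply, hval]
        exact (n : Equiv.Perm GolayPt).symm_apply_apply _)
      rw [inv_mul_eq_one] at h1
      rw [h1, ← MulAut.conj_apply, MulEquiv.orderOf_eq]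
    haveI : Fact (Nat.Prime 2) := ⟨by norm_num⟩
    haveI : Fact (Nat.Prime 3) := ⟨by norm_num⟩
    obtain ⟨a, ha⟩ := exists_prime_orderOf_dvd_card' (G := N) 2 (dvd_trans (by norm_num) hdvd)
    obtain ⟨b, hb'⟩ := exists_prime_orderOf_dvd_card' (G := N) 3 (dvd_trans (by norm_num) hdvd)
    have h := hconj a a.2 b b.2 (fun h => by rw [show a = 1 from Subtype.ext h, orderOf_one] at ha; norm_num at ha)
      (fun h => by rw [show b = 1 from Subtype.ext h, orderOf_one] at hb'; norm_num at hb')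
    rw [Subgroup.orderOf_coe, Subgroup.orderOf_coe, ha, hb'] at h
    norm_num at h
  · rw [eq_top_iff]
    intro g _
    obtain ⟨n, hn, hne⟩ := htr _ (hX g g.2 _ dodPt_mem)
    have hw : ((n : Equiv.Perm GolayPt)⁻¹ * (g : Equiv.Perm GolayPt)) ∈ G11 := by
      refine ⟨G12.mul_mem (G12.inv_mem n.2) g.2, ?_⟩
      show ((n : Equiv.Perm GolayPt)⁻¹ * (g : Equiv.Perm GolayPt)) (pt dodPt) = pt dodPt
      rw [Equiv.Perm.mul_apply, ← hne]
      exact (n : Equiv.Perm GolayPt).symm_apply_apply _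
    have hm : n⁻¹ * g ∈ N := (hMt ▸ Subgroup.mem_top (⟨_, hw⟩ : G11) : (⟨_, hw⟩ : G11) ∈ M)
    rw [← mul_inv_cancel_left n g]
    exact N.mul_mem hn hm

theorem exists_move {d : Finset GolayPt} (hd : d ∈ dodecads) {p : GolayPt} (hp : p ∈ d) :
    ∃ τ ∈ M24, τ • toSet baseDod = d ∧ τ (pt dodPt) = p := by
  obtain ⟨σ, hσ, rfl⟩ := dodecad_transitive baseDod_mem hd
  have hp' : σ⁻¹ p ∈ toSet baseDod := Finset.inv_smul_mem_iff.2 hp
  obtain ⟨g, hg, hge⟩ := trans12 (k := 1) (by norm_num) ⟨fun _ => pt dodPt, fun a b _ => Subsingleton.elim a b⟩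
    ⟨fun _ => σ⁻¹ p, fun a b _ => Subsingleton.elim a b⟩ (fun _ => dodPt_mem) (fun _ => hp')
  refine ⟨σ * g, M24.mul_mem hσ hg.1, by rw [mul_smul, show g • toSet baseDod = toSet baseDod from hg.2], ?_⟩
  have h0 : g (pt dodPt) = σ⁻¹ p := hge 0
  rw [Equiv.Perm.mul_apply, h0]
  exact σ.apply_symm_apply p

theorem mem_G12_conj {τ g : Equiv.Perm GolayPt} (hτ : τ ∈ M24) (hg : g ∈ M24)
    (h : g • τ • toSet baseDod = τ • toSet baseDod) : τ⁻¹ * g * τ ∈ G12 :=
  ⟨M24.mul_mem (M24.mul_mem (M24.inv_mem hτ) hg) hτ, by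
    show (τ⁻¹ * g * τ) • toSet baseDod = toSet baseDod
    rw [mul_smul, mul_smul, h, inv_smul_smul]⟩

theorem conj_mem_stab {τ g : Equiv.Perm GolayPt} (hg : g ∈ G12) :
    (τ * g * τ⁻¹) • τ • toSet baseDod = τ • toSet baseDod := by
  rw [mul_smul, mul_smul, inv_smul_smul, show g • toSet baseDod = toSet baseDod from hg.2]

/-- The stabiliser of any dodecad. -/
noncomputable def equivG12 (τ : Equiv.Perm GolayPt) (hτ : τ ∈ M24) :
    G12 ≃* MulAction.stabilizer M24 (τ • toSet baseDod) where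
  toFun g := ⟨⟨τ * g * τ⁻¹, M24.mul_mem (M24.mul_mem hτ g.2.1) (M24.inv_mem hτ)⟩, conj_mem_stab g.2⟩
  invFun g := ⟨τ⁻¹ * ((g : M24) : Equiv.Perm GolayPt) * τ, mem_G12_conj hτ (g : M24).2 g.2⟩
  left_inv g := Subtype.ext (by simp [mul_assoc])
  right_inv g := Subtype.ext (Subtype.ext (by simp [mul_assoc]))
  map_mul' g h := Subtype.ext (Subtype.ext (by simp [mul_assoc]))

/-- The stabiliser of any dodecad and a point of it. -/
noncomputable def equivG11 (τ : Equiv.Perm GolayPt) (hτ : τ ∈ M24) {p : GolayPt} (hp : τ (pt dodPt) = p) :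
    G11 ≃* ↥(MulAction.stabilizer M24 (τ • toSet baseDod) ⊓ MulAction.stabilizer M24 p) where
  toFun g := ⟨⟨τ * g * τ⁻¹, M24.mul_mem (M24.mul_mem hτ g.2.1.1) (M24.inv_mem hτ)⟩, conj_mem_stab g.2.1, by
    show (τ * (g : Equiv.Perm GolayPt) * τ⁻¹) p = p
    have hfix : (g : Equiv.Perm GolayPt) (pt dodPt) = pt dodPt := g.2.2
    rw [← hp]
    simp [hfix]⟩
  invFun g := ⟨τ⁻¹ * ((g : M24) : Equiv.Perm GolayPt) * τ, mem_G12_conj hτ (g : M24).2 g.2.1, by
    show (τ⁻¹ * ((g : M24) : Equiv.Perm GolayPt) * τ) (pt dodPt) = pt dodPt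
    have hfix : ((g : M24) : Equiv.Perm GolayPt) p = p := g.2.2
    simp [hp, hfix]
    rw [Equiv.symm_apply_eq, hp]⟩
  left_inv g := Subtype.ext (by simp [mul_assoc])
  right_inv g := Subtype.ext (Subtype.ext (by simp [mul_assoc]))
  map_mul' g h := Subtype.ext (Subtype.ext (by simp [mul_assoc]))

end Cfsg.Lib.Golay.Chain
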