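import Mathlib
import Cfsg.Prelude.Def_SporadicCombinatorics
import Cfsg.Agent.Lib.Golay.DodGroups
import Cfsg.Agent.Lib.Golay.Octads
import Cfsg.Agent.Lib.Golay.Count

/-! Hexads and quartets on a dodecad. -/

set_option autoImplicit false
set_option maxRecDepth 100000
set_option linter.constructorNameAsVariable false

namespace Cfsg.Lib.Golay.Quartets

open Cfsg Chain
open scoped Pointwise

/-- The hexads on the base dodecad. -/
def hexL : List ℕ :=
  [343, 591, 797, 858, 4127, 4430, 4441, 4691, 4700, 4875, 4886, 4933, 8285, 8478, 8523, 8731, 8790, 8967, 9036, 9041, 12359, 12378, 12557, 12563, 12628, 12814, 12821, 12873, 13080, 13122, 65627, 65807, 65884, 66078, 66133, 66323, 66374, 66377, 69709, 69718, 69909, 69914, 69955, 70151, 70169, 70218, 70412, 70480, 73751, 73806, 74009, 74053, 74066, 74253, 74307, 74328, 74506, 74516, 77835, 77852, 77905, 78086, 78152, 78354, 78404, 78593, 262238, 262427, 262477, 262679, 262745, 262926, 262979, 262996, 266315, 266325, 266503, 266524,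 266578, 266765, 266778, 266822, 267025, 267080, 270351, 270419, 270613, 270662, 270680, 270876, 270917, 270922, 271113, 271122, 274454, 274457, 274508, 274698, 274753, 274947, 275024, 275204, 327709, 327751, 327958, 328010, 328017, 328203, 328268, 328274, 328453, 328472, 331790, 331795, 331864, 332041, 332100, 332308, 332353, 332546, 335898, 335945, 335956, 336131, 336140, 336390, 336401, 336704, 339973, 340034, 340240, 340488]

/-- The triples in the base dodecad. -/
def tripL : List ℕ :=
  [7, 11, 13, 14, 19, 21, 22, 25, 26, 28, 67, 69, 70, 73, 74, 76, 81, 82, 84, 88, 259, 261, 262, 265, 266, 268, 273, 274, 276, 280, 321, 322, 324, 328, 336, 515, 517, 518, 521, 522, 524, 529, 530, 532, 536, 577, 578, 580, 584, 592, 769, 770, 772, 776, 784, 832, 4099, 4101, 4102, 4105, 4106, 4108, 4113, 4114, 4116, 4120, 4161, 4162, 4164, 4168, 4176, 4353, 4354, 4356, 4360, 4368, 4416, 4609, 4610, 4612, 4616, 4624, 4672, 4864, 8195, 8197, 8198, 8201, 8202, 8204, 8209, 8210, 8212, 8216, 8257,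 8258, 8260, 8264, 8272, 8449, 8450, 8452, 8456, 8464, 8512, 8705, 8706, 8708, 8712, 8720, 8768, 8960, 12289, 12290, 12292, 12296, 12304, 12352, 12544, 12800, 65539, 65541, 65542, 65545, 65546, 65548, 65553, 65554, 65556, 65560, 65601, 65602, 65604, 65608, 65616, 65793, 65794, 65796, 65800, 65808, 65856, 66049, 66050, 66052, 66056, 66064, 66112, 66304, 69633, 69634, 69636, 69640, 69648, 69696, 69888, 70144, 73729, 73730, 73732, 73736, 73744, 73792, 73984, 74240, 77824, 262147, 262149, 262150, 262153, 262154, 262156, 262161, 262162, 262164, 262168, 262209, 262210, 262212, 262216, 262224, 262401, 262402, 262404, 262408, 262416, 262464, 262657, 262658, 262660, 262664, 262672, 262720, 262912, 266241, 266242, 266244, 266248, 266256, 266304, 266496, 266752, 270337, 270338, 270340, 270344, 270352, 270400, 270592, 270848, 274432, 327681, 327682, 327684, 327688, 327696, 327744, 327936, 328192, 331776, 335872]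

/-- The first triple. -/
def tBase : ℕ := 7

/-- The second triple. -/
def uBase : ℕ := 4120

/-- The third and fourth triples. -/
def vBase : List ℕ := [8960, 327744]

theorem hexL_check : (hexL.all fun h => decide (h < 2 ^ 24) && pop h == 6 &&
      octMasks.any fun o => o &&& baseDod == h) = true ∧
    (octMasks.all fun o => !(pop (o &&& baseDod) == 6) || hexL.contains (o &&& baseDod)) = true := by decide +kernel

theorem tripL_check : (tripL.all fun v => decide (v < 2 ^ 24) && pop v == 3 && v &&& baseDod == v) = true ∧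
    tripL.length = 220 ∧ tripL.Nodup := by decide +kernel

theorem base_check : tBase < 2 ^ 24 ∧ uBase < 2 ^ 24 ∧ hexL.contains (tBase ||| uBase) = true ∧
    tBase &&& uBase = 0 ∧ pop tBase = 3 ∧ pop uBase = 3 ∧
    (tripL.filter fun v => (tBase ||| uBase) &&& v == 0 && hexL.contains (tBase ||| v) && hexL.contains (uBase ||| v) &&
      hexL.contains (tBase ||| ((baseDod ^^^ (tBase ||| uBase)) ^^^ v)) &&
      hexL.contains (uBase ||| ((baseDod ^^^ (tBase ||| uBase)) ^^^ v)) &&
      hexL.contains (v ||| ((baseDod ^^^ (tBase ||| uBase)) ^^^ v))) = vBase ∧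
    vBase.length = 2 ∧ vBase.all (fun v => vBase.contains ((baseDod ^^^ (tBase ||| uBase)) ^^^ v)) = true ∧
    (tripL.countP fun v => tBase &&& v == 0 && hexL.contains (tBase ||| v)) = 12 ∧ baseDod < 2 ^ 24 := by
  decide +kernel

theorem toSet_or (a b : ℕ) : toSet (a ||| b) = toSet a ∪ toSet b := by
  ext p; simp [mem_toSet, Nat.testBit_or]

theorem mem_hexL {n : ℕ} (hn : n < 2 ^ 24) : toSet n ∈ hexadsOn (toSet baseDod) ↔ hexL.contains n = true := by
  obtain ⟨h1, h2⟩ := hexL_check
  simp only [List.all_eq_true, Bool.and_eq_true, decide_eq_true_eq, beq_iff_eq, List.any_eq_true,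
    Bool.or_eq_true, Bool.not_eq_true', beq_eq_false_iff_ne] at h1 h2
  rw [List.contains_iff_mem]
  constructor
  · rintro ⟨h6, o, ho, e⟩
    obtain ⟨m, hm, rfl⟩ : ∃ m ∈ octMasks, toSet m = o := ⟨setNat o, (mem_octads_iff o).1 ho, toSet_setNat o⟩
    have hlt : m &&& baseDod < 2 ^ 24 :=
      lt_of_le_of_lt Nat.and_le_right base_check.2.2.2.2.2.2.2.2.2.2
    have e' : m &&& baseDod = n := (toSet_eq_iff hlt hn).1 (by rw [toSet_and]; exact e)
    rcases h2 m hm with h | h
    · rw [← e, ← toSet_and, card_toSet] at h6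
      exact absurd h6 h
    · rw [List.contains_iff_mem] at h
      exact e' ▸ h
  · intro hmem
    obtain ⟨⟨-, hp⟩, o, ho, e⟩ := h1 n hmem
    refine ⟨by rw [card_toSet, hp], toSet o, toSet_mem_octads ho, ?_⟩
    rw [← toSet_and, e]

theorem trip_eq : (tripL.map toSet).toFinset = (toSet baseDod).powersetCard 3 := by
  obtain ⟨h1, hlen, hnd⟩ := tripL_check
  simp only [List.all_eq_true, Bool.and_eq_true, decide_eq_true_eq, beq_iff_eq] at h1
  refine Finset.eq_of_subset_of_card_le (fun x hx => ?_) ?_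
  · simp only [List.mem_toFinset, List.mem_map] at hx
    obtain ⟨v, hv, rfl⟩ := hx
    rw [Finset.mem_powersetCard, card_toSet]
    refine ⟨?_, (h1 v hv).1.2⟩
    rw [← (h1 v hv).2, toSet_and]
    exact Finset.inter_subset_right
  · rw [Finset.card_powersetCard, card_baseDod, List.toFinset_card_of_nodup, List.length_map, hlen]
    · decide
    · exact hnd.map_on fun a ha b hb e => (toSet_eq_iff (h1 a ha).1.1 (h1 b hb).1.1).1 e

theorem exists_trip {v : Finset GolayPt} (hv : v.card = 3) (hsub : v ⊆ toSet baseDod) :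
    ∃ m ∈ tripL, toSet m = v := by
  have h : v ∈ (tripL.map toSet).toFinset := trip_eq ▸ Finset.mem_powersetCard.2 ⟨hsub, hv⟩
  simpa using h

theorem hexad_subset {d h : Finset GolayPt} (hh : h ∈ hexadsOn d) : h ⊆ d := by
  obtain ⟨-, o, -, rfl⟩ := hh
  exact Finset.inter_subset_right

theorem disjoint_of_hexad {d t u : Finset GolayPt} (ht : t.card = 3) (hu : u.card = 3) (h : t ∪ u ∈ hexadsOn d) :
    Disjoint t u := by
  rw [← Finset.card_union_eq_card_add_card, h.1, ht, hu]

/-- The quartet of the base pair. -/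
def qBase : Finset (Finset GolayPt) := ((tBase :: uBase :: vBase).map toSet).toFinset

theorem qBase_check : qBase.card = 4 ∧ (vBase.all fun v => decide (v < 2 ^ 24)) = true ∧
    ((tBase :: uBase :: vBase).all fun a => pop a == 3 && a &&& baseDod == a &&
      (tBase :: uBase :: vBase).all fun b => a == b || hexL.contains (a ||| b)) = true := by decide +kernel

theorem qBase_mem : qBase ∈ quartets (toSet baseDod) := by
  obtain ⟨h4, hv, hall⟩ := qBase_check
  simp only [List.all_eq_true, Bool.and_eq_true, beq_iff_eq, Bool.or_eq_true] at hall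
  have hlt : ∀ a ∈ tBase :: uBase :: vBase, a < 2 ^ 24 := by
    intro a ha
    simp only [List.mem_cons] at ha
    rcases ha with rfl | rfl | ha
    · exact base_check.1
    · exact base_check.2.1
    · exact of_decide_eq_true (List.all_eq_true.1 hv a ha)
  refine ⟨h4, fun t ht => ?_, fun t ht u hu hne => ?_⟩
  · simp only [qBase, List.mem_toFinset, List.mem_map] at ht
    obtain ⟨a, ha, rfl⟩ := ht
    refine ⟨by rw [card_toSet, (hall a ha).1.1], ?_⟩
    rw [← (hall a ha).1.2, toSet_and]
    exact Finset.inter_subset_right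
  · simp only [qBase, List.mem_toFinset, List.mem_map] at ht hu
    obtain ⟨a, ha, rfl⟩ := ht
    obtain ⟨b, hb, rfl⟩ := hu
    rw [← toSet_or, mem_hexL (Nat.or_lt_two_pow (hlt a ha) (hlt b hb))]
    exact ((hall a ha).2 b hb).resolve_left fun e => hne (by rw [e])

theorem unique_base {Q : Finset (Finset GolayPt)} (hQ : Q ∈ quartets (toSet baseDod))
    (ht : toSet tBase ∈ Q) (hu : toSet uBase ∈ Q) : Q = qBase := by
  obtain ⟨c1, c2, -, c3, c4, c5, hfil, hlen, hcl, -, c6⟩ := base_check
  obtain ⟨h4, htri, hhex⟩ := hQ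
  have hne : toSet tBase ≠ toSet uBase := fun e => by
    rw [toSet_eq_iff c1 c2] at e
    rw [e, Nat.and_self] at c3
    rw [c3] at c5
    revert c5; decide
  obtain ⟨v, hv, hvn⟩ := Finset.exists_mem_notMem_of_card_lt_card (t := Q) (s := {toSet tBase, toSet uBase})
    (lt_of_le_of_lt Finset.card_le_two (by omega))
  simp only [Finset.mem_insert, Finset.mem_singleton, not_or] at hvn
  obtain ⟨w, hw, hwn⟩ := Finset.exists_mem_notMem_of_card_lt_card (t := Q) (s := {toSet tBase, toSet uBase, v})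
    (lt_of_le_of_lt Finset.card_le_three (by omega))
  simp only [Finset.mem_insert, Finset.mem_singleton, not_or] at hwn
  obtain ⟨mv, hmv, rfl⟩ := exists_trip (htri v hv).1 (htri v hv).2
  obtain ⟨mw, hmw, rfl⟩ := exists_trip (htri w hw).1 (htri w hw).2
  have htl := fun x hx => List.all_eq_true.1 tripL_check.1 x hx
  simp only [Bool.and_eq_true, decide_eq_true_eq, beq_iff_eq] at htl
  have hd : ∀ a b, toSet a ∈ Q → toSet b ∈ Q → toSet a ≠ toSet b → Disjoint (toSet a) (toSet b) := fun a b ha hb hab =>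
    disjoint_of_hexad (htri _ ha).1 (htri _ hb).1 (hhex _ ha _ hb hab)
  have hand : ∀ a b, a < 2 ^ 24 → toSet a ∈ Q → toSet b ∈ Q → toSet a ≠ toSet b → a &&& b = 0 := fun a b hla ha hb hab => by
    refine (toSet_eq_iff (lt_of_le_of_lt Nat.and_le_left hla) (by norm_num)).1 ?_
    rw [toSet_and, Finset.disjoint_iff_inter_eq_empty.1 (hd a b ha hb hab)]
    ext p; simp [mem_toSet]
  have hcont : ∀ a b, a < 2 ^ 24 → b < 2 ^ 24 → toSet a ∈ Q → toSet b ∈ Q → toSet a ≠ toSet b →
      hexL.contains (a ||| b) = true := fun a b hla hlb ha hb hab => by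
    rw [← mem_hexL (Nat.or_lt_two_pow hla hlb), toSet_or]
    exact hhex _ ha _ hb hab
  have lv := (htl mv hmv).1.1
  have lw := (htl mw hmw).1.1
  -- the last two triples fill the complement
  have hfill : (baseDod ^^^ (tBase ||| uBase)) ^^^ mv = mw := by
    have hun : toSet tBase ∪ toSet uBase ∪ toSet mv ∪ toSet mw = toSet baseDod := by
      refine Finset.eq_of_subset_of_card_le ?_ ?_
      · simp only [Finset.union_subset_iff]
        exact ⟨⟨⟨(htri _ ht).2, (htri _ hu).2⟩, (htri _ hv).2⟩, (htri _ hw).2⟩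
      · rw [Finset.card_union_of_disjoint, Finset.card_union_of_disjoint, Finset.card_union_of_disjoint (hd _ _ ht hu hne),
          card_baseDod, (htri _ ht).1, (htri _ hu).1, (htri _ hv).1, (htri _ hw).1]
        · exact Finset.disjoint_union_left.2 ⟨hd _ _ ht hv (Ne.symm hvn.1), hd _ _ hu hv (Ne.symm hvn.2)⟩
        · simp only [Finset.disjoint_union_left]
          exact ⟨⟨hd _ _ ht hw (Ne.symm hwn.1), hd _ _ hu hw (Ne.symm hwn.2.1)⟩, hd _ _ hv hw (Ne.symm hwn.2.2)⟩
    refine (toSet_eq_iff (Nat.xor_lt_two_pow (Nat.xor_lt_two_pow c6 (Nat.or_lt_two_pow c1 c2)) lv) lw).1 ?_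
    rw [toSet_xor, toSet_xor, toSet_or, ← hun]
    have d1 := Finset.disjoint_left.1 (hd _ _ ht hv (Ne.symm hvn.1))
    have d2 := Finset.disjoint_left.1 (hd _ _ hu hv (Ne.symm hvn.2))
    have d3 := Finset.disjoint_left.1 (hd _ _ ht hw (Ne.symm hwn.1))
    have d4 := Finset.disjoint_left.1 (hd _ _ hu hw (Ne.symm hwn.2.1))
    have d5 := Finset.disjoint_left.1 (hd _ _ hv hw (Ne.symm hwn.2.2))
    ext p
    simp only [Finset.mem_symmDiff, Finset.mem_union]
    by_cases q1 : p ∈ toSet tBase
    · simp [q1, d1 q1, d3 q1]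
    by_cases q2 : p ∈ toSet uBase
    · simp [q1, q2, d2 q2, d4 q2]
    by_cases q3 : p ∈ toSet mv
    · simp [q1, q2, q3, d5 q3]
    simp [q1, q2, q3]
  have hmem : mv ∈ vBase := by
    rw [← hfil]
    refine List.mem_filter.2 ⟨hmv, ?_⟩
    simp only [Bool.and_eq_true, beq_iff_eq, hfill]
    refine ⟨⟨⟨⟨⟨?_, hcont _ _ c1 lv ht hv (Ne.symm hvn.1)⟩, hcont _ _ c2 lv hu hv (Ne.symm hvn.2)⟩,
      hcont _ _ c1 lw ht hw (Ne.symm hwn.1)⟩, hcont _ _ c2 lw hu hw (Ne.symm hwn.2.1)⟩, hcont _ _ lv lw hv hw (Ne.symm hwn.2.2)⟩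
    rw [Nat.and_or_distrib_right, hand _ _ c1 ht hv (Ne.symm hvn.1), hand _ _ c2 hu hv (Ne.symm hvn.2)]
    rfl
  have hmem' : mw ∈ vBase := by
    have := List.all_eq_true.1 hcl mv hmem
    rw [hfill, List.contains_iff_mem] at this
    exact this
  have hsub : qBase ⊆ Q := by
    intro x hx
    simp only [qBase, List.mem_toFinset, List.mem_map, List.mem_cons] at hx
    obtain ⟨a, rfl | rfl | ha, rfl⟩ := hx
    · exact ht
    · exact hu
    · have hnvw : mv ≠ mw := fun e => hwn.2.2 (by rw [e])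
      have : a = mv ∨ a = mw := by
        rcases List.length_eq_two.1 hlen with ⟨p, q, e⟩
        rw [e] at ha hmem hmem'
        simp only [List.mem_cons, List.not_mem_nil, or_false] at ha hmem hmem'
        rcases ha with rfl | rfl <;> rcases hmem with rfl | rfl <;> rcases hmem' with rfl | rfl <;>
          first | exact Or.inl rfl | exact Or.inr rfl | exact absurd rfl hnvw
      rcases this with rfl | rfl
      · exact hv
      · exact hw
  exact (Finset.eq_of_subset_of_card_le hsub (by rw [h4, qBase_check.1])).symm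

theorem hexad_unique {d h h' : Finset GolayPt} (hh : h ∈ hexadsOn d) (hh' : h' ∈ hexadsOn d)
    (h5 : 5 ≤ (h ∩ h').card) : h = h' := by
  obtain ⟨-, o, ho, rfl⟩ := hh
  obtain ⟨-, o', ho', rfl⟩ := hh'
  rw [octad_eq_of_five ho ho' (h5.trans (Finset.card_le_card (Finset.inter_subset_inter Finset.inter_subset_left
    Finset.inter_subset_left)))]

theorem hexadsOn_smul {g : Equiv.Perm GolayPt} (hg : g ∈ M24) {d h : Finset GolayPt} (hh : h ∈ hexadsOn d) :
    g • h ∈ hexadsOn (g • d) := by
  obtain ⟨h6, o, ho, rfl⟩ := hh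
  exact ⟨by rw [Finset.card_smul_finset, h6], g • o, smul_mem_words hg ho, (Finset.smul_finset_inter).symm⟩

theorem quartets_smul {g : Equiv.Perm GolayPt} (hg : g ∈ M24) {d : Finset GolayPt} {Q : Finset (Finset GolayPt)}
    (hQ : Q ∈ quartets d) : g • Q ∈ quartets (g • d) := by
  obtain ⟨h4, h1, h2⟩ := hQ
  refine ⟨by rw [Finset.card_smul_finset, h4], fun t ht => ?_, fun t ht u hu hne => ?_⟩
  · obtain ⟨a, ha, rfl⟩ := Finset.mem_smul_finset.1 ht
    exact ⟨by rw [Finset.card_smul_finset, (h1 a ha).1], Finset.smul_finset_subset_smul_finset (h1 a ha).2⟩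
  · obtain ⟨a, ha, rfl⟩ := Finset.mem_smul_finset.1 ht
    obtain ⟨b, hb, rfl⟩ := Finset.mem_smul_finset.1 hu
    rw [← Finset.smul_finset_union]
    exact hexadsOn_smul hg (h2 a ha b hb fun e => hne (by rw [e]))

/-- A pair of triples of the base dodecad with a hexad union is an image of the base pair. -/
theorem pair_to_base {t u : Finset GolayPt} (ht : t.card = 3) (hu : u.card = 3)
    (hh : t ∪ u ∈ hexadsOn (toSet baseDod)) :
    ∃ g ∈ G12, g • t = toSet tBase ∧ g • u = toSet uBase := by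
  obtain ⟨c1, c2, c0, c3, c4, c5, -⟩ := base_check
  have hb : toSet tBase ∪ toSet uBase ∈ hexadsOn (toSet baseDod) := by
    rw [← toSet_or]; exact (mem_hexL (Nat.or_lt_two_pow c1 c2)).2 c0
  have htb : (toSet tBase).card = 3 := by rw [card_toSet, c4]
  have hub : (toSet uBase).card = 3 := by rw [card_toSet, c5]
  obtain ⟨a, ha, a2⟩ := Finset.exists_subset_card_eq (show 2 ≤ u.card by omega)
  obtain ⟨b, hb', b2⟩ := Finset.exists_subset_card_eq (show 2 ≤ (toSet uBase).card by omega)
  have d1 := disjoint_of_hexad ht hu hh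
  have d2 := disjoint_of_hexad htb hub hb
  obtain ⟨e1⟩ : Nonempty (Fin 3 ≃ t) := ⟨(t.equivFinOfCardEq ht).symm⟩
  obtain ⟨e2⟩ : Nonempty (Fin 2 ≃ a) := ⟨(a.equivFinOfCardEq a2).symm⟩
  obtain ⟨f1⟩ : Nonempty (Fin 3 ≃ toSet tBase) := ⟨((toSet tBase).equivFinOfCardEq htb).symm⟩
  obtain ⟨f2⟩ : Nonempty (Fin 2 ≃ b) := ⟨(b.equivFinOfCardEq b2).symm⟩
  have mk : ∀ {t a : Finset GolayPt}, Disjoint t a → (Fin 3 ≃ t) → (Fin 2 ≃ a) →
      ∃ x : Fin 5 ↪ GolayPt, (∀ i, x i ∈ t ∪ a) ∧ Finset.univ.map x = t ∪ a ∧ (∀ i : Fin 3, x (Fin.castAdd 2 i) ∈ t) ∧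
        ∀ j : Fin 2, x (Fin.natAdd 3 j) ∈ a := by
    intro t a hd e f
    let x : Fin 5 → GolayPt := Fin.append (fun i => (e i : GolayPt)) (fun j => (f j : GolayPt))
    have hinj : Function.Injective x := by
      refine Fin.append_injective_iff.2 ⟨fun _ _ h => e.injective (Subtype.ext h), fun _ _ h => f.injective (Subtype.ext h), ?_⟩
      intro i j h
      exact Finset.disjoint_left.1 hd (e i).2 (h ▸ (f j).2)
    have hm : ∀ i, x i ∈ t ∪ a :=
      Fin.addCases (m := 3) (n := 2) (fun i => by simp [x]) (fun j => by simp [x])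
    refine ⟨⟨x, hinj⟩, hm, Finset.eq_of_subset_of_card_le (fun p hp => ?_) ?_, fun i => by simp [x], fun j => by simp [x]⟩
    · obtain ⟨i, -, rfl⟩ := Finset.mem_map.1 hp
      exact hm i
    · rw [Finset.card_map, Finset.card_union_of_disjoint hd, Finset.card_univ, Fintype.card_fin]
      have : t.card = 3 := by simpa using (Fintype.card_congr e).symm
      have : a.card = 2 := by simpa using (Fintype.card_congr f).symm
      omega
  obtain ⟨x, hx, hxu, hxt, hxa⟩ := mk (Finset.disjoint_of_subset_right ha d1) e1 e2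
  obtain ⟨y, hy, hyu, hyt, hya⟩ := mk (Finset.disjoint_of_subset_right hb' d2) f1 f2
  have hsubd : ∀ {h : Finset GolayPt}, h ∈ hexadsOn (toSet baseDod) → ∀ {p}, p ∈ h → p ∈ toSet baseDod :=
    fun hh' _ hp => hexad_subset hh' hp
  obtain ⟨g, hg, hge⟩ := trans12 (k := 5) le_rfl x y
    (fun i => hsubd hh (Finset.union_subset_union (Finset.Subset.refl t) ha (hx i)))
    (fun i => hsubd hb (Finset.union_subset_union (Finset.Subset.refl _) hb' (hy i)))
  have himgt : g • t = toSet tBase := by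
    refine Finset.eq_of_subset_of_card_le (fun p hp => ?_) (by rw [Finset.card_smul_finset, ht, htb])
    obtain ⟨q, hq, rfl⟩ := Finset.mem_smul_finset.1 hp
    have hqm : q ∈ Finset.univ.map x := hxu.symm ▸ Finset.mem_union_left _ hq
    obtain ⟨i, -, rfl⟩ := Finset.mem_map.1 hqm
    rw [Equiv.Perm.smul_def, hge]
    revert hq hp hqm
    refine Fin.addCases (m := 3) (n := 2) (fun i => ?_) (fun j => ?_) i
    · intros; exact hyt i
    · intros; exact absurd (ha (hxa j)) (Finset.disjoint_left.1 d1 (by assumption))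
  have himga : g • a ⊆ toSet uBase := fun p hp => by
    obtain ⟨q, hq, rfl⟩ := Finset.mem_smul_finset.1 hp
    have hqm : q ∈ Finset.univ.map x := hxu.symm ▸ Finset.mem_union_right _ hq
    obtain ⟨i, -, rfl⟩ := Finset.mem_map.1 hqm
    rw [Equiv.Perm.smul_def, hge]
    revert hq hp hqm
    refine Fin.addCases (m := 3) (n := 2) (fun i => ?_) (fun j => ?_) i
    · intros; exact absurd (ha (by assumption)) (Finset.disjoint_left.1 d1 (hxt i))
    · intros; exact hb' (hya j)
  refine ⟨g, hg, himgt, ?_⟩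
  have hgu : g • (t ∪ u) ∈ hexadsOn (toSet baseDod) := by
    have := hexadsOn_smul hg.1 hh
    rwa [show g • toSet baseDod = toSet baseDod from hg.2] at this
  have heq : g • (t ∪ u) = toSet tBase ∪ toSet uBase := by
    refine hexad_unique hgu hb ?_
    have hsub : g • (t ∪ a) ⊆ g • (t ∪ u) ∩ (toSet tBase ∪ toSet uBase) := by
      refine Finset.subset_inter (Finset.smul_finset_subset_smul_finset (Finset.union_subset_union (Finset.Subset.refl t) ha)) ?_
      rw [Finset.smul_finset_union, himgt]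
      exact Finset.union_subset_union (Finset.Subset.refl _) himga
    refine le_trans ?_ (Finset.card_le_card hsub)
    rw [Finset.card_smul_finset, Finset.card_union_of_disjoint (Finset.disjoint_of_subset_right ha d1), ht, a2]
  rw [Finset.smul_finset_union, himgt] at heq
  refine Finset.eq_of_subset_of_card_le (fun p hp => ?_) (by rw [Finset.card_smul_finset, hu, hub])
  have hm : p ∈ toSet tBase ∪ toSet uBase := heq ▸ Finset.mem_union_right _ hp
  refine (Finset.mem_union.1 hm).resolve_left fun h => ?_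
  rw [← himgt] at h
  obtain ⟨q, hq, rfl⟩ := Finset.mem_smul_finset.1 hp
  exact Finset.disjoint_left.1 d1 ((Finset.smul_mem_smul_finset_iff g).1 h) hq

theorem exists_unique_quartet {t u : Finset GolayPt} (ht : t.card = 3) (hu : u.card = 3)
    (hh : t ∪ u ∈ hexadsOn (toSet baseDod)) :
    ∃! Q, Q ∈ quartets (toSet baseDod) ∧ t ∈ Q ∧ u ∈ Q := by
  obtain ⟨g, hg, e1, e2⟩ := pair_to_base ht hu hh
  have hgd : g • toSet baseDod = toSet baseDod := hg.2
  have hgd' : g⁻¹ • toSet baseDod = toSet baseDod := by rw [inv_smul_eq_iff, hgd]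
  refine ⟨g⁻¹ • qBase, ⟨hgd' ▸ quartets_smul (M24.inv_mem hg.1) qBase_mem, ?_, ?_⟩, ?_⟩
  · rw [Finset.mem_inv_smul_finset_iff, e1]; simp [qBase]
  · rw [Finset.mem_inv_smul_finset_iff, e2]; simp [qBase]
  · rintro Q ⟨hQ, hQt, hQu⟩
    rw [eq_inv_smul_iff]
    exact unique_base (hgd ▸ quartets_smul hg.1 hQ) (e1 ▸ Finset.smul_mem_smul_finset hQt)
      (e2 ▸ Finset.smul_mem_smul_finset hQu)

theorem quartet_trans {Q Q' : Finset (Finset GolayPt)} (hQ : Q ∈ quartets (toSet baseDod))
    (hQ' : Q' ∈ quartets (toSet baseDod)) : ∃ g ∈ G12, g • Q = Q' := by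
  have key : ∀ {Q}, Q ∈ quartets (toSet baseDod) → ∃ g ∈ G12, g • Q = qBase := by
    intro Q hQ
    obtain ⟨t, ht⟩ := Finset.card_pos.1 (show 0 < Q.card by rw [hQ.1]; norm_num)
    obtain ⟨u, hu, hne⟩ := Finset.exists_mem_ne (show 1 < Q.card by rw [hQ.1]; norm_num) t
    obtain ⟨g, hg, e1, e2⟩ := pair_to_base (hQ.2.1 t ht).1 (hQ.2.1 u hu).1 (hQ.2.2 t ht u hu (Ne.symm hne))
    refine ⟨g, hg, unique_base ?_ (e1 ▸ Finset.smul_mem_smul_finset ht) (e2 ▸ Finset.smul_mem_smul_finset hu)⟩
    have := quartets_smul hg.1 hQ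
    rwa [show g • toSet baseDod = toSet baseDod from hg.2] at this
  obtain ⟨g, hg, e⟩ := key hQ
  obtain ⟨k, hk, e'⟩ := key hQ'
  exact ⟨k⁻¹ * g, G12.mul_mem (G12.inv_mem hk) hg, by rw [mul_smul, e, ← e', inv_smul_smul]⟩

theorem partners_base : {u : Finset GolayPt | u.card = 3 ∧ toSet tBase ∪ u ∈ hexadsOn (toSet baseDod)}.ncard = 12 := by
  classical
  obtain ⟨c1, -, -, -, c4, -, -, -, -, hcnt, -⟩ := base_check
  obtain ⟨hall, -, hnd⟩ := tripL_check
  simp only [List.all_eq_true, Bool.and_eq_true, decide_eq_true_eq, beq_iff_eq] at hall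
  have hset : {u : Finset GolayPt | u.card = 3 ∧ toSet tBase ∪ u ∈ hexadsOn (toSet baseDod)} =
      (((tripL.filter fun v => tBase &&& v == 0 && hexL.contains (tBase ||| v)).map toSet).toFinset : Set _) := by
    ext u
    simp only [List.coe_toFinset, Set.mem_ofPred_eq, List.mem_map, List.mem_filter, Bool.and_eq_true, beq_iff_eq]
    constructor
    · rintro ⟨hu, hh⟩
      have hd := disjoint_of_hexad (by rw [card_toSet, c4]) hu hh
      obtain ⟨m, hm, rfl⟩ := exists_trip hu (Finset.union_subset_right (hexad_subset hh))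
      have hlt := (hall m hm).1.1
      refine ⟨m, ⟨hm, ?_, ?_⟩, rfl⟩
      · refine (toSet_eq_iff (lt_of_le_of_lt Nat.and_le_left c1) (by norm_num)).1 ?_
        rw [toSet_and, Finset.disjoint_iff_inter_eq_empty.1 hd]
        ext p; simp [mem_toSet]
      · rwa [← mem_hexL (Nat.or_lt_two_pow c1 hlt), toSet_or]
    · rintro ⟨m, ⟨hm, -, hh⟩, rfl⟩
      refine ⟨by rw [card_toSet, (hall m hm).1.2], ?_⟩
      rw [← toSet_or]; exact (mem_hexL (Nat.or_lt_two_pow c1 (hall m hm).1.1)).2 hh
  rw [hset, Set.ncard_coe_finset, List.toFinset_card_of_nodup, List.length_map, ← List.countP_eq_length_filter, hcnt]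
  exact (hnd.filter _).map_on fun a ha b hb e =>
    (toSet_eq_iff (hall a (List.mem_filter.1 ha).1).1.1 (hall b (List.mem_filter.1 hb).1).1.1).1 e

open scoped Classical in
theorem partners {t : Finset GolayPt} (ht : t ∈ (toSet baseDod).powersetCard 3) :
    ((Finset.univ : Finset GolayPt).powersetCard 3 |>.filter fun u => t ∪ u ∈ hexadsOn (toSet baseDod)).card = 12 := by
  classical
  rw [Finset.mem_powersetCard] at ht
  obtain ⟨e⟩ : Nonempty (Fin 3 ≃ t) := ⟨(t.equivFinOfCardEq ht.2).symm⟩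
  obtain ⟨f⟩ : Nonempty (Fin 3 ≃ toSet tBase) :=
    ⟨((toSet tBase).equivFinOfCardEq (by rw [card_toSet, base_check.2.2.2.2.1])).symm⟩
  have htb : toSet tBase ⊆ toSet baseDod := (qBase_mem.2.1 _ (by simp [qBase])).2
  obtain ⟨g, hg, hge⟩ := trans12 (k := 3) (by norm_num) ⟨fun i => (e i : GolayPt), fun _ _ h => e.injective (Subtype.ext h)⟩
    ⟨fun i => (f i : GolayPt), fun _ _ h => f.injective (Subtype.ext h)⟩ (fun i => ht.1 (e i).2) (fun i => htb (f i).2)
  have himg : g • t = toSet tBase := by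
    refine Finset.eq_of_subset_of_card_le (fun p hp => ?_)
      (by rw [Finset.card_smul_finset, ht.2, card_toSet, base_check.2.2.2.2.1])
    obtain ⟨q, hq, rfl⟩ := Finset.mem_smul_finset.1 hp
    have h := hge (e.symm ⟨q, hq⟩)
    change g ((e (e.symm ⟨q, hq⟩) : t) : GolayPt) = _ at h
    rw [Equiv.apply_symm_apply] at h
    rw [Equiv.Perm.smul_def, h]
    exact (f _).2
  rw [← partners_base, ← Set.ncard_coe_finset]
  refine Set.ncard_congr (fun u _ => g • u) (fun u hu => ?_) (fun a b _ _ e => MulAction.injective g e) fun u hu => ?_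
  · simp only [Finset.mem_coe, Finset.mem_filter, Finset.mem_powersetCard] at hu
    refine ⟨by rw [Finset.card_smul_finset, hu.1.2], ?_⟩
    rw [← himg, ← Finset.smul_finset_union]
    have := hexadsOn_smul hg.1 hu.2
    rwa [show g • toSet baseDod = toSet baseDod from hg.2] at this
  · refine ⟨g⁻¹ • u, ?_, smul_inv_smul g u⟩
    simp only [Finset.mem_coe, Finset.mem_filter, Finset.mem_powersetCard, Finset.subset_univ, true_and]
    refine ⟨by rw [Finset.card_smul_finset, hu.1], ?_⟩
    have := hexadsOn_smul (M24.inv_mem hg.1) hu.2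
    rw [inv_smul_eq_iff.2 (show toSet baseDod = g • toSet baseDod from hg.2.symm), Finset.smul_finset_union, ← himg,
      inv_smul_smul] at this
    exact this

theorem ncard_quartets : (quartets (toSet baseDod)).ncard = 220 := by
  classical
  set q := (quartets (toSet baseDod)).toFinset with hq
  let P := ((toSet baseDod).powersetCard 3).sigma fun t =>
    ((Finset.univ : Finset GolayPt).powersetCard 3).filter fun u => t ∪ u ∈ hexadsOn (toSet baseDod)
  have hP : P.card = 2640 := by
    rw [Finset.card_sigma, Finset.sum_const_nat (m := 12) (fun t ht => partners ht), Finset.card_powersetCard, card_baseDod]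
    decide
  have hbij : (q.sigma fun Q => Q.offDiag).card = P.card := by
    refine Finset.card_bij (fun x _ => ⟨x.2.1, x.2.2⟩) ?_ ?_ ?_
    · intro x hx
      simp only [Finset.mem_sigma, hq, Set.mem_toFinset, Finset.mem_offDiag] at hx
      simp only [P, Finset.mem_sigma, Finset.mem_powersetCard, Finset.mem_filter, Finset.subset_univ, true_and]
      exact ⟨⟨(hx.1.2.1 _ hx.2.1).2, (hx.1.2.1 _ hx.2.1).1⟩, (hx.1.2.1 _ hx.2.2.1).1, hx.1.2.2 _ hx.2.1 _ hx.2.2.1 hx.2.2.2⟩
    · intro x hx y hy e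
      simp only [Finset.mem_sigma, hq, Set.mem_toFinset, Finset.mem_offDiag] at hx hy
      simp only [Sigma.mk.injEq, heq_eq_eq] at e
      obtain ⟨Q, a, b⟩ := x
      obtain ⟨Q', a', b'⟩ := y
      obtain ⟨rfl, rfl⟩ : a = a' ∧ b = b' := e
      obtain ⟨R, -, huniq⟩ := exists_unique_quartet (hx.1.2.1 _ hx.2.1).1 (hx.1.2.1 _ hx.2.2.1).1
        (hx.1.2.2 _ hx.2.1 _ hx.2.2.1 hx.2.2.2)
      obtain rfl : Q = Q' := (huniq Q ⟨hx.1, hx.2.1, hx.2.2.1⟩).trans (huniq Q' ⟨hy.1, hy.2.1, hy.2.2.1⟩).symm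
      rfl
    · rintro ⟨t, u⟩ h
      simp only [P, Finset.mem_sigma, Finset.mem_powersetCard, Finset.mem_filter, Finset.subset_univ, true_and] at h
      obtain ⟨Q, ⟨hQ, htQ, huQ⟩, -⟩ := exists_unique_quartet h.1.2 h.2.1 h.2.2
      have hne : t ≠ u := by
        rintro rfl
        have := h.2.2.1
        rw [Finset.union_self, h.1.2] at this
        norm_num at this
      exact ⟨⟨Q, t, u⟩, by simp only [Finset.mem_sigma, hq, Set.mem_toFinset, Finset.mem_offDiag]; exact ⟨hQ, htQ, huQ, hne⟩, rfl⟩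
  rw [hP, Finset.card_sigma, Finset.sum_const_nat (m := 12)] at hbij
  · rw [Set.ncard_eq_toFinset_card', ← hq]; omega
  · intro Q hQ
    rw [hq, Set.mem_toFinset] at hQ
    rw [Finset.offDiag_card, hQ.1]

end Cfsg.Lib.Golay.Quartets
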