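import Mathlib
import Cfsg.Agent.Lib.Golay.Quartets

/-! The stabiliser of a hexad on a dodecad is the symmetric group of its six points. -/

set_option autoImplicit false
set_option linter.constructorNameAsVariable false

namespace Cfsg.Lib.Golay.HexadStab

open Cfsg Chain Quartets
open scoped Pointwise

variable {d : Finset GolayPt}

theorem trans_five (hd : d ∈ dodecads) (x y : Fin 5 ↪ GolayPt) (hx : ∀ i, x i ∈ d) (hy : ∀ i, y i ∈ d) :
    ∃ g ∈ M24, g • d = d ∧ ∀ i, g (x i) = y i := by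
  obtain ⟨τ, hτ, rfl⟩ := dodecad_transitive baseDod_mem hd
  obtain ⟨g, hg, hge⟩ := trans12 (k := 5) le_rfl (x.trans τ⁻¹.toEmbedding) (y.trans τ⁻¹.toEmbedding)
    (fun i => Finset.inv_smul_mem_iff.2 (hx i)) (fun i => Finset.inv_smul_mem_iff.2 (hy i))
  refine ⟨τ * g * τ⁻¹, M24.mul_mem (M24.mul_mem hτ hg.1) (M24.inv_mem hτ), conj_mem_stab hg, fun i => ?_⟩
  have h : g (τ⁻¹ (x i)) = τ⁻¹ (y i) := hge i
  rw [Equiv.Perm.mul_apply, Equiv.Perm.mul_apply, h]
  exact τ.apply_symm_apply _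

theorem eq_one_of_fix (hd : d ∈ dodecads) {g : Equiv.Perm GolayPt} (hg : g ∈ M24) (hgd : g • d = d)
    {S : Finset GolayPt} (hS : 5 ≤ S.card) (hsub : S ⊆ d) (hfix : ∀ p ∈ S, g p = p) : g = 1 := by
  obtain ⟨τ, hτ, rfl⟩ := dodecad_transitive baseDod_mem hd
  obtain ⟨e⟩ : Nonempty (Fin 5 ↪ S) := Function.Embedding.nonempty_of_card_le (by simpa using hS)
  have h := sharp12.2 ((e.trans ⟨Subtype.val, Subtype.val_injective⟩).trans τ⁻¹.toEmbedding)
    (fun i => Finset.inv_smul_mem_iff.2 (hsub (e i).2)) _ (mem_G12_conj hτ hg hgd) 1 G12.one_mem (fun i => by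
      show (τ⁻¹ * g * τ) (τ⁻¹ ((e i : S) : GolayPt)) = τ⁻¹ ((e i : S) : GolayPt)
      rw [Equiv.Perm.mul_apply, Equiv.Perm.mul_apply, show τ (τ⁻¹ ((e i : S) : GolayPt)) = _ from τ.apply_symm_apply _,
        hfix _ (e i).2])
  calc g = τ * (τ⁻¹ * g * τ) * τ⁻¹ := by group
    _ = 1 := by rw [h]; group

theorem mem_iff_of_smul {s : Finset GolayPt} {g : Equiv.Perm GolayPt} (h : g • s = s) (x : GolayPt) :
    g x ∈ s ↔ x ∈ s := by
  constructor
  · intro hx
    rw [← h] at hx
    exact (Finset.smul_mem_smul_finset_iff (s := s) g).1 hx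
  · exact fun hx => apply_mem_of_fix h hx

theorem hexad_iso (hd : d ∈ dodecads) {C : Finset GolayPt} (hC : C ∈ hexadsOn d) :
    Nonempty (↥(MulAction.stabilizer M24 d ⊓ MulAction.stabilizer M24 C) ≃* Equiv.Perm (Fin 6)) := by
  classical
  let f : ↥(MulAction.stabilizer M24 d ⊓ MulAction.stabilizer M24 C) →* Equiv.Perm C :=
    { toFun := fun g => g.1.1.subtypePerm (mem_iff_of_smul g.2.2)
      map_one' := by ext; rfl
      map_mul' := fun a b => by ext; rfl }
  have hinj : Function.Injective f := by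
    rw [injective_iff_map_eq_one]
    intro g hg
    refine Subtype.ext (Subtype.ext (eq_one_of_fix hd g.1.2 g.2.1 (S := C) (by rw [hC.1]; norm_num) (hexad_subset hC) fun p hp => ?_))
    exact congrArg Subtype.val (Equiv.ext_iff.1 hg ⟨p, hp⟩)
  have hsurj : Function.Surjective f := by
    intro e
    let c : Fin 6 ≃ C := (C.equivFinOfCardEq hC.1).symm
    let x : Fin 5 ↪ GolayPt := ⟨fun i => (c i.castSucc : GolayPt), fun i j h =>
      Fin.castSucc_injective _ (c.injective (Subtype.ext h))⟩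
    let y : Fin 5 ↪ GolayPt := ⟨fun i => (e (c i.castSucc) : GolayPt), fun i j h =>
      Fin.castSucc_injective _ (c.injective (e.injective (Subtype.ext h)))⟩
    obtain ⟨g, hg, hgd, hge⟩ := trans_five hd x y (fun i => hexad_subset hC (c _).2) (fun i => hexad_subset hC (e _).2)
    have hgC : g • C = C := by
      refine hexad_unique (d := d) ?_ hC ?_
      · have := hexadsOn_smul hg hC
        rwa [hgd] at this
      · have hsub : Finset.univ.map y ⊆ g • C ∩ C := by
          intro p hp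
          obtain ⟨i, -, rfl⟩ := Finset.mem_map.1 hp
          exact Finset.mem_inter.2 ⟨hge i ▸ Finset.smul_mem_smul_finset (a := g) (c i.castSucc).2, (e _).2⟩
        refine le_trans ?_ (Finset.card_le_card hsub)
        simp
    refine ⟨⟨⟨g, hg⟩, hgd, hgC⟩, ?_⟩
    have h5 : ∀ i : Fin 5, f ⟨⟨g, hg⟩, hgd, hgC⟩ (c i.castSucc) = e (c i.castSucc) := fun i => Subtype.ext (hge i)
    refine Equiv.ext fun p => ?_
    obtain ⟨k, rfl⟩ := c.surjective p
    refine Fin.lastCases ?_ (fun i => h5 i) k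
    by_contra hne
    obtain ⟨q, hq⟩ := (f ⟨⟨g, hg⟩, hgd, hgC⟩).surjective (e (c (Fin.last 5)))
    obtain ⟨j, rfl⟩ := c.surjective q
    revert hq
    refine Fin.lastCases ?_ (fun i => ?_) j
    · exact hne
    · intro hq
      rw [h5 i] at hq
      exact absurd (c.injective (e.injective hq)) (Fin.castSucc_lt_last i).ne
  exact ⟨(MulEquiv.ofBijective f ⟨hinj, hsurj⟩).trans (Equiv.permCongrHom (C.equivFinOfCardEq hC.1))⟩

end Cfsg.Lib.Golay.HexadStab
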