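import Mathlib
import Cfsg.Agent.Lib.Golay.Fixer

/-! The elements fixing an octad point by point, and the fixers of six points. -/

set_option autoImplicit false

namespace Cfsg.Lib.Golay.OctKer

open Cfsg
open scoped Pointwise

theorem lev_decomp {i : ℕ} (hi : i < 7) {g : Equiv.Perm GolayPt} (hg : g ∈ lev i) :
    ∃ t ∈ transv i, isPermList (slp t) = true ∧ permOf (slp t) ∈ M24 ∧
      ∃ w ∈ lev (i + 1), g = permOf (slp t) * w := by
  have hc := List.all_eq_true.1 levs_check i (List.mem_range.2 hi)
  simp only [levOK, Bool.and_eq_true, List.all_eq_true, decide_eq_true_eq, Bool.or_eq_true,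
    Bool.not_eq_true'] at hc
  obtain ⟨⟨h1, _⟩, h3⟩ := hc
  have h3' := h3 (idx (g (baseP i))) (List.mem_range.2 (idx_lt _))
  rw [allowed_of_admissible hi (admissible_apply hi hg)] at h3'
  simp only [Bool.true_eq_false, false_or, List.mem_map] at h3'
  obtain ⟨t, ht, hte⟩ := h3'
  obtain ⟨⟨hlt, hfix⟩, _⟩ := h1 t ht
  obtain ⟨hv, hmem⟩ := slp_mem hlt
  have hu : permOf (slp t) ∈ lev i := (mem_lev_iff _ i).2
    ⟨M24_le_setSystemAut (stdGroup_le_M24 hmem), fun j hj => by
      rw [baseP, permOf_pt hv (baseIdx_lt j (by omega)), hfix j hj]⟩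
  refine ⟨t, ht, hv, stdGroup_le_M24 hmem, (permOf (slp t))⁻¹ * g, ?_, (mul_inv_cancel_left _ g).symm⟩
  rw [lev, Subgroup.mem_inf]
  refine ⟨Subgroup.mul_mem _ (Subgroup.inv_mem _ hu) hg, ?_⟩
  rw [MulAction.mem_stabilizer_iff, Equiv.Perm.smul_def, Equiv.Perm.mul_apply, Equiv.Perm.inv_eq_iff_eq]
  rw [baseP, permOf_pt hv (baseIdx_lt i hi), hte, pt_idx]
  rfl

/-- The elements of the fixer of five base points, as lists. -/
def levFive : List (List ℕ) := (transv 5).flatMap fun t => (transv 6).map fun u => compL (slp t) (slp u)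

/-- The indices of the points of the base octad. -/
def octIdx : List ℕ := (List.range 24).filter fun i => baseOctad.testBit i

/-- Those elements that fix the base octad point by point. -/
def kerLists : List (List ℕ) := levFive.filter fun l => octIdx.all fun i => l.getD i 0 == i

theorem ker_check : (levFive.all fun l => isPermList l && keepsCode l) = true ∧ kerLists.length = 16 ∧
    kerLists.Nodup ∧ (kerLists.all fun l => compL l l == List.range 24) = true := by decide +kernel

theorem mem_levFive {g : Equiv.Perm GolayPt} (hg : g ∈ lev 5) : ∃ l ∈ levFive, g = permOf l := by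
  obtain ⟨t, ht, hv, -, w, hw, rfl⟩ := lev_decomp (i := 5) (by norm_num) hg
  obtain ⟨u, hu, hv', -, z, hz, rfl⟩ := lev_decomp (i := 6) (by norm_num) hw
  rw [lev_seven, Subgroup.mem_bot] at hz
  subst hz
  have hm : compL (slp t) (slp u) ∈ levFive := List.mem_flatMap.2 ⟨t, ht, List.mem_map.2 ⟨u, hu, rfl⟩⟩
  refine ⟨_, hm, ?_⟩
  have hp := List.all_eq_true.1 ker_check.1 _ hm
  simp only [Bool.and_eq_true] at hp
  rw [mul_one, permOf_mul hv hv' hp.1 rfl]

theorem permOf_injOn {l l' : List ℕ} (h : isPermList l = true) (h' : isPermList l' = true)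
    (e : permOf l = permOf l') : l = l' := by
  have hlen : ∀ {m : List ℕ}, isPermList m = true → m.length = 24 := by
    intro m hm; simp only [isPermList, Bool.and_eq_true, beq_iff_eq] at hm; exact hm.1.1
  refine List.ext_getElem (by rw [hlen h, hlen h']) fun i h1 h2 => ?_
  have hi : i < 24 := hlen h ▸ h1
  have he := congrArg (fun σ : Equiv.Perm GolayPt => idx (σ (pt i))) e
  simp only [idx_permOf h, idx_permOf h', idx_pt hi] at he
  rwa [List.getD_eq_getElem _ _ h1, List.getD_eq_getElem _ _ h2] at he

theorem fixer_baseO : (fixer baseO : Set (Equiv.Perm GolayPt)) = (kerLists.map permOf).toFinset := by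
  obtain ⟨hall, -, -, -⟩ := ker_check
  ext g
  simp only [List.coe_toFinset, Set.mem_ofPred_eq, List.mem_map, SetLike.mem_coe]
  constructor
  · intro hg
    have h5 : g ∈ lev 5 := (mem_lev_iff _ 5).2
      ⟨M24_le_setSystemAut hg.1, fun j hj => hg.2 _ (baseP_mem_baseO hj)⟩
    obtain ⟨l, hl, rfl⟩ := mem_levFive h5
    refine ⟨l, List.mem_filter.2 ⟨hl, ?_⟩, rfl⟩
    have hp := List.all_eq_true.1 hall l hl
    simp only [Bool.and_eq_true] at hp
    rw [List.all_eq_true]
    intro i hi
    simp only [octIdx, List.mem_filter, List.mem_range] at hi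
    have h := hg.2 (pt i) (by rw [baseO, mem_toSet, idx_pt hi.1]; exact hi.2)
    have h' := congrArg idx h
    rw [idx_permOf hp.1, idx_pt hi.1] at h'
    simpa using h'
  · rintro ⟨l, hl, rfl⟩
    obtain ⟨hl, hfix⟩ := List.mem_filter.1 hl
    have hp := List.all_eq_true.1 hall l hl
    simp only [Bool.and_eq_true] at hp
    refine ⟨permOf_mem_M24 hp.2, fun a ha => ?_⟩
    have h := List.all_eq_true.1 hfix (idx a) (by
      simp only [octIdx, List.mem_filter, List.mem_range]
      exact ⟨idx_lt a, by rw [baseO, mem_toSet] at ha; exact ha⟩)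
    rw [beq_iff_eq] at h
    rw [← pt_idx a, permOf_pt hp.1 (idx_lt a), h]

theorem fixer_baseO_spec : Nat.card (fixer baseO) = 16 ∧ ∀ g ∈ fixer baseO, g * g = 1 := by
  obtain ⟨hall, hlen, hnd, hsq⟩ := ker_check
  have hp : ∀ l ∈ kerLists, isPermList l = true := fun l hl => by
    have := List.all_eq_true.1 hall l (List.mem_filter.1 hl).1
    simp only [Bool.and_eq_true] at this
    exact this.1
  constructor
  · rw [← SetLike.coe_sort_coe, Nat.card_coe_set_eq, fixer_baseO, Set.ncard_coe_finset,
      List.toFinset_card_of_nodup ((List.nodup_map_iff_inj_on hnd).2 fun a ha b hb e => permOf_injOn (hp a ha) (hp b hb) e),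
      List.length_map, hlen]
  · intro g hg
    rw [← SetLike.mem_coe, fixer_baseO] at hg
    simp only [List.coe_toFinset, Set.mem_ofPred_eq, List.mem_map] at hg
    obtain ⟨l, hl, rfl⟩ := hg
    have hr : isPermList (List.range 24) = true := by decide
    have he := List.all_eq_true.1 hsq l hl
    rw [beq_iff_eq] at he
    rw [← permOf_mul (hp l hl) (hp l hl) hr he, permOf_range]

/-- The fixer of any octad: order 16, exponent 2. -/
theorem fixer_octad {o : Finset GolayPt} (ho : o ∈ octads) :
    Nat.card (fixer o) = 16 ∧ ∀ g ∈ fixer o, g * g = 1 := by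
  obtain ⟨τ, hτ, e⟩ := exists_to_baseO ho
  have him : o.image τ = baseO := by rw [← e, Finset.smul_finset_def]; rfl
  have hinv : baseO.image (⇑τ⁻¹) = o := by
    rw [← him, Finset.image_image]
    have : (⇑τ⁻¹ ∘ ⇑τ) = id := by funext y; exact τ.symm_apply_apply y
    rw [this, Finset.image_id]
  refine ⟨?_, fun g hg => ?_⟩
  · rw [← fixer_baseO_spec.1]
    exact Nat.card_congr
      { toFun := fun g => ⟨τ * g * τ⁻¹, conj_mem_fixer hτ him g.2⟩
        invFun := fun g => ⟨τ⁻¹ * g * τ⁻¹⁻¹, conj_mem_fixer (M24.inv_mem hτ) hinv g.2⟩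
        left_inv := fun g => Subtype.ext (by group)
        right_inv := fun g => Subtype.ext (by group) }
  · have h := fixer_baseO_spec.2 _ (conj_mem_fixer hτ him hg)
    calc g * g = τ⁻¹ * ((τ * g * τ⁻¹) * (τ * g * τ⁻¹)) * τ := by group
      _ = 1 := by rw [h, mul_one, inv_mul_cancel]

theorem fixer_eq_of_five {B : Finset GolayPt} {o : Finset GolayPt} (ho : o ∈ octads) (hB : B ⊆ o) :
    fixer o ≤ fixer B := fun _ h => ⟨h.1, fun b hb => h.2 b (hB hb)⟩


theorem levFive_six_check : (levFive.all fun l =>
    decide ((octIdx.filter fun i => l.getD i 0 == i).length < 6) || octIdx.all fun i => l.getD i 0 == i) = true := by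
  decide +kernel

theorem image_inv_image {A B : Finset GolayPt} {τ : Equiv.Perm GolayPt} (h : A.image τ = B) :
    B.image (⇑τ⁻¹) = A := by
  rw [← h, Finset.image_image]
  have : (⇑τ⁻¹ ∘ ⇑τ) = id := by funext y; exact τ.symm_apply_apply y
  rw [this, Finset.image_id]

theorem card_fixer_image {A B : Finset GolayPt} {τ : Equiv.Perm GolayPt} (hτ : τ ∈ M24) (h : A.image τ = B) :
    Nat.card (fixer A) = Nat.card (fixer B) :=
  Nat.card_congr
    { toFun := fun g => ⟨τ * g * τ⁻¹, conj_mem_fixer hτ h g.2⟩
      invFun := fun g => ⟨τ⁻¹ * g * τ⁻¹⁻¹, conj_mem_fixer (M24.inv_mem hτ) (image_inv_image h) g.2⟩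
      left_inv := fun g => Subtype.ext (by group)
      right_inv := fun g => Subtype.ext (by group) }

/-- The base six points: five of the base octad and one more, inside it or not. -/
def sixBase (inside : Bool) (i : Fin 6) : GolayPt :=
  if (i : ℕ) < 5 then baseP i else if inside then baseP 6 else baseP 5

/-- Six points can be moved to one of the two base sextuples. -/
theorem six_to_base (x : Fin 6 ↪ GolayPt) :
    (∀ o ∈ octads, (∀ i, x i ∈ o) → ∃ σ ∈ M24, ∀ i, σ (x i) = sixBase true i) ∧
    ((¬ ∃ o ∈ octads, ∀ i, x i ∈ o) → ∃ σ ∈ M24, ∀ i, σ (x i) = sixBase false i) := by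
  let x' : ℕ → GolayPt := fun k => if h : k < 6 then x ⟨k, h⟩ else x 0
  have hinj : ∀ i < 6, ∀ j < 6, x' i = x' j → i = j := by
    intro i hi j hj e
    simp only [x', dif_pos hi, dif_pos hj] at e
    exact congrArg Fin.val (x.injective e)
  constructor
  · intro o ho hx
    obtain ⟨σ, hσ, hs⟩ := exists_to_base (n := 5) (by norm_num) x'
      (fun i hi j hj e => hinj i (by omega) j (by omega) e) (fun _ _ _ => ⟨fun h => by omega, fun h => by omega⟩)
    have hso : σ • o = baseO := by
      refine octad_eq_of_five (smul_mem_words hσ ho) baseO_mem ?_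
      refine le_trans ?_ (Finset.card_le_card (s := (Finset.range 5).image baseP) ?_)
      · have h : ((Finset.range 5).image baseP).card = 5 := by decide +kernel
        exact h.ge
      · intro p hp
        obtain ⟨j, hj, rfl⟩ := Finset.mem_image.1 hp
        rw [Finset.mem_range] at hj
        rw [Finset.mem_inter]
        refine ⟨?_, baseP_mem_baseO hj⟩
        rw [← hs j hj]
        simp only [x', dif_pos (show j < 6 by omega)]
        exact Finset.smul_mem_smul_finset (hx ⟨j, by omega⟩)
    set q := σ (x 5) with hq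
    have hqO : q ∈ baseO := by rw [← hso]; exact Finset.smul_mem_smul_finset (hx 5)
    have hadm : Admissible 6 q := by
      refine ⟨fun j hj e => ?_, fun h => by omega, fun _ => hqO⟩
      rcases Nat.lt_or_ge j 5 with h | h
      · rw [← hs j h, hq] at e
        simp only [x', dif_pos (show j < 6 by omega)] at e
        have := congrArg Fin.val (x.injective (σ.injective e))
        simp at this; omega
      · have : j = 5 := by omega
        subst this
        have h5 : baseP 5 ∉ baseO := by decide +kernel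
        exact h5 (e ▸ hqO)
    obtain ⟨u, ⟨hu, hu'⟩, hup⟩ := exists_transversal (i := 6) (by norm_num) hadm
    refine ⟨u⁻¹ * σ, M24.mul_mem (M24.inv_mem (stdGroup_le_M24 hu)) hσ, fun i => ?_⟩
    rw [Equiv.Perm.mul_apply, sixBase]
    by_cases hi : (i : ℕ) < 5
    · have h := hs i hi
      simp only [x', dif_pos i.2, Fin.eta] at h
      rw [if_pos hi, h, Equiv.Perm.inv_eq_iff_eq]
      exact (((mem_lev_iff u 6).1 hu').2 i (by omega)).symm
    · have : i = 5 := Fin.ext (show (i : ℕ) = 5 by omega)
      subst this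
      rw [if_neg hi, if_pos rfl, Equiv.Perm.inv_eq_iff_eq, hup]
  · intro hno
    obtain ⟨σ, hσ, hs⟩ := exists_to_base (n := 6) (by norm_num) x' hinj fun σ hσ h5 => by
      refine ⟨fun _ hmem => hno ⟨σ⁻¹ • baseO, smul_mem_words (M24.inv_mem hσ) baseO_mem, fun i => ?_⟩, fun h => by omega⟩
      rw [← Finset.smul_mem_smul_finset_iff σ, smul_inv_smul, Equiv.Perm.smul_def]
      rcases Nat.lt_or_ge (i : ℕ) 5 with hi | hi
      · have h := h5 i hi
        simp only [x', dif_pos i.2, Fin.eta] at h
        rw [h]; exact baseP_mem_baseO hi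
      · have : i = 5 := Fin.ext (show (i : ℕ) = 5 by omega)
        subst this
        exact hmem
    refine ⟨σ, hσ, fun i => ?_⟩
    have h := hs i i.2
    simp only [x', dif_pos i.2, Fin.eta] at h
    rw [h, sixBase]
    by_cases hi : (i : ℕ) < 5
    · rw [if_pos hi]
    · rw [if_neg hi, if_neg Bool.false_ne_true]
      congr 1
      omega

/-- The fixers of six points: order 16 inside an octad, order 3 otherwise. -/
theorem card_fixer_six {E : Finset GolayPt} (hE : E.card = 6) :
    (∀ o ∈ octads, E ⊆ o → Nat.card (fixer E) = 16) ∧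
    ((¬ ∃ o ∈ octads, E ⊆ o) → Nat.card (fixer E) = 3) := by
  obtain ⟨e⟩ : Nonempty (Fin 6 ≃ E) := ⟨(Fintype.equivFinOfCardEq (by simp [hE])).symm⟩
  let x : Fin 6 ↪ GolayPt := e.toEmbedding.trans ⟨Subtype.val, Subtype.val_injective⟩
  have hx : ∀ i, x i ∈ E := fun i => (e i).2
  have himg : ∀ σ : Equiv.Perm GolayPt, ∀ b : Fin 6 → GolayPt, (∀ i, σ (x i) = b i) →
      E.image σ = Finset.univ.image b := by
    intro σ b h
    ext p
    simp only [Finset.mem_image, Finset.mem_univ, true_and]
    constructor
    · rintro ⟨a, ha, rfl⟩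
      refine ⟨e.symm ⟨a, ha⟩, ?_⟩
      rw [← h]
      simp [x]
    · rintro ⟨i, rfl⟩
      exact ⟨x i, hx i, h i⟩
  constructor
  · intro o ho hEo
    obtain ⟨σ, hσ, hs⟩ := (six_to_base x).1 o ho fun i => hEo (hx i)
    rw [card_fixer_image hσ (himg σ _ hs)]
    rw [show fixer (Finset.univ.image (sixBase true)) = fixer baseO from ?_]
    · exact fixer_baseO_spec.1
    have hsub : Finset.univ.image (sixBase true) ⊆ baseO := by decide +kernel
    refine le_antisymm (fun g hg => ⟨hg.1, ?_⟩) fun g hg => ⟨hg.1, fun a ha => hg.2 a (hsub ha)⟩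
    have h5 : g ∈ lev 5 := (mem_lev_iff _ 5).2 ⟨M24_le_setSystemAut hg.1, fun j hj => hg.2 _
      (Finset.mem_image.2 ⟨⟨j, by omega⟩, Finset.mem_univ _, by simp [sixBase, hj]⟩)⟩
    obtain ⟨l, hl, rfl⟩ := mem_levFive h5
    have hp := List.all_eq_true.1 ker_check.1 l hl
    simp only [Bool.and_eq_true] at hp
    have h := List.all_eq_true.1 levFive_six_check l hl
    simp only [Bool.or_eq_true, decide_eq_true_eq] at h
    rcases h with h | h
    · exfalso
      have hcnt : (octIdx.filter fun i => l.getD i 0 == i).toFinset ⊇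
          (Finset.univ.image (sixBase true)).image idx := by
        intro k hk
        obtain ⟨p, hp', rfl⟩ := Finset.mem_image.1 hk
        simp only [List.mem_toFinset, List.mem_filter, octIdx, List.mem_range, beq_iff_eq]
        refine ⟨⟨idx_lt p, ?_⟩, ?_⟩
        · have := hsub hp'; rwa [baseO, mem_toSet] at this
        · have := congrArg idx (hg.2 p hp'); rwa [idx_permOf hp.1] at this
      have h6 : ((Finset.univ.image (sixBase true)).image idx).card = 6 := by decide +kernel
      have := (Finset.card_le_card hcnt).trans (List.toFinset_card_le _)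
      omega
    · intro a ha
      have h' := List.all_eq_true.1 h (idx a) (by
        simp only [octIdx, List.mem_filter, List.mem_range]
        exact ⟨idx_lt a, by rw [baseO, mem_toSet] at ha; exact ha⟩)
      rw [beq_iff_eq] at h'
      rw [← pt_idx a, permOf_pt hp.1 (idx_lt a), h']
  · intro hno
    obtain ⟨σ, hσ, hs⟩ := (six_to_base x).2 fun ⟨o, ho, h⟩ => hno ⟨o, ho, fun a ha => by
      have := h (e.symm ⟨a, ha⟩); simpa [x] using this⟩
    rw [card_fixer_image hσ (himg σ _ hs),
      show Finset.univ.image (sixBase false) = (Finset.range 6).image baseP by decide +kernel, fixer_base]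
    exact card_lev.2.1

end Cfsg.Lib.Golay.OctKer
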