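import Mathlib
import Cfsg.Agent.Lib.Golay.OctKer
import Cfsg.Agent.Lib.Golay.Count
import Cfsg.Agent.Lib.Golay.OctadStab

/-! Orbits on octads of stabilisers of an octad and marked points. -/

set_option autoImplicit false
set_option maxRecDepth 100000
set_option linter.constructorNameAsVariable false

namespace Cfsg.Lib.Golay.OctOrbits

open Cfsg
open scoped Pointwise

/-- Generators for the configuration `inTwo`. -/
def inTwoGens : List (List ℕ) := [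
  [0, 1, 3, 2, 11, 17, 21, 22, 7, 13, 6, 18, 9, 19, 14, 10, 4, 5, 16, 12, 8, 15, 20, 23],
  [0, 3, 14, 1, 20, 2, 21, 16, 12, 7, 22, 11, 10, 15, 17, 6, 18, 5, 9, 19, 4, 13, 8, 23],
  [0, 17, 3, 5, 7, 2, 15, 4, 20, 21, 11, 13, 9, 12, 1, 18, 19, 14, 22, 16, 6, 10, 8, 23]]

/-- Representatives by intersection, `inTwo`. -/
def inTwoReps : List (ℕ × ℕ) := [(2, 8499969), (4, 8391797), (8, 8536111)]

/-- Words to every member, `inTwo`. -/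
def inTwoWords : List (ℕ × List ℕ) := [
  (8391797, []),
  (8398155, [1, 2]),
  (8412681, [0, 1, 2, 2]),
  (8421811, [0, 2, 2, 2, 1]),
  (8431757, [2]),
  (8471941, [1, 0, 0]),
  (8499969, []),
  (8505411, [2, 1]),
  (8524371, [1, 0, 1]),
  (8536111, []),
  (8546577, [1, 1]),
  (8593633, [0, 0, 1, 1, 1]),
  (8619033, [0, 0, 0]),
  (8657159, [0, 2, 2]),
  (8663097, [2, 2]),
  (8675909, [0, 0, 1]),
  (8688833, [1]),
  (8716939, [0, 2, 2, 0]),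
  (8783649, [1, 1, 1, 0]),
  (8922769, [0]),
  (8946281, [0, 1, 0, 1]),
  (8966165, [0, 0, 1, 0, 0]),
  (8983587, [0, 1, 0, 0]),
  (9048457, [2, 0, 1, 1]),
  (9112069, [2, 2, 0]),
  (9193633, [1, 1, 0]),
  (9240913, [0, 1, 1]),
  (9347075, [0, 1, 0]),
  (9440193, [1, 2, 1]),
  (9465987, [1, 1, 2]),
  (9471495, [2, 2, 1]),
  (9506893, [2, 0, 0]),
  (9519665, [0, 1, 0, 2, 0]),
  (9607201, [1, 1, 1]),
  (9748745, [1, 0]),
  (9776129, [0, 2, 1]),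
  (9830549, [2, 0, 2, 0]),
  (9963547, [1, 0, 0, 2]),
  (9969957, [2, 0, 2, 2]),
  (10110017, [0, 2, 0]),
  (10486557, [1, 0, 2, 1]),
  (10496547, [0, 1]),
  (10506593, [0, 2, 0, 0]),
  (10557585, [0, 2]),
  (10630149, [0, 1, 2]),
  (10666625, [0, 0, 1, 1]),
  (10765331, [2, 1, 0]),
  (10846245, [0, 0]),
  (10881097, [0]),
  (11010247, [1, 2, 0]),
  (11046145, [0, 0, 1]),
  (11100169, [0, 0, 1, 0]),
  (11535529, [0, 2, 1, 0]),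
  (11575377, [1, 0, 0]),
  (11731203, [1, 0, 2, 0]),
  (12325377, [2]),
  (12587685, [2, 2, 2]),
  (12599513, [1, 0, 0, 0]),
  (12641313, [0, 2]),
  (12650793, [2, 0, 2]),
  (12656663, [1, 1, 0, 2]),
  (12717187, [2, 1, 0, 2]),
  (12747077, [0, 2, 1]),
  (12880401, [1, 2]),
  (13062145, [0, 1, 0, 2]),
  (13121601, [0, 0]),
  (13124355, [2, 0, 1]),
  (13370381, [2, 0]),
  (13636881, [0, 1, 0]),
  (13771273, [0, 2, 2, 2]),
  (13893731, [1, 0, 2]),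
  (14254209, [0, 1]),
  (14716939, [1, 2, 1]),
  (14747201, [1, 0]),
  (14950785, [1, 0, 1]),
  (15335473, [0, 2, 0, 1]),
  (15747077, [1])]

/-- Generators for the configuration `inOne`. -/
def inOneGens : List (List ℕ) := [
  [0, 2, 1, 5, 10, 14, 18, 8, 16, 19, 21, 4, 22, 15, 17, 7, 20, 3, 13, 11, 6, 12, 9, 23],
  [14, 0, 1, 17, 9, 5, 12, 20, 16, 10, 18, 15, 11, 22, 2, 4, 19, 3, 6, 7, 21, 13, 8, 23],
  [14, 5, 0, 3, 20, 1, 7, 11, 8, 15, 13, 12, 6, 9, 17, 10, 4, 2, 21, 19, 22, 18, 16, 23]]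

/-- Representatives by intersection, `inOne`. -/
def inOneReps : List (ℕ × ℕ) := [(2, 8401364), (4, 8391797), (8, 8536111)]

/-- Words to every member, `inOne`. -/
def inOneWords : List (ℕ × List ℕ) := [
  (8391797, []),
  (8394986, [2, 2, 0, 2, 0]),
  (8398155, [0, 2, 2, 1]),
  (8401364, []),
  (8407702, [0, 1, 1, 2, 2]),
  (8412681, [2, 1, 0, 1]),
  (8414120, [0, 2, 0, 0, 0]),
  (8421811, [0, 1, 0, 0, 0]),
  (8426796, [2, 2, 1]),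
  (8431757, [0, 1, 0, 0]),
  (8436754, [2, 1, 1, 0]),
  (8439632, [0, 0, 2, 1]),
  (8455014, [1, 0, 1, 0]),
  (8464984, [0, 1, 1, 0, 0]),
  (8471941, [2, 0, 2]),
  (8474906, [2, 0, 1]),
  (8484900, [0, 1, 1, 1, 2, 1]),
  (8490656, [1, 2, 1, 1]),
  (8499969, [0, 0, 1, 1, 0]),
  (8505411, [0, 0, 0, 0, 2]),
  (8521420, [0, 2, 0, 2]),
  (8524371, [2, 1, 0]),
  (8536111, []),
  (8541360, [2, 0, 0, 2, 0]),
  (8546577, [0, 0, 0, 1]),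
  (8555274, [1, 0, 0]),
  (8561204, [0, 0, 1, 0]),
  (8581192, [0, 2, 0]),
  (8592704, [2, 2, 2]),
  (8593633, [0, 1, 1, 2]),
  (8611330, [1, 2, 1, 0, 2]),
  (8619033, [1, 0, 0, 1]),
  (8622214, [2, 2, 2]),
  (8654232, [0, 1, 1, 2, 0]),
  (8657159, [0, 1, 1, 1]),
  (8660134, [1, 2, 2]),
  (8663097, [1, 2, 1]),
  (8675909, [0, 1]),
  (8683614, [0, 0, 1, 2, 2]),
  (8688833, [1, 0, 0, 1]),
  (8694112, [1, 0, 1, 2]),
  (8704546, [1]),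
  (8716939, [2, 0, 0]),
  (8721940, [0, 0, 2, 1, 1]),
  (8733800, [0, 0, 0, 2]),
  (8773776, [1, 1, 1]),
  (8783649, [2, 1, 1, 2]),
  (8796800, [0, 1, 0, 1, 0]),
  (8798658, [2, 1, 0, 0, 1]),
  (8834052, [0, 1, 2, 2]),
  (8849458, [2, 2, 1, 1]),
  (8855820, [2, 1, 0, 0, 1, 0]),
  (8919856, [1, 2, 1]),
  (8922769, [0, 0, 2, 0]),
  (8925710, [0, 2, 2, 0]),
  (8931660, [2, 1, 2, 1]),
  (8937586, [0, 2, 2, 2, 1]),
  (8946281, [0, 2, 2, 0, 2]),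
  (8963210, [1, 0, 2, 1]),
  (8966165, [1, 0, 2, 2]),
  (8978620, [1, 0, 0, 0]),
  (8983587, [1, 0, 1, 0, 1]),
  (8989058, [0, 0, 0, 2, 2]),
  (8999616, [0, 1, 1]),
  (9020484, [0, 2, 2, 0]),
  (9045270, [0, 0, 0, 1, 1, 1]),
  (9048457, [0, 1, 2, 0]),
  (9055272, [2, 2, 0, 0]),
  (9078992, [0, 1, 1, 2]),
  (9112069, [1, 0, 2]),
  (9158944, [1, 0, 1, 2, 1]),
  (9178690, [1, 0, 0]),
  (9193633, [0, 2, 2, 0, 2, 0]),
  (9204992, [1, 1, 2]),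
  (9208708, [1, 0, 2, 2, 1]),
  (9240913, [0, 1]),
  (9279496, [2, 2, 2, 1]),
  (9310308, [0, 0, 0, 2, 1]),
  (9323032, [2, 2, 0]),
  (9347075, [0, 1, 0]),
  (9440193, [2]),
  (9451104, [2, 1, 1, 0, 2]),
  (9456930, [0, 0, 0, 0, 1]),
  (9462812, [0, 1, 2, 1]),
  (9465987, [2]),
  (9471495, [0, 0, 1, 0, 2]),
  (9474712, [0, 1, 1, 2, 1]),
  (9486564, [2, 1, 0, 2]),
  (9503954, [1, 2, 2]),
  (9506893, [0, 2, 0, 1, 2]),
  (9519665, [1, 0, 1, 2, 0]),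
  (9537812, [2, 2, 1]),
  (9543722, [0, 0, 1, 0, 1, 2]),
  (9568632, [2, 0, 1, 2]),
  (9578566, [1, 2, 0, 1]),
  (9589508, [0, 0, 0, 1, 2]),
  (9607201, [0, 1, 1, 2, 2, 2]),
  (9610624, [1, 1, 1, 0]),
  (9652360, [0, 1, 0, 1, 2]),
  (9701932, [0, 0, 0, 2, 2, 2]),
  (9708306, [0, 2, 2]),
  (9721936, [1, 1, 0, 2]),
  (9748745, [0, 1, 1, 2, 0]),
  (9769376, [0, 0, 0, 2, 1]),
  (9776129, [0, 1, 0]),
  (9830549, [1, 0, 2, 1, 1]),
  (9835530, [0, 2, 0, 2, 1]),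
  (9929280, [0, 1, 0, 2, 2]),
  (9963547, [1, 0, 2, 0]),
  (9968772, [0, 1, 1, 1]),
  (9969957, [2, 0, 0, 0]),
  (9998658, [0, 0, 0]),
  (10021376, [0, 2, 1, 0]),
  (10028808, [2, 2, 0, 0]),
  (10093218, [1, 0, 0, 0, 1]),
  (10110017, [2, 0, 0, 1]),
  (10170384, [1, 0, 2, 2, 2]),
  (10232008, [0, 0, 2, 1, 0, 1]),
  (10257456, [0, 2, 1, 2, 2]),
  (10305542, [2, 0, 2, 1]),
  (10486557, [0, 1, 0, 0, 1, 1]),
  (10491778, [1, 0, 1]),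
  (10496547, [1, 2, 2, 2]),
  (10506593, [0, 1, 1, 1, 2]),
  (10513600, [1, 0, 0, 1, 2]),
  (10525252, [0, 0, 1, 0]),
  (10537016, [2, 0, 0, 2]),
  (10543366, [2, 1, 1]),
  (10554382, [0, 2, 0, 0, 2]),
  (10557585, [1, 1, 0]),
  (10560816, [0, 2]),
  (10584520, [0, 1, 1, 0, 1]),
  (10619300, [1, 0, 2, 1, 0]),
  (10625178, [0, 0, 0, 2, 2]),
  (10630149, [0, 0]),
  (10650722, [1, 2]),
  (10666625, [0, 1, 2]),
  (10687016, [0, 0, 1, 2]),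
  (10698836, [2, 1, 2, 2]),
  (10748656, [0, 2, 1, 2, 2, 1]),
  (10765331, [0]),
  (10768524, [1, 2, 0]),
  (10790408, [2, 1, 2, 0]),
  (10825794, [1, 2, 0, 1, 0]),
  (10832640, [0, 0, 0, 2, 0]),
  (10846245, [0, 2, 2, 2]),
  (10881097, [1, 2, 0, 2]),
  (10916112, [0, 0, 0, 2, 0, 2]),
  (11010247, [2, 0, 2, 1, 1]),
  (11015256, [1, 1, 1, 2, 0]),
  (11028004, [0, 1, 0, 2]),
  (11046145, [1, 1]),
  (11055264, [1, 0, 0, 2]),
  (11100169, [1, 0, 1, 1, 1]),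
  (11108882, [0, 2, 1, 2]),
  (11150144, [1, 1, 2, 2]),
  (11163650, [0, 1, 0, 2, 0]),
  (11272490, [0, 2, 0, 2, 0]),
  (11282452, [2, 1, 1]),
  (11469952, [0, 0, 2, 1, 0]),
  (11535529, [1, 0, 0, 1, 0]),
  (11538486, [2, 1, 0, 2, 1]),
  (11548936, [2, 1, 0, 1]),
  (11551306, [1, 2, 1, 2]),
  (11575377, [0, 1, 0, 0]),
  (11608708, [0, 0]),
  (11654144, [2, 1]),
  (11669008, [1, 1, 1, 2]),
  (11731203, [1, 0, 1, 1]),
  (11797828, [1, 2, 0, 1]),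
  (11831426, [0, 1, 1, 1, 1]),
  (11952160, [0, 2]),
  (12075408, [0, 1, 2]),
  (12126304, [2, 2, 0, 0, 0]),
  (12222476, [2, 2, 0, 2]),
  (12325377, [1, 2, 2, 1]),
  (12584506, [0, 0, 1, 0, 1]),
  (12587685, [0, 0, 0, 0]),
  (12594948, [0, 1, 0, 2, 1]),
  (12599513, [0, 1, 0, 1]),
  (12604486, [0, 1, 1]),
  (12624578, [2, 1, 1, 1]),
  (12638592, [2, 2]),
  (12641313, [1, 2, 1, 0]),
  (12650793, [1, 0, 1, 2]),
  (12656663, [2, 1, 1, 1]),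
  (12661896, [1, 1, 2, 2, 1]),
  (12685424, [1, 2]),
  (12698124, [0, 0, 0, 1, 1]),
  (12717187, [0, 2, 2, 0, 1]),
  (12720156, [0, 2, 0, 1]),
  (12726562, [0, 2, 1, 1]),
  (12733024, [2, 2]),
  (12747077, [2, 0]),
  (12780432, [2, 2, 0]),
  (12849992, [2, 1, 0, 0]),
  (12861748, [1, 0, 1, 1, 2]),
  (12871690, [0, 0, 1]),
  (12880401, [0, 0, 2]),
  (12912836, [0, 0, 0, 0]),
  (12944642, [0]),
  (12985424, [2, 1, 2]),
  (13009064, [0, 2, 0, 0]),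
  (13062145, [2, 1, 2]),
  (13108704, [0, 0, 0, 2]),
  (13121601, [0, 1, 1, 1, 2]),
  (13124355, [0, 0, 0, 0, 0]),
  (13142054, [0, 2, 2, 0, 0]),
  (13148440, [1, 1, 2, 0, 1]),
  (13192208, [1, 0, 2, 2]),
  (13262980, [1, 0]),
  (13276672, [0, 1, 0, 2, 0]),
  (13303882, [0, 0, 0, 1, 2, 0]),
  (13370381, [2, 1, 0, 0]),
  (13373586, [0, 0, 1, 0, 0]),
  (13443616, [0, 2, 1]),
  (13631886, [1, 0, 1]),
  (13636881, [1, 1, 0, 0]),
  (13641904, [1, 2, 2, 2]),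
  (13667400, [0, 1, 0, 1, 0, 1]),
  (13703682, [1]),
  (13721920, [0, 0, 1, 1, 1]),
  (13771273, [2, 1, 2, 0]),
  (13811730, [0, 1, 0, 0, 1]),
  (13829156, [2, 0, 1, 0]),
  (13893731, [1, 2, 2, 1]),
  (13911680, [1, 2, 0]),
  (13938692, [1, 1, 1, 2, 2]),
  (14156372, [1, 0]),
  (14176296, [0, 0, 1, 2, 0]),
  (14254209, [1, 0, 2]),
  (14551296, [0, 1, 1, 0]),
  (14682450, [0, 1, 1, 1, 0]),
  (14688364, [0, 2, 1]),
  (14709264, [0, 1, 0, 2]),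
  (14714004, [0, 2, 1, 0, 1]),
  (14716939, [0, 0, 0]),
  (14747201, [0, 2, 2, 1]),
  (14762146, [2, 2, 1, 0]),
  (14828808, [2, 1, 2, 0, 1]),
  (14919680, [1, 1, 2, 0]),
  (14949408, [0, 1, 1, 1, 1, 2]),
  (14950785, [0, 0, 1, 1]),
  (15073798, [0, 2, 2]),
  (15207048, [0, 1, 0, 2, 0, 0]),
  (15274244, [1, 0, 1, 0]),
  (15335473, [2, 0, 2, 1, 2]),
  (15515712, [0, 1, 0, 1]),
  (15747077, [2, 1]),
  (15762208, [0, 2, 2, 2]),
  (15864000, [2, 1, 0]),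
  (16056344, [2, 2, 2, 0]),
  (16262146, [0, 0, 1])]

/-- Generators for the configuration `outOne`. -/
def outOneGens : List (List ℕ) := [
  [23, 2, 5, 14, 4, 0, 19, 18, 7, 10, 22, 21, 8, 13, 3, 20, 15, 1, 11, 6, 16, 12, 9, 17],
  [17, 14, 0, 2, 4, 1, 18, 10, 6, 19, 22, 8, 9, 20, 5, 11, 12, 23, 16, 7, 15, 13, 21, 3],
  [1, 17, 14, 23, 4, 3, 7, 15, 19, 6, 20, 18, 22, 9, 0, 12, 21, 2, 10, 11, 16, 13, 8, 5]]

/-- Representatives by intersection, `outOne`. -/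
def outOneReps : List (ℕ × ℕ) := [(0, 337856), (2, 15777), (4, 18147), (8, 8536111)]

/-- Words to every member, `outOne`. -/
def outOneWords : List (ℕ × List ℕ) := [
  (15777, []),
  (18147, []),
  (31554, [2, 2, 0, 1, 0, 0]),
  (36294, [1, 0, 1, 2, 2, 0]),
  (45159, [2, 1, 1, 0, 2]),
  (52005, [0, 0, 0, 1, 2]),
  (63108, [1, 0, 2, 0, 1]),
  (72588, [2, 0, 2, 0, 1]),
  (75309, [0, 1, 1, 2, 0]),
  (90318, [0, 0, 1, 1]),
  (104010, [1, 1, 1, 1, 2, 0]),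
  (118953, [2, 0, 1]),
  (126216, [2, 2, 2, 2]),
  (138790, [2, 0, 1, 1]),
  (140167, [0, 1, 1, 0, 0]),
  (153797, [0, 0, 1, 0]),
  (157028, [1, 1, 2, 2, 0]),
  (168928, [2, 1, 0, 0, 1]),
  (175681, [0, 2, 0, 0, 0]),
  (185603, [2, 2, 0, 0, 1]),
  (190626, [2, 0, 0, 0, 1]),
  (198058, [0, 0, 2, 0, 1]),
  (210955, [2, 0, 0, 0, 2]),
  (213833, [0, 1, 1, 2, 2]),
  (231532, [2, 0, 0]),
  (262637, [0, 0, 2]),
  (277580, [0, 2, 2, 2, 0, 2]),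
  (280334, [1, 0, 1, 0, 1]),
  (298027, [0, 0, 2, 0, 2]),
  (307594, [0, 0, 1, 2, 1]),
  (314056, [0, 0, 2, 2, 0, 0]),
  (334433, [2, 2, 2, 0]),
  (337856, []),
  (351362, [1, 2, 0, 1]),
  (352547, [0, 1, 2, 0, 0]),
  (371206, [2, 1, 0, 1]),
  (381252, [1, 0, 2, 0, 0]),
  (402026, [0, 0, 0, 1, 0]),
  (416040, [0, 2, 2, 0, 1]),
  (418953, [0, 2, 1, 1, 2]),
  (430605, [1, 1, 0]),
  (459847, [0, 0, 2, 1]),
  (475812, [0, 0, 0, 2, 2]),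
  (493953, [0, 2, 1, 2]),
  (504864, [0, 1, 2, 0]),
  (530245, [0, 0, 0, 0, 2, 2]),
  (535268, [0, 1, 0, 2, 1, 2]),
  (545190, [1, 2, 1, 2]),
  (551943, [1, 0, 1, 2]),
  (563843, [0, 1, 2, 0, 1, 2, 0]),
  (567074, [0, 2]),
  (580704, [0, 2, 0, 2, 1]),
  (582081, [2, 0, 1, 2, 0, 2]),
  (593097, [0, 2, 2, 1, 1]),
  (602472, [2, 1, 0, 2, 2, 2]),
  (608810, [0, 1, 0, 1]),
  (622863, [0, 0, 0, 0, 2, 2]),
  (657763, [0, 0, 0, 1, 2, 1]),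
  (668866, [0, 0, 0, 1, 2, 1]),
  (675712, [2, 2, 1, 0]),
  (684577, [0, 1, 2, 2]),
  (689317, [1, 0, 2, 2]),
  (702724, [2, 2, 0, 2]),
  (705094, [2, 2, 2, 0, 1]),
  (742412, [2, 2, 0, 2]),
  (762504, [0, 0, 0, 1, 0]),
  (792232, [1, 0, 2, 1, 2]),
  (797449, [0, 0, 2, 1, 0, 1]),
  (806987, [0, 0, 0, 1, 2, 2]),
  (843820, [0, 0, 1, 1, 0]),
  (855332, [1, 2, 1, 0, 2]),
  (864389, [1, 0, 2, 2]),
  (884962, [1, 2, 0]),
  (902657, [2, 2, 0, 0, 1]),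
  (919694, [1, 0, 2, 0]),
  (951624, [2, 0, 1, 0, 1]),
  (987906, [1, 0, 1, 2, 2]),
  (1009728, [0, 1, 0, 2, 1, 1, 0]),
  (1053483, [2, 2, 2, 0]),
  (1060490, [0, 0, 0, 0, 2, 0]),
  (1070536, [0, 0, 2, 2]),
  (1075305, [0, 1, 2, 1]),
  (1090380, [0, 1, 0, 0]),
  (1103886, [1, 0, 2, 2, 2]),
  (1116327, [2, 2, 0, 0]),
  (1127686, [1, 1, 1, 1]),
  (1134148, [2, 0]),
  (1148257, [0, 0, 1, 2, 1, 0, 1]),
  (1161408, [2, 2]),
  (1164162, [0, 2, 0, 2]),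
  (1182989, [1, 2]),
  (1192108, [0, 1, 2, 0]),
  (1212619, [2]),
  (1230376, [1, 1, 2, 0, 1]),
  (1250945, [1, 0, 2, 2, 1]),
  (1256224, [0, 1, 1, 0]),
  (1265762, [0, 1, 1, 1, 1, 0]),
  (1302533, [2, 0, 2, 2, 1]),
  (1315526, [2, 2, 0, 0]),
  (1332261, [2, 1, 2]),
  (1337732, [0, 0, 1, 2, 1, 0]),
  (1351424, [0, 2]),
  (1352353, [2, 2, 0, 1, 2]),
  (1369154, [0, 0, 0, 1, 0, 0]),
  (1378634, [0, 0, 2, 0, 2]),
  (1405448, [0, 1, 1, 1, 2, 1]),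
  (1410188, [0, 2, 0, 2, 0]),
  (1445088, [0, 2, 2, 1, 0]),
  (1454401, [1, 0, 2, 2, 2, 2]),
  (1460739, [1, 0, 1, 2, 2]),
  (1474854, [2, 2, 0]),
  (1573998, [0, 0, 1, 0, 1, 2]),
  (1589901, [0, 2, 1, 0]),
  (1608104, [2, 2, 1, 2, 2]),
  (1618953, [0, 1, 2, 1]),
  (1647171, [0, 0, 0, 0, 0, 1]),
  (1661185, [2, 1, 0, 0]),
  (1664160, [0, 1, 0, 0, 0]),
  (1675812, [0, 1, 1, 1, 2, 1, 1]),
  (1710664, [0, 2, 2]),
  (1728778, [2, 2, 2, 1, 1]),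
  (1769924, [1, 2]),
  (1805314, [2, 2, 0, 1, 2, 1]),
  (1836419, [2, 1, 0, 0, 1, 0]),
  (1849378, [0, 1, 2, 2, 1]),
  (1852256, [0, 0, 1, 1, 0]),
  (1869893, [1, 2, 0, 0]),
  (1975812, [0, 0, 0, 2]),
  (2019456, [1, 2, 1, 0, 1, 0]),
  (2031657, [0, 2, 2]),
  (2101096, [0, 2, 0, 0, 2]),
  (2110153, [0, 1, 2, 2, 2]),
  (2115979, [0, 0, 2, 1, 0, 1]),
  (2126890, [1, 1, 1]),
  (2130606, [1, 0, 1, 1, 2]),
  (2147405, [0, 1, 0, 1, 0]),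
  (2168036, [0, 0, 2, 2, 0, 1]),
  (2173253, [0, 1, 2, 2, 1, 0]),
  (2183687, [2, 1, 0, 0]),
  (2201890, [0, 0, 0, 2, 1, 2]),
  (2204803, [2, 0, 2, 2]),
  (2220640, [0, 1, 2, 2]),
  (2232654, [2, 1, 1, 1]),
  (2255372, [2, 0, 1, 2, 1]),
  (2268296, [1, 2, 0, 2]),
  (2269481, [1, 1, 2]),
  (2296514, [2, 0, 1, 1]),
  (2313249, [2, 0, 2]),
  (2322816, [0, 0, 2, 1, 1]),
  (2328324, [0, 1, 2, 0, 1, 0]),
  (2363013, [0, 0, 1, 1, 1]),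
  (2372388, [0, 0, 0, 0, 0]),
  (2377830, [0, 2, 1, 1]),
  (2392899, [2, 2, 2, 2, 1, 1]),
  (2409888, [0, 2, 1, 1]),
  (2422785, [2, 1, 2]),
  (2430217, [0, 1, 0, 1, 0]),
  (2435240, [1, 1, 1]),
  (2494627, [0, 2, 2, 0, 2]),
  (2501890, [0, 0, 0]),
  (2512448, [2, 1, 0, 1, 2]),
  (2531524, [2, 0, 1, 1, 2]),
  (2605066, [2, 2, 0, 0, 2]),
  (2627629, [0, 2, 1, 1, 0]),
  (2631052, [0, 1, 2, 0, 1, 2, 2]),
  (2664522, [0, 0, 0, 1, 2, 2]),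
  (2675464, [0, 1, 2, 0, 1, 1]),
  (2687905, [0, 0, 0, 1, 2]),
  (2702848, [0, 0, 0]),
  (2704706, [0, 2, 2, 0]),
  (2738308, [2, 1]),
  (2754059, [0, 0, 0]),
  (2769128, [0, 1, 0, 2, 0, 1]),
  (2826278, [0, 0, 0, 2, 0]),
  (2854977, [0, 0, 1, 2, 0]),
  (2890176, [1, 0, 1]),
  (2892897, [2, 0, 1, 2, 0, 1]),
  (2908802, [0, 1, 1, 2, 1, 1]),
  (2921478, [0, 2, 1, 2, 2]),
  (2949708, [0, 2, 1, 0]),
  (3031301, [1, 0, 1]),
  (3050016, [0, 2, 2, 2, 0]),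
  (3152963, [0, 2, 2, 2, 0, 0]),
  (3154402, [2, 2, 0, 2, 0]),
  (3168928, [0, 1, 0, 1]),
  (3172097, [0, 0, 0, 0, 1]),
  (3182981, [0, 0, 1, 0, 2]),
  (3189796, [2, 1, 0, 1, 0]),
  (3227948, [1, 0, 2, 2, 2, 0]),
  (3246601, [0, 1, 1, 1]),
  (3277413, [1, 1, 1, 0, 1]),
  (3294342, [0, 0, 2, 1, 2]),
  (3322370, [2, 0, 2, 2, 2]),
  (3328320, [1, 0, 2]),
  (3351624, [0, 1]),
  (3416079, [2, 0, 2, 2]),
  (3444840, [2, 1, 0]),
  (3474978, [0, 1, 2, 1, 1, 0]),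
  (3489985, [2, 0, 2]),
  (3539848, [0, 0, 0, 2, 0, 2]),
  (3610628, [0, 1, 0, 1, 2, 1]),
  (3672838, [0, 0, 1, 1, 1, 1, 2]),
  (3698756, [0, 0, 0, 1, 2, 2, 0]),
  (3704512, [2]),
  (3719203, [2, 0, 0, 0]),
  (3739786, [1, 0, 2, 0]),
  (3806496, [0, 0, 2, 1, 0, 0]),
  (3811457, [0, 2, 2, 0, 2]),
  (3951624, [1, 2, 1, 0, 2, 2]),
  (4038912, [0, 0, 1]),
  (4196943, [1, 0]),
  (4213932, [0, 0, 2, 2, 1]),
  (4223245, [1, 1, 1, 0]),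
  (4229001, [0, 1, 1, 2, 0]),
  (4241960, [0, 1, 1, 1, 0, 1]),
  (4243818, [0, 2, 1]),
  (4264387, [2, 0, 0, 0, 2]),
  (4271202, [0, 0, 0, 2, 0]),
  (4282144, [0, 1, 1, 2]),
  (4287105, [0, 2, 1, 2, 2, 1]),
  (4299781, [0, 2, 0, 2, 0, 1]),
  (4301220, [1, 1, 1, 1, 0]),
  (4330601, [0, 1, 0, 2]),
  (4336072, [0, 1, 1, 2, 1, 2]),
  (4346506, [2, 2, 1, 0, 0]),
  (4367374, [0, 0, 0, 1, 1, 1]),
  (4403780, [0, 1, 0, 1, 0, 1]),
  (4409606, [0, 0, 2, 0, 2, 1]),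
  (4424227, [2, 1, 2, 1]),
  (4441280, [0, 0, 1, 0]),
  (4459426, [0, 2, 0, 2, 1, 1]),
  (4470275, [2, 1, 2, 2]),
  (4476225, [1, 0, 2, 1, 2, 0]),
  (4485344, [0, 2, 2, 0, 1]),
  (4490852, [0, 0, 2]),
  (4505735, [0, 0, 1, 0, 2]),
  (4526126, [1, 0, 2, 1, 1]),
  (4563017, [0, 1, 0, 1, 2]),
  (4593028, [0, 1, 0, 2, 0, 0]),
  (4597797, [0, 1, 0, 1, 0, 1]),
  (4626498, [2, 0, 1, 0, 0, 0]),
  (4645632, [0, 0, 0, 0, 2]),
  (4656648, [1, 2, 1, 1]),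
  (4726026, [2, 0, 1, 2]),
  (4726955, [1, 0, 0, 1]),
  (4744776, [0, 0, 0, 0, 0, 2]),
  (4755660, [0, 0, 1, 1]),
  (4785798, [1, 0]),
  (4800613, [1, 0, 1, 0, 1, 1]),
  (4819776, [1, 0]),
  (4845570, [0, 1, 0]),
  (4850476, [2, 2, 1, 1]),
  (4900873, [1, 0, 2, 1, 0]),
  (4921504, [0, 1, 1, 0, 1, 2]),
  (4924673, [0, 0, 1, 1, 1, 1]),
  (4989254, [0, 1, 0, 2, 2]),
  (5003780, [2, 2, 0, 2, 2]),
  (5017889, [2, 0, 1]),
  (5024896, [0]),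
  (5063048, [0, 0, 2, 2, 0]),
  (5112513, [2, 2, 1, 2, 0]),
  (5129250, [1]),
  (5249380, [2, 2, 2, 2, 1]),
  (5252293, [0, 2, 0]),
  (5268006, [0, 1, 1, 2]),
  (5280930, [1, 2, 1, 2]),
  (5286147, [1, 0, 1, 2]),
  (5296705, [2, 0, 0, 0]),
  (5309160, [1, 1, 1, 2, 2, 2]),
  (5325835, [2, 1, 2, 2]),
  (5375810, [1]),
  (5390753, [0, 0, 0, 0, 2]),
  (5405696, [1, 1, 1, 2, 0]),
  (5409412, [0, 1, 2, 1, 1]),
  (5476616, [1, 2, 1, 2, 2]),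
  (5511305, [0, 2, 1, 1, 0]),
  (5514536, [2, 2, 0, 1, 1]),
  (5571333, [1, 2, 1, 2, 0]),
  (5621792, [0, 2, 0, 2, 0, 0]),
  (5652556, [0, 0, 2, 2, 0]),
  (5709954, [0, 2, 2, 0, 2, 1, 0]),
  (5770785, [0, 0, 2, 0]),
  (5780352, [0, 0, 0, 1]),
  (5785794, [0, 2, 1]),
  (5817604, [0, 0, 0, 0, 2, 0, 1]),
  (5842956, [1, 1, 1, 2, 1]),
  (5902343, [0, 1, 1, 2, 0, 1]),
  (5939296, [0, 0, 0, 0, 1, 1]),
  (6062602, [2]),
  (6100032, [1]),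
  (6292775, [2, 0, 1, 1, 0]),
  (6305926, [0, 0, 0, 0]),
  (6308804, [2, 0, 1, 2, 0]),
  (6326497, [0, 1, 0, 0, 2, 2]),
  (6337856, [0, 1, 1]),
  (6344194, [1, 0, 2, 2, 2]),
  (6365962, [0, 0, 1, 0, 1, 1]),
  (6379592, [0, 2, 1, 1, 0, 2, 1]),
  (6429441, [0, 1, 0, 2]),
  (6432416, [1, 0, 1, 1]),
  (6447171, [0, 0, 1, 2, 0]),
  (6475812, [2, 2, 2]),
  (6488205, [0, 1]),
  (6554826, [2, 2, 1, 0, 0]),
  (6570537, [0, 0, 0, 0, 1]),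
  (6588684, [1, 2, 0, 1, 0]),
  (6644740, [2, 2, 1, 0, 0, 1]),
  (6656640, [1, 1]),
  (6750560, [0, 1, 2, 0, 1, 2]),
  (6820450, [0, 1, 1, 2, 1]),
  (6837377, [1, 0, 1]),
  (6842656, [1, 0, 2, 2, 2, 1]),
  (6857221, [0, 0, 0, 2, 0, 0]),
  (6915112, [2, 0, 0]),
  (6949956, [0, 1, 1, 2, 0, 1]),
  (6979970, [2, 2, 0]),
  (7145475, [0, 0, 2, 1]),
  (7221256, [2, 2, 0, 1, 0]),
  (7345676, [0, 1, 2, 0, 2]),
  (7397512, [2, 2, 2, 2, 0]),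
  (7409024, [0, 1]),
  (7417889, [0, 1, 1, 1, 0, 2]),
  (7438406, [1, 0, 2, 2, 1, 2]),
  (7473194, [2, 1, 0]),
  (7612992, [0, 0]),
  (7622914, [1, 2, 0, 2, 0]),
  (7767041, [0, 2, 0, 1]),
  (7864649, [0, 1, 1, 2, 2]),
  (8077824, [1, 1, 1, 1, 2]),
  (8126628, [2, 2, 2]),
  (8394986, [1, 0, 1, 0]),
  (8398155, [0, 1, 2, 2, 0]),
  (8412681, [2, 2, 1]),
  (8414120, [1, 1, 1, 0, 0]),
  (8426796, [2, 1, 0, 0, 0]),
  (8431757, [0, 1, 1, 1, 1, 1]),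
  (8455014, [0, 1, 1, 1, 2]),
  (8471941, [1, 0, 2, 0, 1]),
  (8484900, [2, 0, 2, 2, 0]),
  (8490656, [1, 2, 1, 2, 0, 0]),
  (8499969, [2, 2, 2, 2, 0, 2]),
  (8505411, [0, 2, 2, 0]),
  (8521420, [0, 2, 1, 2, 1]),
  (8536111, []),
  (8555274, [1, 0, 0, 1, 2]),
  (8581192, [0, 1, 2, 1, 0, 0]),
  (8592704, [2, 2]),
  (8593633, [1, 0, 1, 1]),
  (8611330, [0, 1, 1, 1, 0]),
  (8622214, [2, 2]),
  (8657159, [2, 0, 0, 1]),
  (8660134, [1, 2, 1, 1, 2]),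
  (8675909, [1, 0, 0, 1, 0]),
  (8688833, [1, 2, 1]),
  (8694112, [1, 0, 2, 1]),
  (8704546, [0, 1, 0]),
  (8716939, [0, 1, 2, 1, 2]),
  (8733800, [1, 0, 2, 1]),
  (8783649, [0, 0, 1, 0, 1]),
  (8796800, [0, 0]),
  (8798658, [1, 0, 2]),
  (8834052, [2, 1]),
  (8855820, [2, 1, 0, 2]),
  (8925710, [1, 1, 2, 2]),
  (8931660, [2, 2, 1, 1, 2]),
  (8946281, [1, 1, 1, 0, 0, 2]),
  (8963210, [0, 0, 2, 2]),
  (8983587, [2, 0, 1, 0, 2]),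
  (8989058, [0, 1, 1, 2, 2, 2]),
  (8999616, [0, 1, 0, 0, 2]),
  (9020484, [0, 0, 0, 0, 0, 1, 0]),
  (9048457, [0, 2, 1, 2]),
  (9055272, [0, 0, 1, 2]),
  (9112069, [1, 1, 0, 1]),
  (9158944, [0, 0, 1, 2, 1, 2]),
  (9178690, [2, 1, 0, 0, 1, 1]),
  (9193633, [0, 0, 2, 0]),
  (9204992, [2, 0, 1, 1, 1]),
  (9208708, [0, 2, 2, 1]),
  (9279496, [2, 0, 2, 0]),
  (9310308, [0, 1, 1, 2, 2, 1]),
  (9347075, [1, 0, 1, 1, 0]),
  (9440193, [2, 0, 1, 0]),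
  (9451104, [1, 1, 1, 2, 2]),
  (9456930, [0, 2]),
  (9465987, [1, 1, 2, 0]),
  (9471495, [0, 1, 2, 0, 1]),
  (9486564, [0, 2, 1, 2, 1, 2]),
  (9506893, [2, 0, 0, 0, 0]),
  (9543722, [0, 0, 0, 1, 1, 2]),
  (9578566, [0, 0, 0, 2]),
  (9589508, [2, 0, 1, 2, 0]),
  (9607201, [0, 0, 2, 2, 2]),
  (9610624, [0, 2, 2, 0, 2, 1]),
  (9652360, [2, 0, 1, 0, 0]),
  (9701932, [0, 0, 1, 2, 2]),
  (9748745, [2, 0, 1, 0]),
  (9769376, [0, 0, 1, 0, 2, 0]),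
  (9776129, [2, 0, 1, 1, 2, 1]),
  (9835530, [1, 0, 1, 1, 1]),
  (9929280, [0, 0, 0, 2, 1, 0]),
  (9968772, [0, 0, 0, 1, 0, 1]),
  (9969957, [2, 2, 1, 0, 2]),
  (9998658, [0, 1, 1, 0, 1]),
  (10021376, [0, 1, 0, 1, 2, 0]),
  (10028808, [0, 0, 1]),
  (10093218, [1, 2, 1, 0]),
  (10110017, [0, 1, 1, 0, 0, 1]),
  (10232008, [0, 1, 0, 2, 1, 1]),
  (10305542, [2, 0]),
  (10491778, [0, 1, 0, 2, 0]),
  (10496547, [2, 2, 2, 1]),
  (10506593, [0, 1, 2, 0, 2, 2]),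
  (10513600, [2, 2, 0, 1]),
  (10525252, [0, 0, 2, 1, 0]),
  (10543366, [0, 1, 2]),
  (10554382, [0, 2, 2, 2]),
  (10584520, [1, 2, 1, 0, 1]),
  (10619300, [2, 0, 0, 1, 0]),
  (10630149, [0, 1, 1]),
  (10650722, [1, 1, 0, 1, 0]),
  (10666625, [2, 1, 1, 0]),
  (10687016, [0, 0, 2, 1, 1, 1]),
  (10768524, [2, 0, 0, 2]),
  (10790408, [1, 1, 1, 2]),
  (10825794, [0, 1, 1, 1, 2]),
  (10832640, [0, 2, 1, 1, 0, 0]),
  (10846245, [2, 2, 0, 0, 0]),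
  (10881097, [1, 2, 1, 1]),
  (11010247, [2, 2, 1, 1, 1]),
  (11028004, [1, 0, 0]),
  (11046145, [2, 2, 2, 0, 0]),
  (11055264, [1, 1, 1, 1, 2, 1]),
  (11100169, [0, 1, 2, 1, 0]),
  (11150144, [0, 1, 0, 2, 1]),
  (11163650, [1, 2, 1, 1, 0]),
  (11272490, [0, 0, 1]),
  (11469952, [2, 0, 1, 0, 0]),
  (11535529, [0, 0, 0, 1, 1]),
  (11548936, [2, 0, 0, 2]),
  (11551306, [0, 1, 1, 0, 1]),
  (11608708, [0, 1, 2]),
  (11654144, [0, 1, 1, 1, 0]),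
  (11731203, [2, 1, 2, 2, 2]),
  (11797828, [1, 2, 1, 1, 2]),
  (11831426, [0, 2, 1, 2, 0]),
  (11952160, [0, 2, 2, 2, 2]),
  (12126304, [0, 0, 1, 2]),
  (12222476, [0, 1, 1, 1, 1]),
  (12325377, [2, 2, 2, 2, 2]),
  (12587685, [2, 2, 0, 2, 1]),
  (12594948, [1, 2, 0, 2, 1]),
  (12604486, [0, 0, 0, 0]),
  (12624578, [0, 1, 2, 2, 2, 2]),
  (12638592, [0, 0, 1, 1, 2]),
  (12641313, [2, 0, 0, 2, 2]),
  (12650793, [2, 1, 1]),
  (12661896, [2, 1, 0, 2]),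
  (12698124, [0, 1, 2, 0, 2]),
  (12717187, [1, 0, 2, 2, 1]),
  (12726562, [0, 1, 1, 0]),
  (12733024, [0, 0]),
  (12747077, [1, 2, 1]),
  (12849992, [2, 2, 1]),
  (12871690, [0, 2, 1, 1, 0, 2]),
  (12912836, [0, 2, 2, 2]),
  (12944642, [0, 2, 1, 1, 0, 2]),
  (13009064, [1, 0, 1, 0, 2]),
  (13062145, [0, 0, 2, 1, 1]),
  (13108704, [2, 2, 1, 2]),
  (13121601, [0, 1, 2, 0, 1, 0, 1]),
  (13124355, [0, 1, 0, 2, 0]),
  (13142054, [0, 0, 2, 1, 0]),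
  (13262980, [0, 0, 0, 1]),
  (13276672, [0, 0, 1, 2, 1, 2]),
  (13303882, [2, 2, 2, 0, 2]),
  (13370381, [0]),
  (13443616, [0, 2, 0, 0]),
  (13631886, [0, 0, 1, 2, 1]),
  (13667400, [1, 0, 2, 1, 2, 2]),
  (13703682, [0, 1, 2, 0, 1]),
  (13721920, [0, 0, 0, 1]),
  (13771273, [0, 1, 1, 1]),
  (13829156, [0, 1, 2, 0, 1, 0]),
  (13893731, [2, 2, 1, 2]),
  (13911680, [0, 1, 1, 2, 0, 0]),
  (13938692, [0, 1, 1]),
  (14176296, [0, 1, 0, 1, 0, 0]),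
  (14254209, [0, 0, 0, 2, 1]),
  (14551296, [1, 2, 1, 0]),
  (14688364, [1, 0, 1, 2, 0]),
  (14716939, [2, 0, 1, 2]),
  (14747201, [0, 0, 2, 0, 0]),
  (14762146, [1, 1]),
  (14828808, [2, 2, 1, 0]),
  (14919680, [0, 2, 0, 1, 1]),
  (14949408, [0, 0, 1, 0, 1]),
  (14950785, [0]),
  (15073798, [0, 1, 0, 2, 1]),
  (15207048, [0, 0, 1, 2, 1, 2, 1]),
  (15274244, [1, 2, 1, 1, 1]),
  (15515712, [1, 1]),
  (15747077, [2, 2, 0, 2, 2]),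
  (15762208, [2, 1, 0, 2, 2]),
  (15864000, [2, 2, 2, 0, 0, 0]),
  (16262146, [1, 0, 1, 1, 1])]

/-- Generators for the configuration `inOut`. -/
def inOutGens : List (List ℕ) := [
  [3, 17, 5, 0, 4, 1, 22, 7, 13, 12, 9, 10, 11, 20, 14, 21, 8, 2, 19, 15, 16, 18, 6, 23],
  [5, 14, 2, 0, 4, 3, 19, 21, 11, 6, 7, 16, 13, 18, 17, 15, 8, 1, 12, 9, 20, 10, 22, 23],
  [17, 14, 5, 1, 4, 2, 13, 21, 16, 11, 9, 15, 8, 10, 3, 6, 12, 0, 19, 20, 22, 18, 7, 23]]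

/-- Representatives by intersection, `inOut`. -/
def inOutReps : List (ℕ × ℕ) := [(2, 8490656), (4, 8394986), (8, 8536111)]

/-- Words to every member, `inOut`. -/
def inOutWords : List (ℕ × List ℕ) := [
  (8394986, []),
  (8398155, [1, 2, 2, 0, 2]),
  (8412681, [0, 1, 2, 2, 1]),
  (8414120, [0, 2, 2, 1, 1]),
  (8426796, [1, 1, 2, 0]),
  (8431757, [2, 2, 1, 0]),
  (8455014, [1, 1, 2, 1]),
  (8471941, [1, 0, 1, 0, 1]),
  (8484900, [1, 1, 2, 1, 2]),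
  (8490656, []),
  (8499969, [0, 2, 1, 2]),
  (8505411, [2, 0, 0, 2, 0]),
  (8521420, [0, 0]),
  (8536111, []),
  (8555274, [0, 2, 2, 1, 0]),
  (8581192, [1, 2, 2, 0]),
  (8592704, [0, 2, 1]),
  (8593633, [1, 0, 1, 2, 2]),
  (8611330, [0, 1, 0, 1, 1]),
  (8622214, [2, 1, 1]),
  (8657159, [0, 1, 2, 0, 1, 0]),
  (8660134, [0, 0, 0, 1, 2]),
  (8675909, [0, 1, 1, 0]),
  (8688833, [0, 1, 2, 1]),
  (8694112, [2, 2]),
  (8704546, [2, 1, 0, 0]),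
  (8716939, [0, 1, 1, 2]),
  (8733800, [2, 2]),
  (8783649, [1, 1]),
  (8796800, [0, 0]),
  (8798658, [0, 1, 0]),
  (8834052, [2, 1]),
  (8855820, [2, 1, 1, 2, 2]),
  (8925710, [1, 1, 0]),
  (8931660, [1, 1, 2, 1, 1]),
  (8946281, [2, 1, 2]),
  (8963210, [0, 2, 1, 1]),
  (8983587, [0, 2, 2, 1]),
  (8989058, [0, 2, 1, 1]),
  (8999616, [0, 1, 0, 0]),
  (9020484, [2, 1]),
  (9048457, [2, 2, 1]),
  (9055272, [0, 1, 1, 0, 2]),
  (9112069, [1, 1, 2]),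
  (9158944, [2, 0, 0, 0]),
  (9178690, [2, 0, 0]),
  (9193633, [0, 1, 2, 0]),
  (9204992, [0, 2, 0]),
  (9208708, [2, 0, 2]),
  (9279496, [0, 2, 2]),
  (9310308, [0, 1, 1, 0, 1]),
  (9347075, [0, 2, 2, 2]),
  (9440193, [2, 0, 1, 0]),
  (9451104, [2, 1, 2]),
  (9456930, [1, 1, 0, 2]),
  (9465987, [1, 2, 1]),
  (9471495, [0, 1, 1, 0, 2, 0]),
  (9486564, [0, 1, 0, 0, 0]),
  (9506893, [2, 0, 0, 0, 2]),
  (9543722, [1, 0, 1, 1]),
  (9578566, [2, 1, 2, 2]),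
  (9589508, [2, 0, 0, 1]),
  (9607201, [1, 0, 1]),
  (9610624, [0, 2, 1, 1, 0]),
  (9652360, [1, 2, 1, 0]),
  (9701932, [2, 1, 0, 2]),
  (9748745, [1, 0]),
  (9769376, [0, 0, 0, 1, 0]),
  (9776129, [0, 1, 0, 0, 1, 2]),
  (9835530, [1, 2]),
  (9929280, [1, 1, 2]),
  (9968772, [0, 0, 0]),
  (9969957, [0, 1, 1, 0, 1, 2]),
  (9998658, [0, 2, 2, 2]),
  (10021376, [0, 2, 0, 0]),
  (10028808, [0, 2, 0, 2]),
  (10093218, [2, 0, 2, 2]),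
  (10110017, [0, 2, 2, 2, 2]),
  (10232008, [1, 0, 0]),
  (10305542, [2, 0, 0]),
  (10491778, [0]),
  (10496547, [0, 0, 2]),
  (10506593, [2, 1, 1, 2]),
  (10513600, [0, 1]),
  (10525252, [2]),
  (10543366, [2]),
  (10554382, [1, 0, 1, 0]),
  (10584520, [1]),
  (10619300, [0, 0, 0, 2]),
  (10630149, [0, 1, 2, 1]),
  (10650722, [0, 2, 1]),
  (10666625, [0, 2]),
  (10687016, [0, 1, 2, 0, 1]),
  (10768524, [0, 1, 2]),
  (10790408, [0, 1, 2]),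
  (10825794, [1, 2]),
  (10832640, [0, 2]),
  (10846245, [0, 0, 0, 2, 2]),
  (10881097, [0, 2, 2]),
  (11010247, [0, 0, 1]),
  (11028004, [2, 1, 0]),
  (11046145, [1, 1]),
  (11055264, [2, 0, 2, 0]),
  (11100169, [1]),
  (11150144, [0, 1, 0, 0, 1]),
  (11163650, [0, 1, 0, 1]),
  (11272490, [0, 1, 2, 2]),
  (11469952, [0, 1, 1]),
  (11535529, [0, 1, 0, 0, 2]),
  (11548936, [0, 1, 0, 0, 2]),
  (11551306, [0, 2, 1, 1, 2]),
  (11608708, [0, 0, 0, 1]),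
  (11654144, [0, 2, 0, 0, 0]),
  (11731203, [2, 2, 1, 2]),
  (11797828, [0, 0, 0, 1, 1]),
  (11831426, [0, 1, 0, 2, 2]),
  (11952160, [2, 0]),
  (12126304, [2, 0, 2, 2]),
  (12222476, [0, 1, 2, 0, 2]),
  (12325377, [0, 1, 1, 2]),
  (12587685, [0, 0, 0]),
  (12594948, [0, 2, 1, 0]),
  (12604486, [0, 2, 1, 0, 1]),
  (12624578, [2, 0, 0, 0, 1]),
  (12638592, [0, 1, 0, 0, 0]),
  (12641313, [2, 1, 2, 0, 1]),
  (12650793, [2, 0, 0, 1, 2]),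
  (12661896, [2, 0, 1]),
  (12698124, [1, 1, 0, 2, 2]),
  (12717187, [0]),
  (12726562, [1, 1, 2, 1, 0]),
  (12733024, [1, 2, 2, 1]),
  (12747077, [1, 0, 1, 2]),
  (12849992, [0, 1, 0, 2, 1, 0]),
  (12871690, [2, 1, 1, 2, 0]),
  (12912836, [2, 1, 0, 2]),
  (12944642, [2, 0, 2, 2, 0]),
  (13009064, [0, 0, 1, 0]),
  (13062145, [2, 2, 1, 2, 2]),
  (13108704, [2, 1, 0, 2, 0]),
  (13121601, [1, 1, 2, 2]),
  (13124355, [1, 2, 2]),
  (13142054, [1, 0, 1, 2, 1]),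
  (13262980, [0, 1, 0, 0]),
  (13276672, [2, 0, 0, 0]),
  (13303882, [1, 0, 2]),
  (13370381, [2, 0, 2]),
  (13443616, [1, 1, 2, 2, 1]),
  (13631886, [2, 0, 0, 2, 2]),
  (13667400, [2, 1, 0, 1]),
  (13703682, [1, 2, 0, 1]),
  (13721920, [0, 2, 2, 2, 2]),
  (13771273, [2, 0, 0, 2, 1]),
  (13829156, [2, 1, 2, 2, 0]),
  (13893731, [0, 0, 0, 1, 0]),
  (13911680, [0, 1, 0]),
  (13938692, [2, 0, 2, 2, 2]),
  (14176296, [2, 0, 0, 2]),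
  (14254209, [1, 0, 0, 0]),
  (14551296, [1, 2, 0]),
  (14688364, [0, 0, 0, 1]),
  (14716939, [2, 1, 2, 0]),
  (14747201, [0, 1, 0, 2, 1]),
  (14762146, [0, 1]),
  (14828808, [0, 1, 1]),
  (14919680, [0, 2, 2, 2, 0]),
  (14949408, [2, 0]),
  (14950785, [1, 0]),
  (15073798, [0, 2, 1, 0]),
  (15207048, [0, 1, 0, 2]),
  (15274244, [1, 1, 2, 0]),
  (15515712, [0, 1, 0, 2, 2, 2]),
  (15747077, [1, 2, 2, 0, 0]),
  (15762208, [2, 1, 0]),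
  (15864000, [0, 1, 0, 1]),
  (16262146, [2, 2, 0])]

/-- One step of a word. -/
def applyWord (gens : List (List ℕ)) (w : List ℕ) (t : ℕ) : ℕ := w.foldl (fun t j => imgMask (gens.getD j []) t) t

/-- The check of one configuration. -/
def confOK (gens : List (List ℕ)) (pts : List ℕ) (pred : ℕ → Bool) (reps : List (ℕ × ℕ))
    (words : List (ℕ × List ℕ)) : Bool :=
  gens.all (fun g => keepsCode g && imgMask g baseOctad == baseOctad && pts.all fun i => decide (i < 24) && g.getD i 0 == i) &&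
    (octMasks.filter pred == words.map Prod.fst) &&
    words.all fun e => e.2.all (fun j => decide (j < gens.length)) &&
      applyWord gens e.2 ((reps.lookup (pop (e.1 &&& baseOctad))).getD 0) == e.1

theorem word_spec {gens : List (List ℕ)} {pts : List ℕ}
    (hg : gens.all (fun g => keepsCode g && imgMask g baseOctad == baseOctad && pts.all fun i => decide (i < 24) && g.getD i 0 == i) = true) :
    ∀ (w : List ℕ) (t : ℕ), (∀ j ∈ w, j < gens.length) →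
      ∃ g ∈ M24, g • baseO = baseO ∧ (∀ i ∈ pts, g (pt i) = pt i) ∧ g • toSet t = toSet (applyWord gens w t)
  | [], t, _ => ⟨1, M24.one_mem, one_smul _ _, fun _ _ => rfl, one_smul _ _⟩
  | j :: w, t, h => by
    have hj : j < gens.length := h j (List.mem_cons_self ..)
    have hm : gens.getD j [] ∈ gens := by rw [List.getD_eq_getElem _ _ hj]; exact List.getElem_mem hj
    have hc := List.all_eq_true.1 hg _ hm
    simp only [Bool.and_eq_true, beq_iff_eq, List.all_eq_true, decide_eq_true_eq] at hc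
    obtain ⟨⟨hk, hB⟩, hp⟩ := hc
    have hperm : isPermList (gens.getD j []) = true := by
      have := hk; simp only [keepsCode, Bool.and_eq_true] at this; exact this.1
    obtain ⟨g, hgm, hgB, hgp, hge⟩ := word_spec hg w (imgMask (gens.getD j []) t) fun k hk => h k (List.mem_cons_of_mem _ hk)
    refine ⟨g * permOf (gens.getD j []), M24.mul_mem hgm (permOf_mem_M24 hk), ?_, fun i hi => ?_, ?_⟩
    · rw [mul_smul, show permOf (gens.getD j []) • baseO = baseO by rw [baseO, ← toSet_imgMask hperm, hB], hgB]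
    · rw [Equiv.Perm.mul_apply, permOf_pt hperm (hp i hi).1, (hp i hi).2, hgp i hi]
    · rw [mul_smul, ← toSet_imgMask hperm, hge]
      rfl

theorem conf_trans {gens : List (List ℕ)} {pts : List ℕ} {pred : ℕ → Bool} {reps : List (ℕ × ℕ)}
    {words : List (ℕ × List ℕ)} (h : confOK gens pts pred reps words = true)
    {m n : ℕ} (hm : m ∈ octMasks) (hn : n ∈ octMasks) (pm : pred m = true) (pn : pred n = true)
    (he : pop (m &&& baseOctad) = pop (n &&& baseOctad)) :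
    ∃ g ∈ M24, g • baseO = baseO ∧ (∀ i ∈ pts, g (pt i) = pt i) ∧ g • toSet m = toSet n := by
  simp only [confOK, Bool.and_eq_true, beq_iff_eq] at h
  obtain ⟨⟨hg, hf⟩, hw⟩ := h
  have key : ∀ a ∈ octMasks, pred a = true → ∃ g ∈ M24, g • baseO = baseO ∧ (∀ i ∈ pts, g (pt i) = pt i) ∧
      g • toSet ((reps.lookup (pop (a &&& baseOctad))).getD 0) = toSet a := by
    intro a ha pa
    obtain ⟨e, hew, rfl⟩ := List.mem_map.1 (hf ▸ List.mem_filter.2 ⟨ha, pa⟩ : a ∈ words.map Prod.fst)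
    have hc := List.all_eq_true.1 hw e hew
    simp only [Bool.and_eq_true, List.all_eq_true, decide_eq_true_eq, beq_iff_eq] at hc
    obtain ⟨g, h1, h2, h3, h4⟩ := word_spec hg e.2 ((reps.lookup (pop (e.1 &&& baseOctad))).getD 0) hc.1
    exact ⟨g, h1, h2, h3, h4.trans (by rw [hc.2])⟩
  obtain ⟨a, a1, a2, a3, a4⟩ := key m hm pm
  obtain ⟨b, b1, b2, b3, b4⟩ := key n hn pn
  refine ⟨b * a⁻¹, M24.mul_mem b1 (M24.inv_mem a1), ?_, fun i hi => ?_, ?_⟩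
  · rw [mul_smul, inv_smul_eq_iff.2 a2.symm, b2]
  · rw [Equiv.Perm.mul_apply, show a⁻¹ (pt i) = pt i from Equiv.Perm.inv_eq_iff_eq.2 (a3 i hi).symm, b3 i hi]
  · rw [← he] at b4
    rw [← a4, mul_smul, inv_smul_smul, b4]

/-- The predicate for two points inside. -/
def predTwo (t : ℕ) : Bool := t.testBit (baseIdx 0) && t.testBit (baseIdx 1)
/-- The predicate for one point inside. -/
def predIn (t : ℕ) : Bool := t.testBit (baseIdx 0)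
/-- The predicate for one point outside. -/
def predOut (t : ℕ) : Bool := !t.testBit (baseIdx 5)
/-- The predicate for a point inside and one outside. -/
def predInOut (t : ℕ) : Bool := t.testBit (baseIdx 0) && !t.testBit (baseIdx 5)

theorem inTwo_ok : confOK inTwoGens [baseIdx 0, baseIdx 1] predTwo inTwoReps inTwoWords = true := by decide +kernel
theorem inOne_ok : confOK inOneGens [baseIdx 0] predIn inOneReps inOneWords = true := by decide +kernel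
theorem outOne_ok : confOK outOneGens [baseIdx 5] predOut outOneReps outOneWords = true := by decide +kernel
theorem inOut_ok : confOK inOutGens [baseIdx 0, baseIdx 5] predInOut inOutReps inOutWords = true := by decide +kernel

theorem counts :
    octMasks.countP (fun t => predTwo t && pop (t &&& baseOctad) == 2) = 16 ∧
    octMasks.countP (fun t => predTwo t && pop (t &&& baseOctad) == 4) = 60 ∧
    octMasks.countP (fun t => predIn t && pop (t &&& baseOctad) == 2) = 112 ∧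
    octMasks.countP (fun t => predIn t && pop (t &&& baseOctad) == 4) = 140 ∧
    octMasks.countP (fun t => predOut t && pop (t &&& baseOctad) == 0) = 15 ∧
    octMasks.countP (fun t => predOut t && pop (t &&& baseOctad) == 4) = 210 ∧
    octMasks.countP (fun t => predOut t && pop (t &&& baseOctad) == 2) = 280 ∧
    octMasks.countP predInOut = 176 ∧
    octMasks.countP (fun t => predInOut t && pop (t &&& baseOctad) == 2) = 70 ∧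
    octMasks.countP (fun t => predInOut t && pop (t &&& baseOctad) == 4) = 105 := by decide +kernel

theorem baseP_five_notMem : baseP 5 ∉ baseO := by decide +kernel

theorem testBit_baseIdx (t : ℕ) {i : ℕ} (hi : i < 7) : t.testBit (baseIdx i) = true ↔ baseP i ∈ toSet t := by
  rw [mem_toSet, baseP, idx_pt (baseIdx_lt i hi)]

theorem inter_card (t : ℕ) : (baseO ∩ toSet t).card = pop (t &&& baseOctad) := by
  rw [Finset.inter_comm, baseO, ← toSet_and, card_toSet]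

theorem exists_octMask {o : Finset GolayPt} (ho : o ∈ octads) : ∃ m ∈ octMasks, toSet m = o :=
  ⟨setNat o, (mem_octads_iff o).1 ho, toSet_setNat o⟩

/-- Move an octad and a point inside it, and a point outside it, to the standard ones. -/
theorem exists_std {o : Finset GolayPt} (ho : o ∈ octads) {p p' q : GolayPt} (hp : p ∈ o) (hp' : p' ∈ o)
    (hne : p ≠ p') (hq : q ∉ o) :
    ∃ τ ∈ M24, τ • o = baseO ∧ τ p = baseP 0 ∧ τ p' = baseP 1 ∧ τ q = baseP 5 := by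
  obtain ⟨t, ht, htc⟩ := Finset.exists_subset_card_eq (show 3 ≤ ((o.erase p).erase p').card by
    rw [Finset.card_erase_of_mem (Finset.mem_erase.2 ⟨Ne.symm hne, hp'⟩), Finset.card_erase_of_mem hp, ho.2]; norm_num)
  obtain ⟨e⟩ : Nonempty (Fin 3 ≃ t) := ⟨(t.equivFinOfCardEq htc).symm⟩
  have hmem : ∀ i, (e i : GolayPt) ≠ p ∧ (e i : GolayPt) ≠ p' ∧ (e i : GolayPt) ∈ o := fun i => by
    have h := ht (e i).2
    simp only [Finset.mem_erase] at h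
    exact ⟨h.2.1, h.1, h.2.2⟩
  let x : Fin 5 ↪ GolayPt := ⟨![p, p', e 0, e 1, e 2], by
    intro i j h
    fin_cases i <;> fin_cases j <;> first
      | rfl
      | exact absurd h hne | exact absurd h.symm hne
      | exact absurd h (hmem 0).1.symm | exact absurd h (hmem 0).1 | exact absurd h (hmem 0).2.1.symm | exact absurd h (hmem 0).2.1
      | exact absurd h (hmem 1).1.symm | exact absurd h (hmem 1).1 | exact absurd h (hmem 1).2.1.symm | exact absurd h (hmem 1).2.1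
      | exact absurd h (hmem 2).1.symm | exact absurd h (hmem 2).1 | exact absurd h (hmem 2).2.1.symm | exact absurd h (hmem 2).2.1
      | exact absurd (e.injective (Subtype.ext h)) (by decide)⟩
  obtain ⟨σ, hσ, hs⟩ := exists_tuple_to_base le_rfl x
  have hσo : σ • o = baseO := by
    refine octad_eq_of_five (smul_mem_words hσ ho) baseO_mem ?_
    have hsub : Finset.univ.map (x.trans σ.toEmbedding) ⊆ σ • o ∩ baseO := by
      intro y hy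
      obtain ⟨i, -, rfl⟩ := Finset.mem_map.1 hy
      refine Finset.mem_inter.2 ⟨Finset.smul_mem_smul_finset (a := σ) ?_, ?_⟩
      · fin_cases i
        · exact hp
        · exact hp'
        · exact (hmem 0).2.2
        · exact (hmem 1).2.2
        · exact (hmem 2).2.2
      · show σ (x i) ∈ baseO
        rw [hs i]; exact baseP_mem_baseO i.isLt
    refine le_trans ?_ (Finset.card_le_card hsub)
    simp
  have hσq : σ q ∉ baseO := fun h => hq (by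
    rw [← hσo] at h
    exact (Finset.smul_mem_smul_finset_iff σ).1 h)
  obtain ⟨g, hg, hge⟩ := OctadStab.fixer_transitive baseO_mem hσq baseP_five_notMem
  refine ⟨g * σ, M24.mul_mem hg.1 hσ, by rw [mul_smul, hσo, (OctadStab.fixer_le_octStab baseO hg).2], ?_, ?_, ?_⟩
  · rw [Equiv.Perm.mul_apply, show σ p = baseP 0 from hs 0, hg.2 _ (baseP_mem_baseO (by norm_num))]
  · rw [Equiv.Perm.mul_apply, show σ p' = baseP 1 from hs 1, hg.2 _ (baseP_mem_baseO (by norm_num))]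
  · rw [Equiv.Perm.mul_apply, hge]

theorem ncard_conj {P Q : Finset GolayPt → Prop} {τ : Equiv.Perm GolayPt} (hτ : τ ∈ M24)
    (h : ∀ x, x ∈ octads → (P x ↔ Q (τ • x))) :
    {x | x ∈ octads ∧ P x}.ncard = {x | x ∈ octads ∧ Q x}.ncard := by
  refine Set.ncard_congr (fun x _ => τ • x) (fun x hx => ⟨smul_mem_words hτ hx.1, (h x hx.1).1 hx.2⟩)
    (fun a b _ _ e => MulAction.injective τ e) fun y hy => ?_
  have hy' : τ⁻¹ • y ∈ octads := smul_mem_words (M24.inv_mem hτ) hy.1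
  exact ⟨τ⁻¹ • y, ⟨hy', (h _ hy').2 (by rw [smul_inv_smul]; exact hy.2)⟩, smul_inv_smul τ y⟩

theorem ncard_base {Q : Finset GolayPt → Prop} {b : ℕ → Bool} {k : ℕ}
    (hb : ∀ n ∈ octMasks, (b n = true ↔ Q (toSet n))) (hk : octMasks.countP b = k) :
    {x | x ∈ octads ∧ Q x}.ncard = k := by
  rw [ncard_octads_filter Q b fun n hn => (hb n hn).symm, hk]

end Cfsg.Lib.Golay.OctOrbits
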