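import Mathlib
import Cfsg.Prelude.Def_Sporadic_a
import Cfsg.Prelude.Def_KGroupFacts
import Cfsg.Prelude.Def_Spor_Mathieu
import Cfsg.Agent.Lib.Golay.Autom

/-!
Outer automorphism groups of the large Mathieu groups.
-/

set_option autoImplicit false

namespace Cfsg.Lib.Golay

open Cfsg
open scoped Pointwise

theorem M24_eq_fixer : M24 = fixer ∅ := by ext g; simp [mem_fixer]

theorem M23_eq_fixer : Spor.M23 = fixer {none} := by
  ext g; simp [mem_fixer, Spor.M23, MulAction.mem_stabilizer_iff, Equiv.Perm.smul_def]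

theorem M22_eq_fixer : Spor.M22 = fixer {none, some 0} := by
  ext g
  simp [mem_fixer, Spor.M22, Spor.M23, MulAction.mem_stabilizer_iff, Equiv.Perm.smul_def, and_assoc]

theorem mem_inn_of_conj {K : Subgroup (Equiv.Perm GolayPt)} {φ : MulAut K} {σ : Equiv.Perm GolayPt}
    (hσ : σ ∈ K) (h : ∀ g : K, ((φ g : K) : Equiv.Perm GolayPt) = σ * g * σ⁻¹) : φ ∈ Inn K :=
  ⟨⟨σ, hσ⟩, MulEquiv.ext fun g => Subtype.ext (by rw [h g, MulAut.conj_apply]; rfl)⟩

theorem out_card_one {K : Subgroup (Equiv.Perm GolayPt)} (h : ∀ φ : MulAut K, φ ∈ Inn K) :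
    Nat.card (Out K) = 1 := by
  rw [Nat.card_eq_one_iff_unique]
  refine ⟨⟨fun x y => ?_⟩, ⟨1⟩⟩
  obtain ⟨a, rfl⟩ := QuotientGroup.mk_surjective x
  obtain ⟨b, rfl⟩ := QuotientGroup.mk_surjective y
  exact QuotientGroup.eq.2 (h _)

theorem out_M24 : Nat.card (Out ↥M24) = 1 := by
  rw [M24_eq_fixer]
  refine out_card_one fun φ => ?_
  obtain ⟨σ, hfix, hσ⟩ := exists_perm_of_autom (Or.inl rfl) φ
  obtain ⟨h1, h2⟩ := normalizes_of_autom φ hσ
  exact mem_inn_of_conj ⟨normalizer_fixer_empty h1 h2, by simp⟩ hσ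

theorem out_M23 : Nat.card (Out ↥Spor.M23) = 1 := by
  rw [M23_eq_fixer]
  refine out_card_one fun φ => ?_
  obtain ⟨σ, hfix, hσ⟩ := exists_perm_of_autom (Or.inr (Or.inl ⟨none, rfl⟩)) φ
  obtain ⟨h1, h2⟩ := normalizes_of_autom φ hσ
  exact mem_inn_of_conj
    ⟨normalizer_fixer_one (hfix none (Finset.mem_singleton_self _)) h1 h2, hfix⟩ hσ

/-- An element of `M24` interchanging `none` and `some 0`. -/
theorem exists_swap_elem : ∃ w ∈ M24, w none = some 0 ∧ w (some 0) = none := by
  let x : Fin 2 ↪ GolayPt := ⟨![none, some 0], by decide⟩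
  let y : Fin 2 ↪ GolayPt := ⟨![some 0, none], by decide⟩
  obtain ⟨g, hg, hgx⟩ := exists_tuple_to_base (show 2 ≤ 5 by norm_num) x
  obtain ⟨k, hk, hky⟩ := exists_tuple_to_base (show 2 ≤ 5 by norm_num) y
  refine ⟨k⁻¹ * g, Subgroup.mul_mem _ (Subgroup.inv_mem _ hk) hg, ?_, ?_⟩
  · rw [Equiv.Perm.mul_apply, Equiv.Perm.inv_eq_iff_eq]
    exact (hgx 0).trans (hky 0).symm
  · rw [Equiv.Perm.mul_apply, Equiv.Perm.inv_eq_iff_eq]
    exact (hgx 1).trans (hky 1).symm

/-- Conjugation by an element normalising the fixer of two points. -/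
def pairAut (w : Equiv.Perm GolayPt) (hw : w ∈ M24)
    (hwA : ∀ a ∈ ({none, some 0} : Finset GolayPt), w a ∈ ({none, some 0} : Finset GolayPt))
    (hwA' : ∀ a ∈ ({none, some 0} : Finset GolayPt), w⁻¹ a ∈ ({none, some 0} : Finset GolayPt)) :
    MulAut (fixer {none, some 0}) where
  toFun g := ⟨w * g * w⁻¹,
    ⟨Subgroup.mul_mem _ (Subgroup.mul_mem _ hw g.2.1) (Subgroup.inv_mem _ hw), fun a ha => by
      rw [Equiv.Perm.mul_apply, Equiv.Perm.mul_apply, g.2.2 _ (hwA' a ha), Equiv.Perm.coe_inv,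
        Equiv.apply_symm_apply]⟩⟩
  invFun g := ⟨w⁻¹ * g * w,
    ⟨Subgroup.mul_mem _ (Subgroup.mul_mem _ (Subgroup.inv_mem _ hw) g.2.1) hw, fun a ha => by
      rw [Equiv.Perm.mul_apply, Equiv.Perm.mul_apply, g.2.2 _ (hwA a ha), Equiv.Perm.coe_inv,
        Equiv.symm_apply_apply]⟩⟩
  left_inv g := Subtype.ext (by simp only; group)
  right_inv g := Subtype.ext (by simp only; group)
  map_mul' g k := Subtype.ext (by simp only [Subgroup.coe_mul]; group)

theorem pairAut_apply (w : Equiv.Perm GolayPt) (hw : w ∈ M24) (hwA hwA') (g : fixer {none, some 0}) :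
    ((pairAut w hw hwA hwA' g : fixer {none, some 0}) : Equiv.Perm GolayPt) = w * g * w⁻¹ := rfl

/-- A permutation centralising the fixer of `none` and `some 0` fixes every other point. -/
theorem centralizes_fixer_pair {c : Equiv.Perm GolayPt}
    (hc : ∀ g ∈ fixer {none, some 0}, c * g = g * c) (p : GolayPt)
    (hp : p ∉ ({none, some 0} : Finset GolayPt)) : c p = p := by
  by_contra hne
  have key : ∀ g ∈ fixer {none, some 0}, g p = p → g (c p) = c p := fun g hg hgp => by
    calc g (c p) = (g * c) p := rfl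
      _ = (c * g) p := by rw [hc g hg]
      _ = c p := by rw [Equiv.Perm.mul_apply, hgp]
  have hcA : c p ∉ ({none, some 0} : Finset GolayPt) := by
    intro hm
    obtain ⟨w, -, hw⟩ := Finset.exists_mem_notMem_of_card_lt_card
      (s := insert p ({none, some 0} : Finset GolayPt)) (t := Finset.univ) (by
        rw [Finset.card_insert_of_notMem hp, Finset.card_univ, Fintype.card_option, ZMod.card]
        decide)
    simp only [Finset.mem_insert, not_or] at hw
    obtain ⟨g, hg, hgp⟩ := exists_fixer_move (A := {none, some 0}) (by decide) hp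
      (show w ∉ ({none, some 0} : Finset GolayPt) by simp [hw.2])
    apply hw.1
    apply c.injective
    calc c w = (c * g) p := by rw [Equiv.Perm.mul_apply, hgp]
      _ = (g * c) p := by rw [hc g hg]
      _ = c p := hg.2 _ hm
  obtain ⟨w, -, hw⟩ := Finset.exists_mem_notMem_of_card_lt_card
    (s := insert (c p) (insert p ({none, some 0} : Finset GolayPt))) (t := Finset.univ) (by
      refine lt_of_le_of_lt (Finset.card_insert_le _ _) ?_
      rw [Finset.card_insert_of_notMem hp, Finset.card_univ, Fintype.card_option, ZMod.card]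
      decide)
  simp only [Finset.mem_insert, not_or] at hw
  obtain ⟨g, hg, hgq⟩ := exists_fixer_move (A := insert p ({none, some 0} : Finset GolayPt)) (p := c p) (q := w)
    (by rw [Finset.card_insert_of_notMem hp]; decide)
    (by rw [Finset.mem_insert, not_or]; exact ⟨hne, hcA⟩)
    (by simp only [Finset.mem_insert, not_or]; exact hw.2)
  have hg' : g ∈ fixer {none, some 0} := ⟨hg.1, fun a ha => hg.2 a (Finset.mem_insert_of_mem ha)⟩
  exact hw.1 (hgq.symm.trans (key g hg' (hg.2 p (Finset.mem_insert_self _ _))))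

theorem out_M22 : Nat.card (Out ↥Spor.M22) = 2 := by
  rw [M22_eq_fixer]
  obtain ⟨w, hw, hwn, hw0⟩ := exists_swap_elem
  have hwA : ∀ a ∈ ({none, some 0} : Finset GolayPt), w a ∈ ({none, some 0} : Finset GolayPt) := by
    intro a ha
    simp only [Finset.mem_insert, Finset.mem_singleton] at ha ⊢
    rcases ha with rfl | rfl
    · exact Or.inr hwn
    · exact Or.inl hw0
  have hwA' : ∀ a ∈ ({none, some 0} : Finset GolayPt), w⁻¹ a ∈ ({none, some 0} : Finset GolayPt) := by
    intro a ha
    simp only [Finset.mem_insert, Finset.mem_singleton] at ha ⊢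
    rcases ha with rfl | rfl
    · right; rw [Equiv.Perm.inv_eq_iff_eq, hw0]
    · left; rw [Equiv.Perm.inv_eq_iff_eq, hwn]
  set ψ := pairAut w hw hwA hwA' with hψ
  have hout : ψ ∉ Inn (fixer {none, some 0}) := by
    rintro ⟨g, hg⟩
    set c : Equiv.Perm GolayPt := ((g : Equiv.Perm GolayPt))⁻¹ * w with hc
    have hcomm : ∀ k ∈ fixer {none, some 0}, c * k = k * c := by
      intro k hk
      have h := congrArg Subtype.val (DFunLike.congr_fun hg ⟨k, hk⟩)
      rw [MulAut.conj_apply, hψ, pairAut_apply] at h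
      simp only [Subgroup.coe_mul, Subgroup.coe_inv] at h
      rw [hc]
      calc (g : Equiv.Perm GolayPt)⁻¹ * w * k
          = (g : Equiv.Perm GolayPt)⁻¹ * (w * k * w⁻¹) * w := by group
        _ = k * ((g : Equiv.Perm GolayPt)⁻¹ * w) := by rw [← h]; group
    have h9 : 9 ≤ (fixPts c).card := by
      refine le_trans ?_ (Finset.card_le_card (s := ({none, some 0} : Finset GolayPt)ᶜ) fun p hp =>
        mem_fixPts.2 (centralizes_fixer_pair hcomm p (Finset.mem_compl.1 hp)))
      rw [Finset.card_compl, Fintype.card_option, ZMod.card]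
      decide
    have hone := eq_one_of_fix (Subgroup.mul_mem _ (Subgroup.inv_mem _ g.2.1) hw) h9
    rw [inv_mul_eq_one] at hone
    have := g.2.2 none (by simp)
    rw [hone, hwn] at this
    exact absurd this (by simp)
  have hall : ∀ φ : MulAut (fixer {none, some 0}),
      φ ∈ Inn (fixer {none, some 0}) ∨ ψ⁻¹ * φ ∈ Inn (fixer {none, some 0}) := by
    intro φ
    obtain ⟨σ, hfix, hσ⟩ := exists_perm_of_autom (Or.inr (Or.inr ⟨none, some 0, by simp, rfl⟩)) φ
    obtain ⟨h1, h2⟩ := normalizes_of_autom φ hσ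
    rcases normalizer_fixer_two hfix h1 h2 with h | h
    · exact Or.inl (mem_inn_of_conj ⟨h, hfix⟩ hσ)
    · right
      refine mem_inn_of_conj (σ := w⁻¹ * (Equiv.swap none (some 0) * σ))
        ⟨Subgroup.mul_mem _ (Subgroup.inv_mem _ hw) h, fun a ha => ?_⟩ fun g => ?_
      · rw [Equiv.Perm.mul_apply, Equiv.Perm.mul_apply, hfix a ha, Equiv.Perm.inv_eq_iff_eq]
        simp only [Finset.mem_insert, Finset.mem_singleton] at ha
        rcases ha with rfl | rfl
        · rw [Equiv.swap_apply_left, hwn]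
        · rw [Equiv.swap_apply_right, hw0]
      · have hcs : Equiv.swap none (some 0) * ((φ g : fixer {none, some 0}) : Equiv.Perm GolayPt) =
            ((φ g : fixer {none, some 0}) : Equiv.Perm GolayPt) * Equiv.swap none (some 0) := by
          rw [Equiv.mul_swap_eq_swap_mul, (φ g).2.2 none (by simp), (φ g).2.2 (some 0) (by simp)]
        have e : ((ψ⁻¹ * φ) g : fixer {none, some 0}) = ψ.symm (φ g) := rfl
        rw [e]
        change w⁻¹ * ((φ g : fixer {none, some 0}) : Equiv.Perm GolayPt) * w = _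
        have e2 : ((φ g : fixer {none, some 0}) : Equiv.Perm GolayPt) =
            Equiv.swap none (some 0) * (σ * (g : Equiv.Perm GolayPt) * σ⁻¹) * (Equiv.swap none (some 0))⁻¹ := by
          rw [← hσ g, hcs]; group
        rw [e2]
        group
  rw [Nat.card_eq_two_iff]
  refine ⟨QuotientGroup.mk 1, QuotientGroup.mk ψ, fun h => hout (by simpa using QuotientGroup.eq.1 h), ?_⟩
  refine Set.eq_univ_of_forall fun x => ?_
  obtain ⟨φ, rfl⟩ := QuotientGroup.mk_surjective x
  rcases hall φ with h | h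
  · exact Or.inl (QuotientGroup.eq.2 (by simpa using h)).symm
  · exact Or.inr (QuotientGroup.eq.2 h).symm

end Cfsg.Lib.Golay
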